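import Cfsg.Agent.Lib.Chev.Checks
/-
The bundle of all kernel-checked facts about the tables of one datum.
-/
set_option autoImplicit false

namespace CfsgLib.Chev

open Cfsg.Lie

/-- The tables `T` pass all the checks for the datum `D`. -/
structure Checked (D : ChevalleyDatum) (T : Tabs) : Prop where
  chain : chainCheck D T = true
  cartanTab : cartanCheck D T = true
  shape : shapeCheck D T = true
  root : rootCheck D T = true
  lin : linCheck D T = true
  weight : weightCheck D T = true
  pow : powCheck D T = true
  theta : thetaCheck D T = true
  refl : reflCheck D T = true
  monomial : nCheck D T = true
  gen : genCheck D T = true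
  deriv : ∀ i < D.rank, derivCheck D T (D.simple i) = true

end CfsgLib.Chev
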