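import Cfsg.Agent.Lib.Chev.Gen.ChkG2
import Cfsg.Agent.Lib.Chev.Gen.ChkB2
import Cfsg.Agent.Lib.Chev.Gen.ChkD4
import Cfsg.Agent.Lib.Chev.Gen.ChkF4
import Cfsg.Agent.Lib.Chev.Gen.ChkE6
import Cfsg.Agent.Lib.Chev.Gen.ChkE7
import Cfsg.Agent.Lib.Chev.Gen.ChkE8
/-
The seven tabulated data pass the checks.
-/
set_option autoImplicit false

namespace CfsgLib.Chev

open Cfsg.Lie

theorem exists_checked {D : ChevalleyDatum}
    (hD : D ∈ [chevG2, chevB2, chevD4, chevF4, chevE6, chevE7, chevE8]) : ∃ T, Checked D T := by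
  simp only [List.mem_cons, List.not_mem_nil, or_false] at hD
  rcases hD with rfl | rfl | rfl | rfl | rfl | rfl | rfl
  · exact ⟨_, G2.checked⟩
  · exact ⟨_, B2.checked⟩
  · exact ⟨_, D4.checked⟩
  · exact ⟨_, F4.checked⟩
  · exact ⟨_, E6.checked⟩
  · exact ⟨_, E7.checked⟩
  · exact ⟨_, E8.checked⟩

end CfsgLib.Chev
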