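import Cfsg.Agent.Lib.Chev.BN
/-
Consequences: nilpotency of U, solvability of B, the longest element, trivial core of B.
-/
set_option autoImplicit false
set_option linter.unusedSectionVars false

namespace CfsgLib.Chev

open Cfsg.Lie
open scoped Matrix

variable {D : ChevalleyDatum} {T : Tabs} {F : Type*} [Field F]

theorem refls_add (L : List (Fin D.rank)) (v w : Fin D.rank → ℤ) : refls D L (v + w) = refls D L v + refls D L w := by
  induction L with
  | nil => rfl
  | cons i L ih =>
      show refl D i (refls D L (v + w)) = refl D i (refls D L v) + refl D i (refls D L w)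
      rw [ih, refl_add]

theorem refls_smul (L : List (Fin D.rank)) (c : ℤ) (v : Fin D.rank → ℤ) : refls D L (c • v) = c • refls D L v := by
  induction L with
  | nil => rfl
  | cons i L ih =>
      show refl D i (refls D L (c • v)) = c • refl D i (refls D L v)
      rw [ih, refl_smul]

theorem refls_zero (L : List (Fin D.rank)) : refls D L 0 = 0 := by
  have := refls_smul L (0 : ℤ) 0
  simpa using this

section
variable (hc : Checked D T)
include hc

/-- a word whose images of all fundamental roots are negative sends all positive roots to negative ones -/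
theorem sigs_neg_of_simple {L : List (Fin D.rank)}
    (h : ∀ i : Fin D.rank, sigs D T L (D.simple i.val) < D.nroots / 2) {r : ℕ} (hr : r < D.nroots)
    (hp : D.nroots / 2 ≤ r) : sigs D T L r < D.nroots / 2 := by
  set f : (Fin D.rank → ℤ) → ℤ := fun v => keyLin D (refls D L v)
  have hneg : ∀ j : Fin D.rank, f (Pi.single j 1) < 0 := fun j => by
    have := (key_neg_iff hc (sigs_lt hc L (simple_lt hc j.2))).2 (h j)
    rw [rv_sigs hc L (simple_lt hc j.2), rv_simple hc] at this
    exact this
  have hsum : ∀ s : Finset (Fin D.rank),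
      f (∑ j ∈ s, Pi.single j (rv D T r j)) = ∑ j ∈ s, rv D T r j * f (Pi.single j 1) := by
    intro s
    induction s using Finset.induction_on with
    | empty => simp [f, refls_zero, keyLin_zero]
    | @insert a s ha ih =>
        rw [Finset.sum_insert ha, Finset.sum_insert ha, ← ih]
        simp only [f, refls_add, keyLin_add]
        congr 1
        rw [show (Pi.single a (rv D T r a) : Fin D.rank → ℤ) = rv D T r a • Pi.single a (1 : ℤ) by
          rw [← Pi.single_smul]; simp, refls_smul, keyLin_smul]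
  have := hsum Finset.univ
  rw [Finset.univ_sum_single] at this
  rw [← key_neg_iff hc (sigs_lt hc L hr), rv_sigs hc L hr]
  show f (rv D T r) < 0
  rw [this]
  have hnn : ∀ j : Fin D.rank, 0 ≤ rv D T r j := fun j => (((root_spec hc hr).2.2.2.2 j j.2).2.1 hp).2
  by_contra hh
  have hz : ∀ j : Fin D.rank, rv D T r j = 0 := by
    intro j
    by_contra hne
    apply hh
    exact Finset.sum_neg' (fun k _ => mul_nonpos_of_nonneg_of_nonpos (hnn k) (hneg k).le)
      ⟨j, Finset.mem_univ _, mul_neg_of_pos_of_neg (lt_of_le_of_ne (hnn j) (Ne.symm hne)) (hneg j)⟩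
  have := (key_pos_iff hc hr).2 hp
  rw [show rv D T r = 0 from funext hz, keyLin_zero] at this
  omega

/-- a word reversing all positive roots -/
theorem exists_longest : ∃ L : List (Fin D.rank), ∀ r, r < D.nroots → D.nroots / 2 ≤ r → sigs D T L r < D.nroots / 2 := by
  classical
  let inv : List (Fin D.rank) → Finset ℕ := fun L =>
    (Finset.range D.nroots).filter fun r => D.nroots / 2 ≤ r ∧ sigs D T L r < D.nroots / 2
  have key : ∀ m L, D.nroots - (inv L).card ≤ m → ∃ M : List (Fin D.rank), ∀ i : Fin D.rank,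
      sigs D T M (D.simple i.val) < D.nroots / 2 := by
    intro m
    induction m with
    | zero =>
        intro L hL
        refine ⟨L, fun i => ?_⟩
        have e : inv L = Finset.range D.nroots := Finset.eq_of_subset_of_card_le (Finset.filter_subset _ _) (by
          rw [Finset.card_range]; omega)
        have : D.simple i.val ∈ inv L := e ▸ Finset.mem_range.2 (simple_lt hc i.2)
        exact (Finset.mem_filter.1 this).2.2
    | succ m ih =>
        intro L hL
        by_cases h : ∀ i : Fin D.rank, sigs D T L (D.simple i.val) < D.nroots / 2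
        · exact ⟨L, h⟩
        push Not at h
        obtain ⟨i, hi⟩ := h
        apply ih (L ++ [i])
        have hp := simple_lt hc i.2
        have hh := half_le_simple hc i.2
        have hsub : insert (D.simple i.val) ((inv L).image (sig D T i)) ⊆ inv (L ++ [i]) := by
          intro r hr
          rcases Finset.mem_insert.1 hr with rfl | hr
          · refine Finset.mem_filter.2 ⟨Finset.mem_range.2 hp, hh, ?_⟩
            rw [sigs_append, show sigs D T [i] (D.simple i.val) = sig D T i (D.simple i.val) from rfl, sig_simple hc,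
              sigs_neg hc L hp, neg_eq hc (sigs_lt hc L hp)]
            have := sigs_lt hc L hp; have := nroots_eq_two_mul hc; omega
          · obtain ⟨s, hs, rfl⟩ := Finset.mem_image.1 hr
            obtain ⟨hs1, hs2, hs3⟩ := Finset.mem_filter.1 hs
            rw [Finset.mem_range] at hs1
            have hne : s ≠ D.simple i.val := fun e => by rw [e] at hs3; omega
            refine Finset.mem_filter.2 ⟨Finset.mem_range.2 (sig_lt hc i hs1), (sig_pos hc i hs1 hs2 hne).1, ?_⟩
            rw [sigs_append, show sigs D T [i] (sig D T i s) = sig D T i (sig D T i s) from rfl, sig_sig hc i hs1]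
            exact hs3
        have hcard : (inv L).card + 1 ≤ (inv (L ++ [i])).card := by
          refine le_trans ?_ (Finset.card_le_card hsub)
          rw [Finset.card_insert_of_notMem, Finset.card_image_of_injOn]
          · intro a ha b hb e
            have ha' := Finset.mem_range.1 (Finset.mem_filter.1 ha).1
            have hb' := Finset.mem_range.1 (Finset.mem_filter.1 hb).1
            have e' : sig D T i (sig D T i a) = sig D T i (sig D T i b) := congrArg (sig D T i) e
            rwa [sig_sig hc i ha', sig_sig hc i hb'] at e'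
          · intro hmem
            obtain ⟨s, hs, e⟩ := Finset.mem_image.1 hmem
            obtain ⟨hs1, hs2, hs3⟩ := Finset.mem_filter.1 hs
            rw [Finset.mem_range] at hs1
            by_cases hne : s = D.simple i.val
            · rw [hne] at hs3; omega
            · exact (sig_pos hc i hs1 hs2 hne).2 e
        omega
  obtain ⟨M, hM⟩ := key _ [] le_rfl
  exact ⟨M, fun r hr hp => sigs_neg_of_simple hc hM hr hp⟩

theorem exists_longest_conj :
    ∃ n ∈ D.monomialSubgroup F, (D.posUnipotent F).map (MulAut.conj n).toMonoidHom = D.negUnipotent F := by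
  obtain ⟨L, hL⟩ := exists_longest hc
  refine ⟨nProd D F L, nProd_mem_monomial hc L, le_antisymm ?_ ?_⟩
  · rw [posUnipotent_eq hc, negUnipotent_eq hc, Subgroup.map_le_iff_le_comap, uGen_le_iff]
    intro r hr hp t
    obtain ⟨c, -, hcx⟩ := nProd_conj_elX hc (F := F) L hr
    rw [Subgroup.mem_comap, MulEquiv.coe_toMonoidHom, MulAut.conj_apply, hcx]
    exact elX_mem_uGen (sigs_lt hc L hr) (hL r hr hp) _
  · rw [negUnipotent_eq hc, posUnipotent_eq hc, uGen_le_iff]
    intro s hs hneg t
    -- the root s is the image of a positive root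
    set r := sigs D T L.reverse s with hrdef
    have hr := sigs_lt hc L.reverse hs
    have hsr : sigs D T L r = s := by
      have := sigs_reverse hc L.reverse hs
      rwa [List.reverse_reverse] at this
    have hp : D.nroots / 2 ≤ r := by
      by_contra hh
      have hnr := neg_lt hc hr
      have h1 := hL (D.neg r) hnr (by have e : D.neg r = _ := neg_eq hc (a := r) hr; have := nroots_eq_two_mul hc; omega)
      rw [sigs_neg hc L hr, hsr, neg_eq hc hs] at h1
      have := nroots_eq_two_mul hc; omega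
    obtain ⟨c, -, hcx⟩ := nProd_conj_elX hc (F := F) L hr
    refine ⟨elX D F r ((c : F)⁻¹ * t), elX_mem_uGen hr (P := fun r => D.nroots / 2 ≤ r) hp _, ?_⟩
    rw [MulEquiv.coe_toMonoidHom, MulAut.conj_apply, hcx, hsr, mul_inv_cancel_left₀ c.ne_zero]

/-- V H, as a set -/
theorem mem_neg_sup_diagonal {g : GL D.Idx F} (hg : g ∈ uGen D F (fun r => r < D.nroots / 2) ⊔ D.diagonalSubgroup F) :
    ∃ v ∈ uGen D F (fun r => r < D.nroots / 2), ∃ h ∈ D.diagonalSubgroup F, g = v * h := by
  rw [← SetLike.mem_coe, Subgroup.coe_mul_of_right_le_normalizer_left _ _ (diagonal_le_normalizer hc _)] at hg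
  obtain ⟨v, hv, h, hh, rfl⟩ := hg
  exact ⟨v, hv, h, hh, rfl⟩

theorem borel_inf_negH {g : GL D.Idx F} (hb : g ∈ D.borelSubgroup F)
    (hg : g ∈ uGen D F (fun r => r < D.nroots / 2) ⊔ D.diagonalSubgroup F) : g ∈ D.diagonalSubgroup F := by
  obtain ⟨v, hv, h, hh, rfl⟩ := mem_neg_sup_diagonal hc hg
  have := mul_mem hb (inv_mem (diagonal_le_borel hc hh))
  rw [mul_inv_cancel_right] at this
  rw [borel_inf_neg hc this hv, one_mul]
  exact hh

theorem core_borel : ((D.borelSubgroup F).subgroupOf (D.group F)).normalCore = ⊥ := by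
  rw [eq_bot_iff]
  intro g hg
  obtain ⟨n, hn, hnU⟩ := exists_longest_conj hc (F := F)
  have hnG := monomial_le_group hc hn
  have hconj : ∀ k : GL D.Idx F, k ∈ D.group F → k * (g : GL D.Idx F) * k⁻¹ ∈ D.borelSubgroup F := fun k hk =>
    Subgroup.mem_subgroupOf.1 (hg ⟨k, hk⟩)
  -- every conjugate lies in H
  have hH : ∀ k ∈ D.group F, k * (g : GL D.Idx F) * k⁻¹ ∈ D.diagonalSubgroup F := by
    intro k hk
    refine borel_inf_negH hc (hconj k hk) ?_
    have h1 := hconj (n⁻¹ * k) (mul_mem (inv_mem hnG) hk)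
    obtain ⟨u, hu, h, hh, e⟩ := (mem_borel hc).1 h1
    rw [show k * (g : GL D.Idx F) * k⁻¹ = (n * u * n⁻¹) * (n * h * n⁻¹) by
      rw [show (n * u * n⁻¹) * (n * h * n⁻¹) = n * (u * h) * n⁻¹ by group, ← e]; group]
    refine mul_mem (Subgroup.mem_sup_left ?_) (Subgroup.mem_sup_right (monomial_conj_diagonal hc hn hh))
    rw [← negUnipotent_eq hc, ← hnU, posUnipotent_eq hc]
    exact ⟨u, hu, by rw [MulEquiv.coe_toMonoidHom, MulAut.conj_apply]⟩
  obtain ⟨c, hgc⟩ := (mem_diagonal hc).1 (by simpa using hH 1 (one_mem _))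
  have hchar : ∀ r, r < D.nroots → chi (hPar D F c) (rv D T r) = 1 := by
    intro r hr
    have hx := hH (elX D F r 1) (elX_mem_group hc hr 1)
    rw [← hgc, elX_inv hc F hr] at hx
    have h2 : elX D F r (1 - (chi (hPar D F c) (rv D T r) : F)) ∈ D.diagonalSubgroup F := by
      have e := torus_conj_elX hc (hPar D F c) hr (-1 : F)
      have := mul_mem hx (inv_mem ((mem_diagonal hc).2 ⟨c, rfl⟩))
      rw [show elX D F r 1 * torus D T F (hPar D F c) * elX D F r (-1) * (torus D T F (hPar D F c))⁻¹ =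
        elX D F r 1 * (torus D T F (hPar D F c) * elX D F r (-1) * (torus D T F (hPar D F c))⁻¹) by group, e,
        elX_add hc F hr] at this
      convert this using 2; ring
    have h1 : elX D F r (1 - (chi (hPar D F c) (rv D T r) : F)) = 1 := by
      rcases Nat.lt_or_ge r (D.nroots / 2) with hneg | hpos
      · exact borel_inf_neg hc (diagonal_le_borel hc h2) (elX_mem_uGen hr (P := fun r => r < D.nroots / 2) hneg _)
      · exact pos_inf_diag hc (elX_mem_uGen hr (P := fun r => D.nroots / 2 ≤ r) hpos _) h2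
    have := (elX_eq_one_iff hc hr _).1 h1
    exact Units.ext (sub_eq_zero.1 this).symm
  have hone : torus D T F (hPar D F c) = 1 := by
    ext1
    rw [coe_torus, Units.val_one, ← Matrix.diagonal_one]
    congr 1; funext x
    rcases x with j | s
    · rw [wI_inl, chi_zero, Units.val_one]
    · rw [wI_inr, hchar s s.2, Units.val_one]
  rw [Subgroup.mem_bot]
  exact Subtype.ext (hgc.symm.trans hone)

variable (hcomm : CommOne D T)
include hcomm

theorem comm_step {P : ℕ → Prop} (hP : ClosedPos D T P) (k : ℕ) {x : GL D.Idx F}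
    (hx : x ∈ uGen D F (fun r => P r ∧ k ≤ r)) {g : GL D.Idx F} (hg : g ∈ uGen D F P) :
    x * g * x⁻¹ * g⁻¹ ∈ uGen D F (fun r => P r ∧ k + 1 ≤ r) := by
  set K := uGen D F (fun r => P r ∧ k + 1 ≤ r)
  have hnorm : ∀ g ∈ uGen D F P, g ∈ Subgroup.normalizer (K : Set (GL D.Idx F)) := by
    intro g hg
    induction hg using Subgroup.closure_induction with
    | mem y hy =>
        obtain ⟨r, t, hr, hPr, rfl⟩ := hy
        exact elX_mem_normalizer hc hcomm hr (fun s hs ⟨hPs, hks⟩ _ =>
          ⟨ne_neg_of_pos hc hr (hP.1 r hr hPr) (hP.1 s hs hPs), fun v hv =>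
            ⟨hP.2 r s v hr hs hPr hPs hv, by
              have := (combRoot_gt hc hr hs (hP.1 r hr hPr) (hP.1 s hs hPs) hv).2; omega⟩⟩) t
    | one => exact one_mem _
    | mul a b _ _ ha hb => exact mul_mem ha hb
    | inv a _ ha => exact inv_mem ha
  have conjK : ∀ {g k : GL D.Idx F}, g ∈ uGen D F P → k ∈ K → g * k * g⁻¹ ∈ K := fun hg hk =>
    ((Subgroup.mem_normalizer_iff).1 (hnorm _ hg) _).1 hk
  have hgen : ∀ (r : ℕ), r < D.nroots → P r → ∀ (s : ℕ), s < D.nroots → P s → k ≤ s → ∀ t u : F,
      elX D F s u * elX D F r t * (elX D F s u)⁻¹ * (elX D F r t)⁻¹ ∈ K := by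
    intro r hr hPr s hs hPs hks t u
    by_cases e : s = r
    · subst e
      rw [elX_inv hc F hs, elX_inv hc F hs, elX_add hc F hs, elX_add hc F hs, elX_add hc F hs,
        show u + t + -u + -t = 0 by ring, elX_zero hc F hs]
      exact one_mem K
    · have hne := ne_neg_of_pos hc hr (hP.1 r hr hPr) (hP.1 s hs hPs)
      rw [elX_comm hc hcomm hr hs e hne]
      have hw : wordGL D F (D.commWord F r s t u) ∈ K := wordGL_mem hc hr hs (fun v hv =>
        ⟨hP.2 r s v hr hs hPr hPs hv, by
          have := (combRoot_gt hc hr hs (hP.1 r hr hPr) (hP.1 s hs hPs) hv).2; omega⟩) _ _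
      rw [show ∀ a b w : GL D.Idx F, a * b * w * b⁻¹ * a⁻¹ = a * (b * w * b⁻¹) * a⁻¹ from fun a b w => by group]
      exact conjK (elX_mem_uGen hr hPr t) (conjK (elX_mem_uGen hs hPs u) hw)
  have hxU : uGen D F (fun r => P r ∧ k ≤ r) ≤ uGen D F P := uGen_mono fun _ _ h => h.1
  induction hx using Subgroup.closure_induction generalizing g with
  | mem x hx =>
      obtain ⟨s, u, hs, ⟨hPs, hks⟩, rfl⟩ := hx
      induction hg using Subgroup.closure_induction with
      | mem y hy => obtain ⟨r, t, hr, hPr, rfl⟩ := hy; exact hgen r hr hPr s hs hPs hks t u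
      | one => simp
      | mul a b ha _ iha ihb =>
          rw [show ∀ x : GL D.Idx F, x * (a * b) * x⁻¹ * (a * b)⁻¹ =
            (x * a * x⁻¹ * a⁻¹) * (a * (x * b * x⁻¹ * b⁻¹) * a⁻¹) from fun x => by group]
          exact mul_mem iha (conjK ha ihb)
      | inv a ha iha =>
          rw [show ∀ x : GL D.Idx F, x * a⁻¹ * x⁻¹ * (a⁻¹)⁻¹ = a⁻¹ * (x * a * x⁻¹ * a⁻¹)⁻¹ * (a⁻¹)⁻¹
            from fun x => by group]
          exact conjK (inv_mem ha) (inv_mem iha)
  | one => simp
  | mul a b ha _ iha ihb =>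
      rw [show a * b * g * (a * b)⁻¹ * g⁻¹ = a * (b * g * b⁻¹ * g⁻¹) * a⁻¹ * (a * g * a⁻¹ * g⁻¹) by group]
      exact mul_mem (conjK (hxU ha) (ihb hg)) (iha hg)
  | inv a ha iha =>
      rw [show a⁻¹ * g * (a⁻¹)⁻¹ * g⁻¹ = a⁻¹ * (a * g * a⁻¹ * g⁻¹)⁻¹ * (a⁻¹)⁻¹ by group]
      exact conjK (inv_mem (hxU ha)) (inv_mem (iha hg))

theorem isNilpotent_uGen {P : ℕ → Prop} (hP : ClosedPos D T P) : Group.IsNilpotent ↥(uGen D F P) := by
  rw [nilpotent_iff_finite_ascending_central_series]
  refine ⟨D.nroots, fun n => (uGen D F (fun r => P r ∧ D.nroots - n ≤ r)).subgroupOf (uGen D F P), ⟨?_, ?_⟩, ?_⟩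
  · have : uGen D F (fun r => P r ∧ D.nroots - 0 ≤ r) = ⊥ := by
      rw [eq_bot_iff, uGen_le_iff]; intro r hr ⟨_, h⟩; omega
    dsimp only
    rw [this, Subgroup.bot_subgroupOf]
  · intro x n hx g
    rw [Subgroup.mem_subgroupOf] at hx ⊢
    exact uGen_mono (fun r _ h => ⟨h.1, by omega⟩)
      (comm_step hc hcomm hP (D.nroots - (n + 1)) hx g.2)
  · dsimp only
    rw [show D.nroots - D.nroots = 0 by omega, uGen_congr (P := fun r => P r ∧ 0 ≤ r) (Q := P) (fun r _ => ⟨fun h => h.1, fun h => ⟨h, r.zero_le⟩⟩),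
      Subgroup.subgroupOf_self]

theorem isSolvable_borel : Group.IsSolvable ↥(D.borelSubgroup F) := by
  set U := uGen D F (fun r => D.nroots / 2 ≤ r)
  set B := D.borelSubgroup F
  haveI : Group.IsNilpotent ↥U := isNilpotent_uGen hc hcomm (closedPos_pos hc)
  haveI hN : (U.subgroupOf B).Normal := ⟨fun u hu b => by
    rw [Subgroup.mem_subgroupOf] at hu ⊢
    exact borel_conj_pos hc b.2 hu⟩
  haveI hq : Group.IsSolvable (↥B ⧸ U.subgroupOf B) := by
    apply Group.isSolvable_of_comm
    intro a b
    induction a using QuotientGroup.induction_on with | H a => ?_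
    induction b using QuotientGroup.induction_on with | H b => ?_
    rw [← QuotientGroup.mk_mul, ← QuotientGroup.mk_mul, QuotientGroup.eq, Subgroup.mem_subgroupOf]
    obtain ⟨u, hu, h, hh, ea⟩ := (mem_borel hc).1 a.2
    obtain ⟨v, hv, k, hk, eb⟩ := (mem_borel hc).1 b.2
    have hkh : k * h = h * k := by
      obtain ⟨c, rfl⟩ := (mem_diagonal hc).1 hk; obtain ⟨d, rfl⟩ := (mem_diagonal hc).1 hh
      rw [← map_mul, ← map_mul, ← map_mul, ← map_mul, mul_comm]
    simp only [Subgroup.coe_mul, Subgroup.coe_inv]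
    rw [ea, eb, show ((u * h) * (v * k))⁻¹ * ((v * k) * (u * h)) =
      ((h * k)⁻¹ * (h * v * h⁻¹)⁻¹ * (h * k)) * ((h * k)⁻¹ * u⁻¹ * (h * k)) * ((h * k)⁻¹ * v * (h * k)) *
        ((h * k)⁻¹ * (k * u * k⁻¹) * (h * k)) * ((h * k)⁻¹ * (k * h)) by group, hkh, inv_mul_cancel, mul_one]
    have hhk := mul_mem hh hk
    exact mul_mem (mul_mem (mul_mem (diag_conj_mem' hc _ hhk (inv_mem (diag_conj_mem hc _ hh hv)))
      (diag_conj_mem' hc _ hhk (inv_mem hu))) (diag_conj_mem' hc _ hhk hv))
      (diag_conj_mem' hc _ hhk (diag_conj_mem hc _ hk hu))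
  refine Group.isSolvable_of_ker_le_range (G' := ↥U) (G'' := ↥B ⧸ U.subgroupOf B)
    (Subgroup.inclusion (pos_le_borel hc)) (QuotientGroup.mk' _) ?_
  intro x hx
  rw [QuotientGroup.ker_mk', Subgroup.mem_subgroupOf] at hx
  exact ⟨⟨x, hx⟩, rfl⟩

end

end CfsgLib.Chev

namespace CfsgLib.Chev
open Cfsg.Lie
open scoped Matrix Pointwise

/-- B ∪ B n_p B is a subgroup -/
theorem exists_minParabolic {D : ChevalleyDatum} {T : Tabs} {F : Type*} [Field F] (hc : Checked D T) (hcomm : CommOne D T)
    (i : Fin D.rank) {n : GL D.Idx F} (hn : n = elN D F (D.simple i.val) 1) :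
    ∃ P : Subgroup (GL D.Idx F), (P : Set (GL D.Idx F)) =
      (D.borelSubgroup F : Set (GL D.Idx F)) ∪ DoubleCoset.doubleCoset n (D.borelSubgroup F : Set (GL D.Idx F)) (D.borelSubgroup F) := by
  subst hn
  set s := elN D F (D.simple i.val) (1 : F)
  set B := D.borelSubgroup F
  have hsN : s ∈ D.monomialSubgroup F := elN_mem_monomial hc (simple_lt hc i.2)
  have hss : s * s ∈ B := diagonal_le_borel hc (elN_simple_sq hc i)
  have mem : ∀ g, g ∈ DoubleCoset.doubleCoset s (B : Set (GL D.Idx F)) B ↔ ∃ x ∈ B, ∃ y ∈ B, g = x * s * y := fun g =>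
    DoubleCoset.mem_doubleCoset
  have cl : ∀ b ∈ B, s * b * s ∈ (B : Set (GL D.Idx F)) ∪ DoubleCoset.doubleCoset s (B : Set (GL D.Idx F)) B := by
    intro b hb
    rcases bn_axiom hc hcomm i hsN hb with h | h
    · left
      obtain ⟨x, hx, y, hy, e⟩ := DoubleCoset.mem_doubleCoset.1 h
      rw [e]
      exact mul_mem (mul_mem hx hss) hy
    · exact Or.inr h
  refine ⟨{ carrier := (B : Set (GL D.Idx F)) ∪ DoubleCoset.doubleCoset s (B : Set (GL D.Idx F)) B
            one_mem' := Or.inl (one_mem B)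
            mul_mem' := ?_
            inv_mem' := ?_ }, rfl⟩
  · intro a b ha hb
    rcases ha with ha | ha <;> rcases hb with hb | hb
    · exact Or.inl (mul_mem ha hb)
    · obtain ⟨x, hx, y, hy, rfl⟩ := (mem b).1 hb
      exact Or.inr ((mem _).2 ⟨a * x, mul_mem ha hx, y, hy, by group⟩)
    · obtain ⟨x, hx, y, hy, rfl⟩ := (mem a).1 ha
      exact Or.inr ((mem _).2 ⟨x, hx, y * b, mul_mem hy hb, by group⟩)
    · obtain ⟨x, hx, y, hy, rfl⟩ := (mem a).1 ha
      obtain ⟨x', hx', y', hy', rfl⟩ := (mem b).1 hb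
      rw [show x * s * y * (x' * s * y') = x * (s * (y * x') * s) * y' by group]
      rcases cl _ (mul_mem hy hx') with h | h
      · exact Or.inl (mul_mem (mul_mem hx h) hy')
      · obtain ⟨u, hu, v, hv, e⟩ := (mem _).1 h
        exact Or.inr ((mem _).2 ⟨x * u, mul_mem hx hu, v * y', mul_mem hv hy', by rw [e]; group⟩)
  · intro a ha
    rcases ha with ha | ha
    · exact Or.inl (inv_mem ha)
    · obtain ⟨x, hx, y, hy, rfl⟩ := (mem a).1 ha
      exact Or.inr ((mem _).2 ⟨y⁻¹ * (s * s)⁻¹, mul_mem (inv_mem hy) (inv_mem hss), x⁻¹, inv_mem hx, by group⟩)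

end CfsgLib.Chev
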