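import Cfsg.Agent.Lib.Chev.BN
import Cfsg.Agent.Lib.Chev.Structure
import Cfsg.Agent.Lib.BN.Basic
import Cfsg.Prelude.Def_ChevG2
import Cfsg.Prelude.Def_ChevB2
import Cfsg.Prelude.Def_ChevD4
import Cfsg.Prelude.Def_ChevF4
import Cfsg.Prelude.Def_ChevE6
import Cfsg.Prelude.Def_ChevE7
import Cfsg.Prelude.Def_ChevE8

/-!
The unipotent radical of a standard parabolic subgroup: it is normal, a `p`-group in characteristic
`p`, and contains every normal subgroup of the parabolic subgroup that centralises it.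
-/

set_option autoImplicit false
set_option linter.unusedSectionVars false

namespace CfsgLib.Chev

open Cfsg.Lie
open scoped Matrix

variable {D : ChevalleyDatum} {T : Tabs} {F : Type*} [Field F]

/-- every fundamental root can be added to some root involving any other fundamental root -/
def linkTest (D : ChevalleyDatum) : Bool :=
  (List.range D.rank).all fun i => (List.range D.rank).all fun j =>
    decide (i = j) || (List.range D.nroots).any fun r =>
      decide (D.nroots / 2 ≤ r) && decide ((D.coroot.getD r #[]).getD j 0 ≠ 0) &&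
        (D.chainRoot (D.simple i) r 1).isSome

theorem linkTest_of_mem (hD : D ∈ [chevG2, chevB2, chevD4, chevF4, chevE6, chevE7, chevE8]) :
    linkTest D = true := by
  simp only [List.mem_cons, List.not_mem_nil, or_false] at hD
  rcases hD with rfl | rfl | rfl | rfl | rfl | rfl | rfl <;> decide +kernel

/-- positive roots outside the subsystem of `J` -/
def OutRoot (D : ChevalleyDatum) (J : Set ℕ) (r : ℕ) : Prop := D.nroots / 2 ≤ r ∧ ¬ D.InRootSub J r

theorem keyLin_refls (L : List (Fin D.rank)) (v : Fin D.rank → ℤ) :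
    keyLin D (refls D L v) = ∑ i, v i * keyLin D (refls D L (Pi.single i 1)) := by
  let φ : (Fin D.rank → ℤ) →+ ℤ :=
    AddMonoidHom.mk' (fun w => keyLin D (refls D L w)) fun a b => by rw [refls_add, keyLin_add]
  show φ v = ∑ i, v i * φ (Pi.single i 1)
  conv_lhs => rw [← Finset.univ_sum_single v, map_sum]
  refine Finset.sum_congr rfl fun i _ => ?_
  rw [show (Pi.single i (v i) : Fin D.rank → ℤ) = v i • Pi.single i 1 by rw [← Pi.single_smul]; simp,
    map_zsmul, smul_eq_mul]

theorem refl_apply_of_ne {i j : Fin D.rank} (h : j ≠ i) (v : Fin D.rank → ℤ) : refl D i v j = v j := by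
  simp [refl, h]

section
variable (hc : Checked D T)
include hc

theorem rv_nonneg {r : ℕ} (hr : r < D.nroots) (hp : D.nroots / 2 ≤ r) (j : Fin D.rank) : 0 ≤ rv D T r j :=
  (((root_spec hc hr).2.2.2.2 j j.2).2.1 hp).2

theorem outRoot_iff {J : Set ℕ} {r : ℕ} (hr : r < D.nroots) :
    OutRoot D J r ↔ D.nroots / 2 ≤ r ∧ ∃ j : Fin D.rank, (j : ℕ) ∉ J ∧ rv D T r j ≠ 0 := by
  simp only [OutRoot, inRootSub_iff hc, hr, true_and, not_forall, exists_prop]

theorem unipotentRadical_eq (J : Set ℕ) : D.unipotentRadical F J = uGen D F (OutRoot D J) := by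
  have : D.unipotentRadical F J = Subgroup.closure {g : GL D.Idx F | ∃ (r : ℕ) (t : F),
      (D.IsPosRoot r ∧ ¬ D.InRootSub J r) ∧ (g : Matrix D.Idx D.Idx F) = D.x F r t} := by
    simp only [ChevalleyDatum.unipotentRadical, and_assoc]
  rw [this, rootGen_eq hc _ fun r h => h.1.1]
  exact uGen_congr fun r hr => by simp [OutRoot, isPosRoot_iff hc, hr]

theorem outRoot_comb {J : Set ℕ} {a s v : ℕ} (ha : a < D.nroots) (hap : D.nroots / 2 ≤ a)
    (hs : s < D.nroots) (hS : OutRoot D J s) (hv : CombRoot D T a s v) : OutRoot D J v := by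
  rw [outRoot_iff hc hs] at hS
  obtain ⟨hsp, j, hj, hsj⟩ := hS
  have hvp : D.nroots / 2 ≤ v := (closedPos_pos hc).2 a s v ha hs hap hsp hv
  obtain ⟨hvn, α, β, -, hβ, e⟩ := hv
  rw [outRoot_iff hc hvn]
  refine ⟨hvp, j, hj, ?_⟩
  have h1 := rv_nonneg hc ha hap j
  have h2 := rv_nonneg hc hs hsp j
  rw [e, Pi.add_apply, Pi.smul_apply, Pi.smul_apply, smul_eq_mul, smul_eq_mul]
  have : (1 : ℤ) ≤ (β : ℤ) := by exact_mod_cast hβ
  have h3 : 0 ≤ (α : ℤ) * rv D T a j := mul_nonneg (Int.natCast_nonneg α) h1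
  nlinarith [mul_le_mul_of_nonneg_right this h2, lt_of_le_of_ne h2 (Ne.symm hsj)]

theorem outRoot_sig {J : Set ℕ} {i : Fin D.rank} (hi : (i : ℕ) ∈ J) {r : ℕ} (hr : r < D.nroots)
    (h : OutRoot D J r) : OutRoot D J (sig D T i r) := by
  rw [outRoot_iff hc hr] at h
  obtain ⟨hp, j, hj, hne⟩ := h
  have hji : j ≠ i := fun e => hj (e ▸ hi)
  have hrs : r ≠ D.simple i := fun e => hne (by rw [e, rv_simple hc]; simp [hji])
  rw [outRoot_iff hc (sig_lt hc i hr)]
  exact ⟨(sig_pos hc i hr hp hrs).1, j, hj, by rw [rv_sig hc i hr, refl_apply_of_ne hji]; exact hne⟩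

variable (hcomm : CommOne D T)
include hcomm

/-- the positive root elements normalise the radical -/
theorem pos_normalizes_radical (J : Set ℕ) :
    uGen D F (fun r => D.nroots / 2 ≤ r) ≤
      Subgroup.normalizer (uGen D F (OutRoot D J) : Set (GL D.Idx F)) := by
  rw [uGen_le_iff]
  intro a ha hap t
  exact elX_mem_normalizer hc hcomm ha (fun s hs hS _ =>
    ⟨ne_neg_of_pos hc ha hap hS.1, fun v hv => outRoot_comb hc ha hap hs hS hv⟩) t

theorem elN_normalizes_radical {J : Set ℕ} {i : Fin D.rank} (hi : (i : ℕ) ∈ J) :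
    elN D F (D.simple i.val) 1 ∈ Subgroup.normalizer (uGen D F (OutRoot D J) : Set (GL D.Idx F)) := by
  set n := elN D F (D.simple i.val) 1
  have key : ∀ g ∈ uGen D F (OutRoot D J), n * g * n⁻¹ ∈ uGen D F (OutRoot D J) := by
    intro g hg
    induction hg using Subgroup.closure_induction with
    | mem x hx =>
        obtain ⟨r, t, hr, hP, rfl⟩ := hx
        rw [nOne_conj_elX hc i hr]
        exact elX_mem_uGen (sig_lt hc i hr) (outRoot_sig hc hi hr hP) _
    | one => simp
    | mul a b _ _ ha hb =>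
        rw [show n * (a * b) * n⁻¹ = (n * a * n⁻¹) * (n * b * n⁻¹) by group]
        exact mul_mem ha hb
    | inv a _ ha =>
        rw [show n * a⁻¹ * n⁻¹ = (n * a * n⁻¹)⁻¹ by group]
        exact inv_mem ha
  rw [Subgroup.mem_normalizer_iff]
  refine fun g => ⟨key g, fun hg => ?_⟩
  obtain ⟨h, hh, he⟩ := nOne_inv hc (F := F) i
  have h1 : h * (n * (n * g * n⁻¹) * n⁻¹) * h⁻¹ ∈ uGen D F (OutRoot D J) := diag_conj_mem hc _ hh (key _ hg)
  have h2 : (n⁻¹ : GL D.Idx F) = h * n := he
  rwa [show h * (n * (n * g * n⁻¹) * n⁻¹) * h⁻¹ = (h * n) * (n * g * n⁻¹) * (h * n)⁻¹ by group, ← h2,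
    show n⁻¹ * (n * g * n⁻¹) * (n⁻¹)⁻¹ = g by group] at h1

theorem parabolic_normalizes_radical (J : Set ℕ) :
    D.parabolicSubgroup F J ≤ Subgroup.normalizer (uGen D F (OutRoot D J) : Set (GL D.Idx F)) := by
  refine sup_le ?_ ((Subgroup.closure_le _).2 ?_)
  · rw [ChevalleyDatum.borelSubgroup, posUnipotent_eq hc]
    exact sup_le (pos_normalizes_radical hc hcomm J) (diagonal_le_normalizer hc _)
  · rintro g ⟨j, hjJ, hj, hg⟩
    have : g = elN D F (D.simple (⟨j, hj⟩ : Fin D.rank).val) 1 := by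
      ext1; rw [coe_elN hc (simple_lt hc hj), hg]
    rw [this]
    exact elN_normalizes_radical hc hcomm hjJ

omit hcomm in
theorem elN_mem_parabolic {J : Set ℕ} {i : Fin D.rank} (hi : (i : ℕ) ∈ J) :
    elN D F (D.simple i.val) 1 ∈ D.parabolicSubgroup F J :=
  Subgroup.mem_sup_right (Subgroup.subset_closure ⟨i, hi, i.2, coe_elN hc (simple_lt hc i.2) 1⟩)

/-- the leading term of the action of the positive unipotent group on a root element -/
theorem pos_conj_lead {r : ℕ} (hr : r < D.nroots) (hrp : D.nroots / 2 ≤ r) {u : GL D.Idx F}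
    (hu : u ∈ uGen D F (fun s => D.nroots / 2 ≤ s)) (t : F) :
    (elX D F r t)⁻¹ * (u * elX D F r t * u⁻¹) ∈ uGen D F (fun s => r < s) := by
  set K := uGen D F (fun s => r < s)
  have hK : uGen D F (fun s => D.nroots / 2 ≤ s) ≤ Subgroup.normalizer (K : Set (GL D.Idx F)) := by
    rw [uGen_le_iff]
    intro a ha hap c
    refine elX_mem_normalizer hc hcomm ha (fun s hs hS _ => ⟨ne_neg_of_pos hc ha hap (by omega), fun v hv => ?_⟩) c
    have := (combRoot_gt hc ha hs hap (by omega) hv).2
    omega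
  induction hu using Subgroup.closure_induction generalizing t with
  | mem x hx =>
      obtain ⟨a, c, ha, hap, rfl⟩ := hx
      by_cases har : r = a
      · subst har
        rw [elX_add hc F hr, elX_inv hc F hr c, elX_add hc F hr, show c + t + -c = t by ring, inv_mul_cancel]
        exact one_mem _
      · rw [elX_conj_elX hc hcomm ha hr har (ne_neg_of_pos hc ha hap hrp), inv_mul_cancel_left]
        exact wordGL_mem hc ha hr (fun v hv => (combRoot_gt hc ha hr hap hrp hv).2) _ _
  | one => simp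
  | mul a b hma _ iha ihb =>
      have h := mul_mem (iha t) (((Subgroup.mem_normalizer_iff).1 (hK hma) _).1 (ihb t))
      convert h using 1
      group
  | inv a hma iha =>
      have h := ((Subgroup.mem_normalizer_iff).1 (hK (inv_mem hma)) _).1 (inv_mem (iha t))
      rw [show a⁻¹ * ((elX D F r t)⁻¹ * (a * elX D F r t * a⁻¹))⁻¹ * (a⁻¹)⁻¹ =
        (a⁻¹ * (a * ((elX D F r t)⁻¹)⁻¹⁻¹ * a⁻¹) * a) * (a⁻¹ * elX D F r t * a) by group] at h
      convert h using 1
      group

omit hcomm in
/-- a root element is not a root element of another root modulo higher roots -/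
theorem eq_of_lead {r v : ℕ} (hr : r < D.nroots) (hrp : D.nroots / 2 ≤ r) (hv : v < D.nroots)
    {c e : F} (hce : c ≠ 0) (he : e ≠ 0) {k : GL D.Idx F} (hk : k ∈ uGen D F (fun s => r < s))
    (h : elX D F v e = elX D F r c * k) : v = r ∧ e = c := by
  have hkpos : k ∈ uGen D F (fun s => D.nroots / 2 ≤ s) := uGen_mono (fun s _ hs => by omega) hk
  have hvp : D.nroots / 2 ≤ v := by
    by_contra hneg
    refine elX_not_mem_borel hc hv (by omega) he ?_
    rw [h]
    exact pos_le_borel hc (mul_mem (elX_mem_uGen hr (P := fun s => D.nroots / 2 ≤ s) hrp c) hkpos)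
  rcases lt_trichotomy v r with hlt | heq | hgt
  · exfalso
    have hm : elX D F r c * k ∈ uGen D F (fun s => v < s) :=
      mul_mem (elX_mem_uGen hr (P := fun s => v < s) hlt c) (uGen_mono (fun s _ hs => by omega) hk)
    obtain ⟨j, hj⟩ := exists_cv_ne_zero hc F hv
    have e1 := coord_eq hc hv hvp e (one_mem (uGen D F (fun s => v < s))) j
    have e2 := coord_eq hc hv hvp 0 hm j
    rw [mul_one, h] at e1
    rw [elX_zero hc F hv, one_mul, e1] at e2
    exact mul_ne_zero hj he (by simpa using e2)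
  · subst heq
    obtain ⟨j, hj⟩ := exists_cv_ne_zero hc F hr
    have e1 := coord_eq hc hr hrp e (one_mem (uGen D F (fun s => v < s))) j
    have e2 := coord_eq hc hr hrp c hk j
    rw [mul_one, h, e2] at e1
    exact ⟨rfl, (mul_left_cancel₀ hj e1).symm⟩
  · exfalso
    obtain ⟨j, hj⟩ := exists_cv_ne_zero hc F hr
    have e1 := coord_eq hc hr hrp c hk j
    have e2 := coord_eq hc hr hrp 0 (elX_mem_uGen hv (P := fun s => r < s) hgt e) j
    rw [elX_zero hc F hr, one_mul, h, e1] at e2
    exact mul_ne_zero hj hce (by simpa using e2)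

/-- conjugation by an element of `B` keeps the leading root -/
theorem borel_conj_lead {r : ℕ} (hr : r < D.nroots) (hrp : D.nroots / 2 ≤ r) {u : GL D.Idx F}
    (hu : u ∈ uGen D F (fun s => D.nroots / 2 ≤ s)) (χ : Fin D.rank → Fˣ) :
    ∃ k ∈ uGen D F (fun s => r < s),
      (u * torus D T F χ) * elX D F r 1 * (u * torus D T F χ)⁻¹ = elX D F r (chi χ (rv D T r) : F) * k := by
  refine ⟨_, pos_conj_lead hc hcomm hr hrp hu (chi χ (rv D T r) : F), ?_⟩
  have h := torus_conj_elX hc χ hr (1 : F)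
  rw [mul_one] at h
  rw [← h]
  group

omit hcomm in
theorem exists_linked (htest : linkTest D = true) {i j : Fin D.rank} (hij : i ≠ j) :
    ∃ r k, r < D.nroots ∧ k < D.nroots ∧ D.nroots / 2 ≤ r ∧ D.nroots / 2 ≤ k ∧ rv D T r j ≠ 0 ∧
      rv D T k j ≠ 0 ∧ rv D T k = rv D T r + Pi.single i 1 := by
  simp only [linkTest, List.all_eq_true, List.any_eq_true, List.mem_range, Bool.or_eq_true,
    Bool.and_eq_true, decide_eq_true_eq] at htest
  rcases htest i i.2 j j.2 with h | ⟨r, hr, ⟨hrp, hrj⟩, hsome⟩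
  · exact absurd (Fin.ext h) hij
  obtain ⟨k, hk⟩ := Option.isSome_iff_exists.1 hsome
  obtain ⟨hkn, -, e⟩ := chainRoot_weight hc (simple_lt hc i.2) (k := 1) (Or.inl rfl) hk
  rw [Nat.cast_one, one_smul, rv_simple hc, add_comm] at e
  have hrj' : rv D T r j ≠ 0 := fun h0 => hrj (by
    rw [coroot_eq hc hr j.2]
    exact (((root_spec hc hr).2.2.2.2 j j.2).2.2.2.2).2 h0)
  refine ⟨r, k, hr, hkn, hrp, ?_, hrj', ?_, e⟩
  · by_contra hneg
    have h1 := (key_neg_iff hc hkn).2 (by omega)
    have h2 := (key_pos_iff hc hr).2 hrp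
    have h3 := (key_pos_iff hc (simple_lt hc i.2)).2 (half_le_simple hc i.2)
    rw [e, keyLin_add] at h1
    rw [rv_simple hc] at h3
    omega
  · rw [e, Pi.add_apply, Pi.single_eq_of_ne (Ne.symm hij), add_zero]
    exact hrj'

/-- an element centralising the radical lies in `U` -/
theorem centralizer_radical_le_pos (htest : linkTest D = true) {J : Set ℕ}
    (hJ : ∃ i, i < D.rank ∧ i ∉ J) {g : GL D.Idx F} (hg : g ∈ D.group F)
    (hcen : ∀ x ∈ uGen D F (OutRoot D J), g * x * g⁻¹ = x) :
    g ∈ uGen D F (fun s => D.nroots / 2 ≤ s) := by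
  classical
  obtain ⟨j0, hj0, hj0J⟩ := hJ
  -- the fundamental roots from the outer roots
  have hrec : ∀ {A : Type} [AddCommGroup A] (φ : (Fin D.rank → ℤ) →+ A),
      (∀ r, r < D.nroots → OutRoot D J r → φ (rv D T r) = 0) → ∀ i, φ (Pi.single i 1) = 0 := by
    intro A _ φ hφ i
    by_cases hi : (i : ℕ) ∈ J
    · obtain ⟨r, k, hr, hk, hrp, hkp, hrj, hkj, e⟩ :=
        exists_linked hc htest (i := i) (j := ⟨j0, hj0⟩) (fun e => hj0J (by rw [e] at hi; exact hi))
      have h1 := hφ r hr ((outRoot_iff hc hr).2 ⟨hrp, ⟨j0, hj0⟩, hj0J, hrj⟩)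
      have h2 := hφ k hk ((outRoot_iff hc hk).2 ⟨hkp, ⟨j0, hj0⟩, hj0J, hkj⟩)
      rwa [e, map_add, h1, zero_add] at h2
    · have hp := simple_lt hc i.2
      have := hφ _ hp ((outRoot_iff hc hp).2 ⟨half_le_simple hc i.2, i, hi, by simp [rv_simple hc]⟩)
      rwa [rv_simple hc] at this
  obtain ⟨P, hPB, hPN, -⟩ := exists_bnPair hc hcomm (F := F)
  obtain ⟨w, hw⟩ := CfsgLib.BN.exists_cell P ⟨g, hg⟩
  obtain ⟨n, hn, rfl⟩ := CfsgLib.BN.exists_rep P w
  obtain ⟨b, hb, b', hb', e⟩ := (CfsgLib.BN.mem_cell_wk P hn).1 hw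
  rw [hPB, Subgroup.mem_subgroupOf] at hb hb'
  rw [hPN, Subgroup.mem_subgroupOf] at hn
  have e' : g = (b : GL D.Idx F) * n * b' := congrArg Subtype.val e
  obtain ⟨h, hh, L, hL⟩ := monomial_cases hc hn
  have hbN : ∀ {x : GL D.Idx F}, x ∈ D.borelSubgroup F →
      x ∈ Subgroup.normalizer (uGen D F (OutRoot D J) : Set (GL D.Idx F)) := fun hx =>
    parabolic_normalizes_radical hc hcomm J (Subgroup.mem_sup_left hx)
  -- `β n` centralises the radical
  obtain ⟨β, hβ, hβn⟩ : ∃ β ∈ D.borelSubgroup F, ∀ x ∈ uGen D F (OutRoot D J),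
      (β * nProd D F L) * x * (β * nProd D F L)⁻¹ = x := by
    refine ⟨(b' : GL D.Idx F) * b * h, mul_mem (mul_mem hb' hb) (diagonal_le_borel hc hh), fun x hx => ?_⟩
    have hx' := ((Subgroup.mem_normalizer_iff).1 (hbN (inv_mem hb')) x).1 hx
    have h1 := hcen _ hx'
    rw [inv_inv] at h1 hx'
    have e2 : (b' : GL D.Idx F) * b * h * nProd D F L = b' * g * (b' : GL D.Idx F)⁻¹ := by
      rw [e', hL]; group
    rw [e2]
    calc (b' : GL D.Idx F) * g * (b' : GL D.Idx F)⁻¹ * x * ((b' : GL D.Idx F) * g * (b' : GL D.Idx F)⁻¹)⁻¹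
        = b' * (g * ((b' : GL D.Idx F)⁻¹ * x * b') * g⁻¹) * (b' : GL D.Idx F)⁻¹ := by group
      _ = x := by rw [h1]; group
  -- the monomial part fixes every outer root
  have hfix : ∀ r, r < D.nroots → OutRoot D J r → sigs D T L r = r := by
    intro r hr hR
    obtain ⟨c, -, hcx⟩ := nProd_conj_elX hc (F := F) L hr
    have h1 := hβn _ (elX_mem_uGen hr hR (1 : F))
    obtain ⟨u, hu, d, hd, hud⟩ := (mem_borel hc).1 (inv_mem hβ)
    obtain ⟨χ, hχ⟩ := (mem_diagonal hc).1 hd
    obtain ⟨k, hk, hlead⟩ := borel_conj_lead hc hcomm hr hR.1 hu (hPar D F χ)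
    rw [hχ, ← hud] at hlead
    have h2 : elX D F (sigs D T L r) ((c : F) * 1) = β⁻¹ * elX D F r 1 * (β⁻¹)⁻¹ := by
      conv_rhs => rw [← h1]
      rw [← hcx]
      group
    rw [hlead] at h2
    exact (eq_of_lead hc hr hR.1 (sigs_lt hc L hr) (Units.ne_zero _) (by simp) hk h2).1
  have hLD : nProd D F L ∈ D.diagonalSubgroup F := by
    refine nProd_mem_of_pos hc L fun i => ?_
    let φ : (Fin D.rank → ℤ) →+ (Fin D.rank → ℤ) :=
      AddMonoidHom.mk' (fun v => refls D L v - v) fun a b => by rw [refls_add]; abel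
    have h0 := hrec φ (fun r hr hR => by
      show refls D L (rv D T r) - rv D T r = 0
      rw [← rv_sigs hc L hr, hfix r hr hR, sub_self]) i
    have hp := simple_lt hc i.2
    have : sigs D T L (D.simple i.val) = D.simple i.val := rv_inj hc (sigs_lt hc L hp) hp (by
      rw [rv_sigs hc L hp, rv_simple hc]
      exact sub_eq_zero.1 h0)
    rw [this]
    exact half_le_simple hc i.2
  have hgB : g ∈ D.borelSubgroup F := by
    rw [e', hL]
    exact mul_mem (mul_mem hb (mul_mem (diagonal_le_borel hc hh) (diagonal_le_borel hc hLD))) hb'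
  -- the torus part is trivial
  obtain ⟨u, hu, d, hd, hud⟩ := (mem_borel hc).1 hgB
  obtain ⟨χ, hχ⟩ := (mem_diagonal hc).1 hd
  have hchar : ∀ r, r < D.nroots → OutRoot D J r → chi (hPar D F χ) (rv D T r) = 1 := by
    intro r hr hR
    obtain ⟨k, hk, hlead⟩ := borel_conj_lead hc hcomm hr hR.1 hu (hPar D F χ)
    rw [hχ, ← hud, hcen _ (elX_mem_uGen hr hR (1 : F))] at hlead
    exact Units.ext (eq_of_lead hc hr hR.1 hr (Units.ne_zero _) one_ne_zero hk hlead).2.symm
  have htriv : hPar D F χ = 1 := by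
    funext i
    let φ : (Fin D.rank → ℤ) →+ Additive Fˣ :=
      AddMonoidHom.mk' (fun v => Additive.ofMul (chi (hPar D F χ) v)) fun a b => by
        rw [chi_add]; rfl
    have h0 : φ (Pi.single i 1) = 0 := by
      by_cases hi : (i : ℕ) ∈ J
      · obtain ⟨r, k, hr, hk, hrp, hkp, hrj, hkj, ek⟩ :=
          exists_linked hc htest (i := i) (j := ⟨j0, hj0⟩) (fun e => hj0J (by rw [e] at hi; exact hi))
        have h1 := hchar r hr ((outRoot_iff hc hr).2 ⟨hrp, ⟨j0, hj0⟩, hj0J, hrj⟩)
        have h2 := hchar k hk ((outRoot_iff hc hk).2 ⟨hkp, ⟨j0, hj0⟩, hj0J, hkj⟩)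
        rw [ek, chi_add, h1, one_mul] at h2
        exact congrArg Additive.ofMul h2
      · have hp := simple_lt hc i.2
        have h1 := hchar _ hp ((outRoot_iff hc hp).2 ⟨half_le_simple hc i.2, i, hi, by simp [rv_simple hc]⟩)
        rw [rv_simple hc] at h1
        exact congrArg Additive.ofMul h1
    have h1 : chi (hPar D F χ) (Pi.single i 1) = 1 := h0
    rwa [chi_single, zpow_one] at h1
  rw [hud, ← hχ, htriv, map_one, mul_one]
  exact hu

omit hcomm in
/-- some product of the reflections of `J` makes all positive roots of the subsystem negative -/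
theorem exists_longest_sub (J : Set ℕ) :
    ∃ L : List (Fin D.rank), (∀ i ∈ L, (i : ℕ) ∈ J) ∧
      ∀ r, r < D.nroots → D.nroots / 2 ≤ r → D.InRootSub J r → sigs D T L r < D.nroots / 2 := by
  classical
  let S : List (Fin D.rank) → Finset ℕ := fun L => (Finset.range D.nroots).filter fun r =>
    D.nroots / 2 ≤ r ∧ D.InRootSub J r ∧ sigs D T L r < D.nroots / 2
  suffices key : ∀ d, ∀ L : List (Fin D.rank), (∀ i ∈ L, (i : ℕ) ∈ J) → D.nroots - (S L).card ≤ d →
      ∃ L' : List (Fin D.rank), (∀ i ∈ L', (i : ℕ) ∈ J) ∧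
        ∀ i : Fin D.rank, (i : ℕ) ∈ J → sigs D T L' (D.simple i.val) < D.nroots / 2 by
    obtain ⟨L, hLJ, hL⟩ := key D.nroots [] (by simp) (by omega)
    refine ⟨L, hLJ, fun r hr hrp hrJ => ?_⟩
    rw [← key_neg_iff hc (sigs_lt hc L hr), rv_sigs hc L hr, keyLin_refls]
    rw [inRootSub_iff hc] at hrJ
    have hle : ∀ i : Fin D.rank, rv D T r i * keyLin D (refls D L (Pi.single i 1)) ≤ 0 := by
      intro i
      by_cases hi : (i : ℕ) ∈ J
      · refine mul_nonpos_of_nonneg_of_nonpos (rv_nonneg hc hr hrp i) (le_of_lt ?_)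
        have := (key_neg_iff hc (sigs_lt hc L (simple_lt hc i.2))).2 (hL i hi)
        rwa [rv_sigs hc L (simple_lt hc i.2), rv_simple hc] at this
      · rw [hrJ.2 i hi, zero_mul]
    refine lt_of_le_of_ne (Finset.sum_nonpos fun i _ => hle i) fun h0 => ?_
    obtain ⟨i, hi⟩ := Function.ne_iff.1 (rv_ne_zero hc hr)
    have hiJ : (i : ℕ) ∈ J := by by_contra h; exact hi (hrJ.2 i h)
    have := (Finset.sum_eq_zero_iff_of_nonpos fun i _ => hle i).1 h0 i (Finset.mem_univ i)
    have hk := (key_neg_iff hc (sigs_lt hc L (simple_lt hc i.2))).2 (hL i hiJ)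
    rw [rv_sigs hc L (simple_lt hc i.2), rv_simple hc] at hk
    rcases mul_eq_zero.1 this with h | h
    · exact hi h
    · omega
  intro d
  induction d with
  | zero =>
      intro L hLJ hd
      refine ⟨L, hLJ, fun i hi => ?_⟩
      have : S L = Finset.range D.nroots :=
        Finset.eq_of_subset_of_card_le (Finset.filter_subset _ _) (by rw [Finset.card_range]; omega)
      have hm := Finset.mem_range.2 (simple_lt hc i.2)
      rw [← this, Finset.mem_filter] at hm
      exact hm.2.2.2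
  | succ d ih =>
      intro L hLJ hd
      by_cases hdone : ∀ i : Fin D.rank, (i : ℕ) ∈ J → sigs D T L (D.simple i.val) < D.nroots / 2
      · exact ⟨L, hLJ, hdone⟩
      push Not at hdone
      obtain ⟨i, hi, hipos⟩ := hdone
      refine ih (L ++ [i]) (fun x hx => (List.mem_append.1 hx).elim (hLJ x) fun h => by
        rw [List.mem_singleton.1 h]; exact hi) ?_
      have hsig : ∀ r, sigs D T (L ++ [i]) r = sigs D T L (sig D T i r) := fun r => sigs_append L [i] r
      have hp := simple_lt hc i.2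
      have himg : (insert (D.simple i.val) ((S L).image (sig D T i))) ⊆ S (L ++ [i]) := by
        intro x hx
        simp only [S, Finset.mem_insert, Finset.mem_image, Finset.mem_filter, Finset.mem_range] at hx ⊢
        rcases hx with rfl | ⟨r, ⟨hr, hrp, hrJ, hrneg⟩, rfl⟩
        · refine ⟨hp, half_le_simple hc i.2, (inRootSub_iff hc).2 ⟨hp, fun j hj => ?_⟩, ?_⟩
          · rw [rv_simple hc, Pi.single_eq_of_ne fun e => hj (by rw [e]; exact hi)]
          · rw [hsig, sig_simple hc, sigs_neg hc L hp, neg_eq hc (sigs_lt hc L hp)]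
            have := nroots_eq_two_mul hc
            omega
        · have hne : r ≠ D.simple i.val := fun e => by subst e; omega
          refine ⟨sig_lt hc i hr, (sig_pos hc i hr hrp hne).1,
            (inRootSub_iff hc).2 ⟨sig_lt hc i hr, fun j hj => ?_⟩, ?_⟩
          · rw [rv_sig hc i hr, refl_apply_of_ne fun e => hj (by rw [e]; exact hi)]
            exact ((inRootSub_iff hc).1 hrJ).2 j hj
          · rw [hsig, sig_sig hc i hr]; exact hrneg
      have hnot : D.simple i.val ∉ (S L).image (sig D T i) := by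
        simp only [S, Finset.mem_image, Finset.mem_filter, Finset.mem_range, not_exists, not_and]
        rintro r ⟨hr, hrp, -, -⟩ e
        have h2 := congrArg (sig D T i) e
        rw [sig_sig hc i hr, sig_simple hc, neg_eq hc hp] at h2
        have := half_le_simple hc i.2
        have := nroots_eq_two_mul hc
        omega
      have hinj : ((S L).image (sig D T i)).card = (S L).card := by
        refine Finset.card_image_of_injOn fun a ha b hb e => ?_
        simp only [S, Finset.coe_filter, Finset.mem_range, Set.mem_ofPred_eq] at ha hb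
        rw [← sig_sig hc i ha.1, ← sig_sig hc i hb.1]
        exact congrArg (sig D T i) e
      have := Finset.card_le_card himg
      rw [Finset.card_insert_of_notMem hnot, hinj] at this
      omega

/-- a normal subgroup of the parabolic subgroup inside `U` lies in the radical -/
theorem le_radical_of_le_pos {J : Set ℕ} {C : Subgroup (GL D.Idx F)}
    (hCU : C ≤ uGen D F (fun s => D.nroots / 2 ≤ s))
    (hnorm : ∀ n ∈ D.parabolicSubgroup F J, ∀ x ∈ C, n * x * n⁻¹ ∈ C) :
    C ≤ uGen D F (OutRoot D J) := by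
  intro x hx
  obtain ⟨L, hLJ, hL⟩ := exists_longest_sub hc J
  set n := nProd D F L
  have hn : n ∈ D.parabolicSubgroup F J := by
    refine Subgroup.list_prod_mem _ fun y hy => ?_
    obtain ⟨i, hi, rfl⟩ := List.mem_map.1 hy
    exact elN_mem_parabolic hc (hLJ i hi)
  obtain ⟨a, ha, b, hb, rfl⟩ := uGen_split hc hcomm (closedPos_pos hc) (Q := OutRoot D J)
    (R := fun r => D.nroots / 2 ≤ r ∧ D.InRootSub J r)
    (fun r hr hp => by by_cases h : D.InRootSub J r; exacts [Or.inr ⟨hp, h⟩, Or.inl ⟨hp, h⟩]) (hCU hx)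
  have hbn : n * b * n⁻¹ ∈ uGen D F (fun r => r < D.nroots / 2) := by
    clear hx
    induction hb using Subgroup.closure_induction with
    | mem y hy =>
        obtain ⟨r, t, hr, hP, rfl⟩ := hy
        obtain ⟨c, -, hcx⟩ := nProd_conj_elX hc (F := F) L hr
        rw [hcx]
        exact elX_mem_uGen (sigs_lt hc L hr) (hL r hr hP.1 hP.2) _
    | one => simp
    | mul y z _ _ hy hz =>
        rw [show n * (y * z) * n⁻¹ = (n * y * n⁻¹) * (n * z * n⁻¹) by group]
        exact mul_mem hy hz
    | inv y _ hy =>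
        rw [show n * y⁻¹ * n⁻¹ = (n * y * n⁻¹)⁻¹ by group]
        exact inv_mem hy
  have hann : n * a * n⁻¹ ∈ uGen D F (OutRoot D J) :=
    ((Subgroup.mem_normalizer_iff).1 (parabolic_normalizes_radical hc hcomm J hn) a).1 ha
  have hbU : n * b * n⁻¹ ∈ uGen D F (fun s => D.nroots / 2 ≤ s) := by
    rw [show n * b * n⁻¹ = (n * a * n⁻¹)⁻¹ * (n * (a * b) * n⁻¹) by group]
    exact mul_mem (inv_mem (uGen_mono (fun r _ h => h.1) hann)) (hCU (hnorm n hn _ hx))
  have hb1 : b = 1 := conj_eq_one_iff.1 (borel_inf_neg hc (pos_le_borel hc hbU) hbn)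
  rw [hb1, mul_one]
  exact ha

omit hcomm in
theorem exists_key_bound : ∃ K : ℕ, ∀ x : D.Idx, (keyLin D (wI D T x)).natAbs ≤ K :=
  ⟨Finset.univ.sup fun x : D.Idx => (keyLin D (wI D T x)).natAbs,
    fun x => Finset.le_sup (f := fun x : D.Idx => (keyLin D (wI D T x)).natAbs) (Finset.mem_univ x)⟩

omit hcomm in
/-- the positive unipotent group has `p`-power exponent -/
theorem isPGroup_pos (p : ℕ) [Fact p.Prime] [CharP F p] :
    IsPGroup p (uGen D F (fun s => D.nroots / 2 ≤ s)) := by
  intro g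
  have hR := raises_uGen hc (keyLin_add (D := D)) (keyLin_smul (D := D)) (d := 1) (by norm_num)
    (fun r hr hp => by have := (key_pos_iff hc hr).2 hp; omega) g.2
  set N : Matrix D.Idx D.Idx F := ((g : GL D.Idx F) : Matrix D.Idx D.Idx F) - 1
  have hN : ∀ x y, N x y ≠ 0 → keyLin D (wI D T y) + 1 ≤ keyLin D (wI D T x) := fun x y h =>
    hR x y fun e => h (by simp only [N, Matrix.sub_apply, e, sub_self])
  have hpow : ∀ k : ℕ, ∀ x y, (N ^ k) x y ≠ 0 → keyLin D (wI D T y) + k ≤ keyLin D (wI D T x) := by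
    intro k
    induction k with
    | zero =>
        intro x y h
        rw [pow_zero, Matrix.one_apply] at h
        split_ifs at h with e
        · simp [e]
        · exact absurd rfl h
    | succ k ih =>
        intro x y h
        rw [pow_succ, Matrix.mul_apply] at h
        obtain ⟨z, -, hz⟩ := Finset.exists_ne_zero_of_sum_ne_zero h
        have h1 := ih x z (left_ne_zero_of_mul hz)
        have h2 := hN z y (right_ne_zero_of_mul hz)
        push_cast
        omega
  obtain ⟨K, hK⟩ := exists_key_bound hc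
  obtain ⟨k, hk⟩ : ∃ k, 2 * K < p ^ k := ⟨2 * K, Nat.lt_pow_self (Fact.out : p.Prime).one_lt⟩
  refine ⟨k, Subtype.ext (Units.ext ?_)⟩
  have hzero : N ^ (p ^ k) = 0 := by
    ext x y
    by_contra h
    have h1 := hpow _ x y h
    have := hK x
    have := hK y
    have h2 : (2 * K : ℤ) < ((p ^ k : ℕ) : ℤ) := by exact_mod_cast hk
    omega
  by_cases hI : Nonempty D.Idx
  · haveI := hI
    have hg : ((g : GL D.Idx F) : Matrix D.Idx D.Idx F) = N + 1 := (sub_add_cancel _ _).symm
    rw [SubgroupClass.coe_pow, Units.val_pow_eq_pow_val, hg, add_pow_char_pow_of_commute p k (Commute.one_right N),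
      hzero, zero_add, one_pow]
    rfl
  · ext x
    exact absurd ⟨x⟩ hI

end

end CfsgLib.Chev
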