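import Cfsg.Agent.Lib.Chev.Adjoint
/-
The root elements: divided powers, x_r(t) as a polynomial in t with integer matrix coefficients, additivity.
-/
set_option autoImplicit false

namespace CfsgLib.Chev

open Cfsg.Lie Matrix

variable {D : ChevalleyDatum} {T : Tabs}

/-- x_r(t) over a commutative ring, from the tables -/
noncomputable def xTab (D : ChevalleyDatum) (T : Tabs) (R : Type*) [CommRing R] (r : ℕ) (t : R) :
    Matrix D.Idx D.Idx R :=
  1 + t • (tabMat D T 1 r).map (Int.castRingHom R) + t ^ 2 • (tabMat D T 2 r).map (Int.castRingHom R)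
    + t ^ 3 • (tabMat D T 3 r).map (Int.castRingHom R)

/-- x_r(t) as an element of the general linear group (the identity if it is not invertible) -/
noncomputable def elX (D : ChevalleyDatum) (F : Type*) [Field F] (r : ℕ) (t : F) : GL D.Idx F :=
  open Classical in if h : IsUnit (D.x F r t) then h.unit else 1

section
variable (hc : Checked D T)
include hc

theorem pow_spec {a : ℕ} (ha : a < D.nroots) :
    tabMat D T 1 a * tabMat D T 1 a = (2 : ℤ) • tabMat D T 2 a ∧
    tabMat D T 1 a * tabMat D T 2 a = (3 : ℤ) • tabMat D T 3 a ∧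
    tabMat D T 2 a * tabMat D T 1 a = (3 : ℤ) • tabMat D T 3 a ∧
    tabMat D T 1 a * tabMat D T 3 a = 0 := by
  have key : ∀ col : D.Idx,
      isZeroVec (cat (applyRow D T (T.t1.get a) (decCode D T (field (T.t1.get a) (cd D col))))
        (scaleVec (-2) (decCode D T (field (T.t2.get a) (cd D col))))) = true ∧
      isZeroVec (cat (applyRow D T (T.t1.get a) (decCode D T (field (T.t2.get a) (cd D col))))
        (scaleVec (-3) (decCode D T (field (T.t3.get a) (cd D col))))) = true ∧
      isZeroVec (cat (applyRow D T (T.t2.get a) (decCode D T (field (T.t1.get a) (cd D col))))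
        (scaleVec (-3) (decCode D T (field (T.t3.get a) (cd D col))))) = true ∧
      isZeroVec (applyRow D T (T.t1.get a) (decCode D T (field (T.t3.get a) (cd D col)))) = true := by
    intro col
    have h := allNat_iff.1 (allNat_iff.1 hc.pow a ha) (cd D col) (cd_lt col)
    rw [cond_beq] at h
    split at h
    · rename_i h0
      change field (T.t1.get a ||| T.t2.get a ||| T.t3.get a) _ = 0 at h0
      rw [field_lor, field_lor, Nat.or_eq_zero_iff, Nat.or_eq_zero_iff] at h0
      rw [h0.1.1, h0.1.2, h0.2]
      exact ⟨rfl, rfl, rfl, rfl⟩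
    · simp only [cond_false_iff] at h; exact h
  refine ⟨?_, ?_, ?_, ?_⟩ <;> ext row col <;> obtain ⟨h1, h2, h3, h4⟩ := key col
  · have := coeffAt_of_isZeroVec h1 (cd D row)
    rw [tabMat_mul_apply 1 a _ _ (good_field hc (Or.inl rfl) ha (cd_lt col)) col fun x => rfl,
      Matrix.smul_apply, smul_eq_mul, tabMat_apply]
    simp only [coeffAt_cat, coeffAt_scaleVec] at this
    simp only [tabK_one, tabK_two] at this ⊢
    omega
  · have := coeffAt_of_isZeroVec h2 (cd D row)
    rw [tabMat_mul_apply 1 a _ _ (good_field hc (k := 2) (Or.inr (Or.inl rfl)) ha (cd_lt col)) col fun x => rfl,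
      Matrix.smul_apply, smul_eq_mul, tabMat_apply]
    simp only [coeffAt_cat, coeffAt_scaleVec] at this
    simp only [tabK_one, tabK_two, tabK_three] at this ⊢
    omega
  · have := coeffAt_of_isZeroVec h3 (cd D row)
    rw [tabMat_mul_apply 2 a _ _ (good_field hc (Or.inl rfl) ha (cd_lt col)) col fun x => rfl,
      Matrix.smul_apply, smul_eq_mul, tabMat_apply]
    simp only [coeffAt_cat, coeffAt_scaleVec] at this
    simp only [tabK_one, tabK_two, tabK_three] at this ⊢
    omega
  · have := coeffAt_of_isZeroVec h4 (cd D row)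
    rw [tabMat_mul_apply 1 a _ _ (good_field hc (k := 3) (Or.inr (Or.inr rfl)) ha (cd_lt col)) col fun x => rfl]
    simpa using this

theorem pow_zero_spec {a : ℕ} (ha : a < D.nroots) :
    tabMat D T 3 a * tabMat D T 1 a = 0 ∧ tabMat D T 2 a * tabMat D T 2 a = 0 ∧
    tabMat D T 2 a * tabMat D T 3 a = 0 ∧ tabMat D T 3 a * tabMat D T 2 a = 0 ∧
    tabMat D T 3 a * tabMat D T 3 a = 0 := by
  obtain ⟨h1, h2, h3, h4⟩ := pow_spec hc ha
  have inj2 : Function.Injective (((2 : ℤ) • ·) : Matrix D.Idx D.Idx ℤ → _) := smul_right_injective _ (by norm_num)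
  have inj3 : Function.Injective (((3 : ℤ) • ·) : Matrix D.Idx D.Idx ℤ → _) := smul_right_injective _ (by norm_num)
  have e31 : tabMat D T 3 a * tabMat D T 1 a = 0 := inj3 (by
    simp only [smul_zero, ← Matrix.smul_mul, ← h2]
    rw [Matrix.mul_assoc, h3, Matrix.mul_smul, h4, smul_zero])
  refine ⟨e31, inj2 ?_, inj2 ?_, inj2 ?_, inj3 ?_⟩
  · simp only [smul_zero, ← Matrix.smul_mul, ← h1]
    rw [Matrix.mul_assoc, h2, Matrix.mul_smul, h4, smul_zero]
  · simp only [smul_zero, ← Matrix.smul_mul, ← h1]
    rw [Matrix.mul_assoc, h4, Matrix.mul_zero]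
  · simp only [smul_zero, ← Matrix.mul_smul, ← h1]
    rw [← Matrix.mul_assoc, e31, Matrix.zero_mul]
  · simp only [smul_zero, ← Matrix.mul_smul, ← h3]
    rw [← Matrix.mul_assoc]
    have : tabMat D T 3 a * tabMat D T 2 a = 0 := inj2 (by
      simp only [smul_zero, ← Matrix.mul_smul, ← h1]
      rw [← Matrix.mul_assoc, e31, Matrix.zero_mul])
    rw [this, Matrix.zero_mul]

theorem xTab_add (R : Type*) [CommRing R] {r : ℕ} (hr : r < D.nroots) (s t : R) :
    xTab D T R r s * xTab D T R r t = xTab D T R r (s + t) := by
  obtain ⟨h1, h2, h3, h4⟩ := pow_spec hc hr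
  obtain ⟨g1, g2, g3, g4, g5⟩ := pow_zero_spec hc hr
  have cast : ∀ (A B C : Matrix D.Idx D.Idx ℤ) (c : ℤ), A * B = c • C →
      A.map (Int.castRingHom R) * B.map (Int.castRingHom R) = (c : R) • C.map (Int.castRingHom R) := by
    intro A B C c h
    rw [← Matrix.map_mul, h]
    ext i j
    simp only [Matrix.map_apply, Matrix.smul_apply, smul_eq_mul, Int.coe_castRingHom, Int.cast_mul]
  have cast0 : ∀ (A B : Matrix D.Idx D.Idx ℤ), A * B = 0 →
      A.map (Int.castRingHom R) * B.map (Int.castRingHom R) = 0 := by
    intro A B h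
    rw [← Matrix.map_mul, h]
    ext i j; simp
  simp only [xTab, mul_add, add_mul, mul_one, one_mul, Matrix.smul_mul, Matrix.mul_smul, smul_smul,
    cast _ _ _ _ h1, cast _ _ _ _ h2, cast _ _ _ _ h3, cast0 _ _ h4, cast0 _ _ g1, cast0 _ _ g2, cast0 _ _ g3,
    cast0 _ _ g4, cast0 _ _ g5, smul_zero, add_zero]
  push_cast
  module

omit hc in
theorem xTab_zero (R : Type*) [CommRing R] (r : ℕ) : xTab D T R r 0 = 1 := by simp [xTab]

theorem xMat_eq (F : Type*) [Field F] {r : ℕ} (hr : r < D.nroots) (t : F) : D.x F r t = xTab D T F r t := by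
  ext row col
  rw [ChevalleyDatum.x, dif_pos hr, ChevalleyDatum.xMat, Matrix.of_apply]
  simp only [xTab, Matrix.add_apply, Matrix.smul_apply, Matrix.map_apply, smul_eq_mul, tabMat_apply, tabK_one,
    tabK_two, tabK_three, Int.coe_castRingHom]
  rcases col with i | s
  · obtain ⟨h1, h2, -, h4⟩ := (cartan' hc i.2).2 r hr
    rw [cd_inl, h4, field_t2 hc hr, field_t3 hc hr, chainEntry_ge hc hr (Nat.le_add_right _ _),
      if_neg (show D.nroots + i.val ≠ D.neg r by have := neg_lt hc hr; omega), coeffAt_decCode_encZ (by omega) (by omega)]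
    rcases row with j | u
    · simp only [cd_inl, Matrix.one_apply, Sum.inl.injEq]
      simp [show r ≠ D.nroots + j.val by omega, optCode]
    · have hru : r = u.val ↔ u = (⟨r, hr⟩ : Fin D.nroots) := by rw [Fin.ext_iff]; exact eq_comm
      simp only [cd_inr, Matrix.one_apply, reduceCtorEq, if_false]
      simp [optCode, hru, ChevalleyDatum.cartan, apply_ite (fun z : ℤ => (z : F))]
      split <;> ring
  · dsimp only
    rw [cd_inr, field_t1 hc hr s.2, field_t2 hc hr, field_t3 hc hr]
    by_cases hsr : s = ⟨r, hr⟩
    · rw [if_pos hsr]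
      subst hsr
      rw [if_neg (neg_ne hc hr).symm, if_neg (neg_ne hc hr).symm, chainEntry_self hc hr]
      rcases row with j | u <;> simp [optCode, Matrix.one_apply]
    · rw [if_neg hsr]
      have hnegIdx : D.negIdx.getD r 0 = D.neg r := rfl
      simp only [hnegIdx]
      by_cases hsn : (s : ℕ) = D.neg r
      · rw [if_pos hsn, if_pos hsn, if_pos hsn, hsn, chainEntry_neg hc hr, decCode_marker,
          decCode_encNZ (by norm_num) (by norm_num), coeffAt_cons, coeffAt_corVec]
        rcases row with j | u
        · rw [cd_inl, if_pos (by omega), if_neg (show r ≠ D.nroots + j.val by omega), Nat.add_sub_cancel_left,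
            ← coroot_eq hc hr j.2]
          simp [optCode, mul_comm]
        · rw [cd_inr, if_neg (show ¬ (D.nroots ≤ u.val ∧ u.val < D.nroots + D.rank) by omega)]
          have hru : r = u.val ↔ u = (⟨r, hr⟩ : Fin D.nroots) := by rw [Fin.ext_iff]; exact eq_comm
          simp only [Matrix.one_apply, Sum.inr.injEq, optCode, List.getElem?_nil, Option.elim_none, decCode_zero,
            coeffAt_nil, hru]
          by_cases hus : u = s
          · subst hus; simp [hsr]
          · by_cases hur : u = ⟨r, hr⟩ <;> simp [hus, hur, Ne.symm hsr]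
      · rw [if_neg hsn, if_neg hsn, if_neg hsn]
        have hlen := chainEntry_length hc hr s.val
        rcases row with j | u
        · have hz : ∀ i : ℕ, coeffAt (decCode D T (optCode ((D.chainEntry r s.val)[i]?))) (D.nroots + j.val) = 0 := by
            intro i
            cases h : (D.chainEntry r s.val)[i]? with
            | none => simp [optCode]
            | some q =>
                obtain ⟨q1, -, q3, q4, -⟩ := chainEntry_get hc hr (h ▸ rfl : q ∈ (D.chainEntry r s.val)[i]?)
                simp [optCode, decCode_encNZ q3 q4, coeffAt_cons, show q.1 ≠ D.nroots + j.val by omega]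
          simp [hz, Matrix.one_apply]
        · have hterm : ∀ i : ℕ, coeffAt (decCode D T (optCode ((D.chainEntry r s.val)[i]?))) u.val =
              ((D.chainEntry r s.val)[i]?).elim 0 (fun q : ℕ × ℤ => if q.1 = u.val then q.2 else 0) := by
            intro i
            cases h : (D.chainEntry r s.val)[i]? with
            | none => simp [optCode]
            | some q =>
                obtain ⟨-, -, q3, q4, -⟩ := chainEntry_get hc hr (h ▸ rfl : q ∈ (D.chainEntry r s.val)[i]?)
                simp [optCode, decCode_encNZ q3 q4, coeffAt_cons]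
          have hcc : D.chainCoeff r s.val u.val =
              ((D.chainEntry r s.val).zipIdx.filter (fun q : (ℕ × ℤ) × ℕ => decide (q.1.1 = u.val))).map fun q => (q.2 + 1, q.1.2) := by
            rw [ChevalleyDatum.chainCoeff]
            by_cases h : ∃ e ∈ (D.chain.getD r #[]).toList, e.1 = s.val
            · obtain ⟨e, he, hes⟩ := h
              rw [← hes, chainEntry_of_mem (keys_nodup hc hr) he]
              have hnd := keys_nodup hc hr
              have : (D.chain.getD r #[]).toList.filter (fun x => decide (x.1 = e.1)) = [e] := by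
                generalize (D.chain.getD r #[]).toList = E at hnd he
                induction E with
                | nil => simp at he
                | cons x l ih =>
                    rw [List.map_cons, List.nodup_cons] at hnd
                    rcases List.mem_cons.1 he with rfl | he
                    · rw [List.filter_cons_of_pos (by simp)]
                      congr 1
                      rw [List.filter_eq_nil_iff]
                      intro y hy
                      simpa using fun hye => hnd.1 (List.mem_map.2 ⟨y, hy, hye⟩)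
                    · rw [List.filter_cons_of_neg (by simpa using fun hx => hnd.1 (List.mem_map.2 ⟨e, he, hx.symm⟩))]
                      exact ih hnd.2 he
              rw [this]; simp
            · push Not at h
              rw [chainEntry_eq_nil h, List.filter_eq_nil_iff.2 (by simpa using h)]; simp
          simp only [hcc, cd_inr, hterm, Matrix.one_apply, Sum.inr.injEq]
          rcases hL : D.chainEntry r s.val with _ | ⟨q1, _ | ⟨q2, _ | ⟨q3, _ | ⟨q4, l⟩⟩⟩⟩
          · simp
          · by_cases k1 : q1.1 = u.val <;> simp [k1] <;> ring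
          · by_cases k1 : q1.1 = u.val <;> by_cases k2 : q2.1 = u.val <;> simp [k1, k2] <;> ring
          · by_cases k1 : q1.1 = u.val <;> by_cases k2 : q2.1 = u.val <;> by_cases k3 : q3.1 = u.val <;>
              simp [k1, k2, k3] <;> ring
          · rw [hL] at hlen; simp at hlen; omega

theorem x_add (F : Type*) [Field F] {r : ℕ} (hr : r < D.nroots) (s t : F) :
    D.x F r s * D.x F r t = D.x F r (s + t) := by
  simp only [xMat_eq hc F hr, xTab_add hc F hr]

theorem x_zero (F : Type*) [Field F] {r : ℕ} (hr : r < D.nroots) : D.x F r 0 = 1 := by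
  rw [xMat_eq hc F hr, xTab_zero]

theorem x_isUnit (F : Type*) [Field F] {r : ℕ} (hr : r < D.nroots) (t : F) : IsUnit (D.x F r t) := by
  refine ⟨⟨D.x F r t, D.x F r (-t), ?_, ?_⟩, rfl⟩ <;> simp [x_add hc F hr, x_zero hc F hr]

theorem coe_elX (F : Type*) [Field F] {r : ℕ} (hr : r < D.nroots) (t : F) :
    ((elX D F r t : GL D.Idx F) : Matrix D.Idx D.Idx F) = D.x F r t := by
  classical
  rw [elX, dif_pos (x_isUnit hc F hr t), IsUnit.unit_spec]

theorem elX_add (F : Type*) [Field F] {r : ℕ} (hr : r < D.nroots) (s t : F) :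
    elX D F r s * elX D F r t = elX D F r (s + t) := by
  ext1; simp [coe_elX hc F hr, x_add hc F hr]

theorem elX_zero (F : Type*) [Field F] {r : ℕ} (hr : r < D.nroots) : elX D F r 0 = 1 := by
  ext1; simp [coe_elX hc F hr, x_zero hc F hr]

theorem elX_inv (F : Type*) [Field F] {r : ℕ} (hr : r < D.nroots) (t : F) : (elX D F r t)⁻¹ = elX D F r (-t) := by
  rw [inv_eq_iff_mul_eq_one, elX_add hc F hr, add_neg_cancel, elX_zero hc F hr]

end

end CfsgLib.Chev
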