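import Cfsg.Agent.Lib.Chev.Order
import Cfsg.Agent.Lib.Chev.All
/-
The orders of the diagonal subgroups and of the Chevalley groups of types G2, B2, D4, F4, E6, E7, E8.
-/
set_option autoImplicit false
set_option linter.unusedSectionVars false

namespace CfsgLib.Chev

open Cfsg.Lie

theorem wsum_step' {D : ChevalleyDatum} {T : Tabs} (hc : Checked D T) (C : List (List ℤ))
    (hC : ∀ i k : Fin D.rank, gz (C.getD i.val []) k.val = cm D i k) (J' : List (Fin D.rank)) (j : Fin D.rank)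
    (hj : j ∉ J') {m : ℕ} (hm : 0 < m) (sz : List ℕ)
    (h : (orbitCheck C D.rank ((J' ++ [j]).map Fin.val) j.val m &&
      decide (levelSizes C D.rank ((J' ++ [j]).map Fin.val) j.val m = sz)) = true) (x : ℕ) :
    wsum hc (J' ++ [j]) x = polyEval sz x * wsum hc J' x := by
  rw [Bool.and_eq_true, decide_eq_true_eq] at h
  rw [wsum_step hc C hC rfl hj hm h.1, level_sum_eq _ _ _ _ _ h.1, h.2]

/-! ### G2 -/

def cartG2 : List (List ℤ) := [[2, -3], [-1, 2]]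

theorem cartG2_eq : ∀ i k : Fin chevG2.rank, gz (cartG2.getD i.val []) k.val = cm chevG2 i k := by decide +kernel

theorem card_diagonal_G2 {F : Type*} [Field F] [Fintype F] :
    (Fintype.card F - 1).gcd 1 ^ 0 * Nat.card ↥(chevG2.diagonalSubgroup F) = (Fintype.card F - 1) ^ 2 := by
  obtain ⟨T, hc⟩ := exists_checked (D := chevG2) (by simp)
  exact card_diagonal hc 1 (Fin.elim0 : Fin 0 → Fin 2)
    (Fin.elim0 : Fin 0 → Fin 2 → ℤ)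
    (![![2, 3], ![1, 2]] : Fin 2 → Fin 2 → ℤ)
    (fun _ => Fin.elim0 : Fin 2 → Fin 0 → ℤ)
    (by decide +kernel) (by decide +kernel) (by decide +kernel) (by decide +kernel)

theorem wsum_G2 {T : Tabs} (hc : Checked chevG2 T) (x : ℕ) :
    wsum hc [(⟨0, by decide⟩ : Fin chevG2.rank), (⟨1, by decide⟩ : Fin chevG2.rank)] x =
      polyEval [1, 1, 1, 1, 1, 1] x * polyEval [1, 1] x := by
  have s0 := wsum_step' hc cartG2 cartG2_eq ([] : List (Fin chevG2.rank)) ⟨0, by decide⟩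
    (by decide) (m := 2) (by norm_num) [1, 1] (by decide +kernel) x
  have s1 := wsum_step' hc cartG2 cartG2_eq [(⟨0, by decide⟩ : Fin chevG2.rank)] ⟨1, by decide⟩
    (by decide) (m := 6) (by norm_num) [1, 1, 1, 1, 1, 1] (by decide +kernel) x
  simp only [List.cons_append, List.nil_append] at s0 s1
  rw [s1, s0, wsum_nil, mul_one]

theorem card_group_G2 {F : Type*} [Field F] [Fintype F] {q : ℕ} (hq : Fintype.card F = q) :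
    Nat.card ↥(chevG2.group F) = q ^ 6 * (q ^ 2 - 1) * (q ^ 6 - 1) := by
  obtain ⟨T, hc, hcomm⟩ := exists_checked' (D := chevG2) (by simp)
  have hH := card_diagonal_G2 (F := F)
  have h2 : 2 ≤ q := hq ▸ Fintype.one_lt_card
  rw [card_group hc hcomm (J := [(⟨0, by decide⟩ : Fin chevG2.rank), (⟨1, by decide⟩ : Fin chevG2.rank)]) (by decide), wsum_G2 hc, hq,
    show chevG2.nroots / 2 = 6 from rfl]
  rw [hq] at hH

  have p0 : (polyEval [1, 1] q : ℤ) * (((q : ℤ) ^ 1 - 1)) = ((q : ℤ) ^ 2 - 1) := by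
    simp only [polyEval]; push_cast; ring
  have p1 : (polyEval [1, 1, 1, 1, 1, 1] q : ℤ) * (((q : ℤ) ^ 1 - 1)) = ((q : ℤ) ^ 6 - 1) := by
    simp only [polyEval]; push_cast; ring
  have key : (polyEval [1, 1, 1, 1, 1, 1] q : ℤ) * (polyEval [1, 1] q : ℤ) * ((q : ℤ) - 1) ^ 2 = ((q : ℤ) ^ 2 - 1) * ((q : ℤ) ^ 6 - 1) := by
    calc _ = ((polyEval [1, 1] q : ℤ) * (((q : ℤ) ^ 1 - 1))) * ((polyEval [1, 1, 1, 1, 1, 1] q : ℤ) * (((q : ℤ) ^ 1 - 1))) := by ring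
      _ = _ := by rw [p0, p1]
  have keyN : polyEval [1, 1, 1, 1, 1, 1] q * polyEval [1, 1] q * (q - 1) ^ 2 = (q ^ 2 - 1) * (q ^ 6 - 1) := by
    zify [Nat.one_le_pow _ q (by omega), (by omega : 1 ≤ q)]
    exact_mod_cast key
  refine Eq.trans ?_ ((congrArg (fun y : ℕ => q ^ 6 * y) keyN).trans (by ring))
  rw [← hH]
  simp only [Nat.gcd_comm (q - 1), Nat.gcd_one_left, one_pow, pow_one, pow_zero, one_mul]
  ring

/-! ### B2 -/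

def cartB2 : List (List ℤ) := [[2, -2], [-1, 2]]

theorem cartB2_eq : ∀ i k : Fin chevB2.rank, gz (cartB2.getD i.val []) k.val = cm chevB2 i k := by decide +kernel

theorem card_diagonal_B2 {F : Type*} [Field F] [Fintype F] :
    (Fintype.card F - 1).gcd 2 ^ 1 * Nat.card ↥(chevB2.diagonalSubgroup F) = (Fintype.card F - 1) ^ 2 := by
  obtain ⟨T, hc⟩ := exists_checked (D := chevB2) (by simp)
  exact card_diagonal hc 2 (![0] : Fin 1 → Fin 2)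
    (![![1, 0]] : Fin 1 → Fin 2 → ℤ)
    (![![0, 1], ![0, 1]] : Fin 2 → Fin 2 → ℤ)
    (![![2], ![1]] : Fin 2 → Fin 1 → ℤ)
    (by decide +kernel) (by decide +kernel) (by decide +kernel) (by decide +kernel)

theorem wsum_B2 {T : Tabs} (hc : Checked chevB2 T) (x : ℕ) :
    wsum hc [(⟨0, by decide⟩ : Fin chevB2.rank), (⟨1, by decide⟩ : Fin chevB2.rank)] x =
      polyEval [1, 1, 1, 1] x * polyEval [1, 1] x := by
  have s0 := wsum_step' hc cartB2 cartB2_eq ([] : List (Fin chevB2.rank)) ⟨0, by decide⟩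
    (by decide) (m := 2) (by norm_num) [1, 1] (by decide +kernel) x
  have s1 := wsum_step' hc cartB2 cartB2_eq [(⟨0, by decide⟩ : Fin chevB2.rank)] ⟨1, by decide⟩
    (by decide) (m := 4) (by norm_num) [1, 1, 1, 1] (by decide +kernel) x
  simp only [List.cons_append, List.nil_append] at s0 s1
  rw [s1, s0, wsum_nil, mul_one]

theorem card_group_B2 {F : Type*} [Field F] [Fintype F] {q : ℕ} (hq : Fintype.card F = q) :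
    Nat.gcd 2 (q - 1) * Nat.card ↥(chevB2.group F) = q ^ 4 * (q ^ 2 - 1) * (q ^ 4 - 1) := by
  obtain ⟨T, hc, hcomm⟩ := exists_checked' (D := chevB2) (by simp)
  have hH := card_diagonal_B2 (F := F)
  have h2 : 2 ≤ q := hq ▸ Fintype.one_lt_card
  rw [card_group hc hcomm (J := [(⟨0, by decide⟩ : Fin chevB2.rank), (⟨1, by decide⟩ : Fin chevB2.rank)]) (by decide), wsum_B2 hc, hq,
    show chevB2.nroots / 2 = 4 from rfl]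
  rw [hq] at hH

  have p0 : (polyEval [1, 1] q : ℤ) * (((q : ℤ) ^ 1 - 1)) = ((q : ℤ) ^ 2 - 1) := by
    simp only [polyEval]; push_cast; ring
  have p1 : (polyEval [1, 1, 1, 1] q : ℤ) * (((q : ℤ) ^ 1 - 1)) = ((q : ℤ) ^ 4 - 1) := by
    simp only [polyEval]; push_cast; ring
  have key : (polyEval [1, 1, 1, 1] q : ℤ) * (polyEval [1, 1] q : ℤ) * ((q : ℤ) - 1) ^ 2 = ((q : ℤ) ^ 2 - 1) * ((q : ℤ) ^ 4 - 1) := by
    calc _ = ((polyEval [1, 1] q : ℤ) * (((q : ℤ) ^ 1 - 1))) * ((polyEval [1, 1, 1, 1] q : ℤ) * (((q : ℤ) ^ 1 - 1))) := by ring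
      _ = _ := by rw [p0, p1]
  have keyN : polyEval [1, 1, 1, 1] q * polyEval [1, 1] q * (q - 1) ^ 2 = (q ^ 2 - 1) * (q ^ 4 - 1) := by
    zify [Nat.one_le_pow _ q (by omega), (by omega : 1 ≤ q)]
    exact_mod_cast key
  refine Eq.trans ?_ ((congrArg (fun y : ℕ => q ^ 4 * y) keyN).trans (by ring))
  rw [← hH]
  simp only [Nat.gcd_comm (q - 1), Nat.gcd_one_left, one_pow, pow_one, pow_zero, one_mul]
  ring

/-! ### D4 -/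

def cartD4 : List (List ℤ) := [[2, -1, 0, 0], [-1, 2, -1, -1], [0, -1, 2, 0], [0, -1, 0, 2]]

theorem cartD4_eq : ∀ i k : Fin chevD4.rank, gz (cartD4.getD i.val []) k.val = cm chevD4 i k := by decide +kernel

theorem card_diagonal_D4 {F : Type*} [Field F] [Fintype F] :
    (Fintype.card F - 1).gcd 2 ^ 2 * Nat.card ↥(chevD4.diagonalSubgroup F) = (Fintype.card F - 1) ^ 4 := by
  obtain ⟨T, hc⟩ := exists_checked (D := chevD4) (by simp)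
  exact card_diagonal hc 2 (![0, 2] : Fin 2 → Fin 4)
    (![![1, 0, 0, 1], ![0, 0, 1, 1]] : Fin 2 → Fin 4 → ℤ)
    (![![0, 1, 0, -1], ![0, 2, 0, -1], ![0, 1, 0, -1], ![0, 1, 0, 0]] : Fin 4 → Fin 4 → ℤ)
    (![![2, 1], ![2, 2], ![1, 2], ![1, 1]] : Fin 4 → Fin 2 → ℤ)
    (by decide +kernel) (by decide +kernel) (by decide +kernel) (by decide +kernel)

theorem wsum_D4 {T : Tabs} (hc : Checked chevD4 T) (x : ℕ) :
    wsum hc [(⟨0, by decide⟩ : Fin chevD4.rank), (⟨1, by decide⟩ : Fin chevD4.rank), (⟨2, by decide⟩ : Fin chevD4.rank), (⟨3, by decide⟩ : Fin chevD4.rank)] x =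
      polyEval [1, 1, 1, 2, 1, 1, 1] x * polyEval [1, 1, 1, 1] x * polyEval [1, 1, 1] x * polyEval [1, 1] x := by
  have s0 := wsum_step' hc cartD4 cartD4_eq ([] : List (Fin chevD4.rank)) ⟨0, by decide⟩
    (by decide) (m := 2) (by norm_num) [1, 1] (by decide +kernel) x
  have s1 := wsum_step' hc cartD4 cartD4_eq [(⟨0, by decide⟩ : Fin chevD4.rank)] ⟨1, by decide⟩
    (by decide) (m := 3) (by norm_num) [1, 1, 1] (by decide +kernel) x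
  have s2 := wsum_step' hc cartD4 cartD4_eq [(⟨0, by decide⟩ : Fin chevD4.rank), (⟨1, by decide⟩ : Fin chevD4.rank)] ⟨2, by decide⟩
    (by decide) (m := 4) (by norm_num) [1, 1, 1, 1] (by decide +kernel) x
  have s3 := wsum_step' hc cartD4 cartD4_eq [(⟨0, by decide⟩ : Fin chevD4.rank), (⟨1, by decide⟩ : Fin chevD4.rank), (⟨2, by decide⟩ : Fin chevD4.rank)] ⟨3, by decide⟩
    (by decide) (m := 7) (by norm_num) [1, 1, 1, 2, 1, 1, 1] (by decide +kernel) x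
  simp only [List.cons_append, List.nil_append] at s0 s1 s2 s3
  rw [s3, s2, s1, s0, wsum_nil, mul_one]
  ring

theorem card_group_D4 {F : Type*} [Field F] [Fintype F] {q : ℕ} (hq : Fintype.card F = q) :
    Nat.gcd 2 (q - 1) ^ 2 * Nat.card ↥(chevD4.group F) = q ^ 12 * (q ^ 2 - 1) * (q ^ 4 - 1) * (q ^ 4 - 1) * (q ^ 6 - 1) := by
  obtain ⟨T, hc, hcomm⟩ := exists_checked' (D := chevD4) (by simp)
  have hH := card_diagonal_D4 (F := F)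
  have h2 : 2 ≤ q := hq ▸ Fintype.one_lt_card
  rw [card_group hc hcomm (J := [(⟨0, by decide⟩ : Fin chevD4.rank), (⟨1, by decide⟩ : Fin chevD4.rank), (⟨2, by decide⟩ : Fin chevD4.rank), (⟨3, by decide⟩ : Fin chevD4.rank)]) (by decide), wsum_D4 hc, hq,
    show chevD4.nroots / 2 = 12 from rfl]
  rw [hq] at hH

  have p0 : (polyEval [1, 1] q : ℤ) * (((q : ℤ) ^ 1 - 1)) = ((q : ℤ) ^ 2 - 1) := by
    simp only [polyEval]; push_cast; ring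
  have p1 : (polyEval [1, 1, 1] q : ℤ) * (((q : ℤ) ^ 1 - 1)) = ((q : ℤ) ^ 3 - 1) := by
    simp only [polyEval]; push_cast; ring
  have p2 : (polyEval [1, 1, 1, 1] q : ℤ) * (((q : ℤ) ^ 1 - 1)) = ((q : ℤ) ^ 4 - 1) := by
    simp only [polyEval]; push_cast; ring
  have p3 : (polyEval [1, 1, 1, 2, 1, 1, 1] q : ℤ) * (((q : ℤ) ^ 1 - 1) * ((q : ℤ) ^ 3 - 1)) = ((q : ℤ) ^ 4 - 1) * ((q : ℤ) ^ 6 - 1) := by
    simp only [polyEval]; push_cast; ring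
  have key : (polyEval [1, 1, 1, 2, 1, 1, 1] q : ℤ) * (polyEval [1, 1, 1, 1] q : ℤ) * (polyEval [1, 1, 1] q : ℤ) * (polyEval [1, 1] q : ℤ) * ((q : ℤ) - 1) ^ 4 = ((q : ℤ) ^ 2 - 1) * ((q : ℤ) ^ 4 - 1) * ((q : ℤ) ^ 4 - 1) * ((q : ℤ) ^ 6 - 1) := by
    have hne : ∀ k : ℕ, 0 < k → (q : ℤ) ^ k - 1 ≠ 0 := fun k hk => by
      have : (2 : ℤ) ≤ (q : ℤ) ^ k := le_trans (by exact_mod_cast h2) (le_self_pow₀ (by exact_mod_cast (le_trans one_le_two h2)) hk.ne')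
      omega
    apply mul_right_cancel₀ (b := ((q : ℤ) ^ 3 - 1))
      (by repeat (first | exact hne _ (by norm_num) | refine mul_ne_zero ?_ ?_))
    calc _ = ((polyEval [1, 1] q : ℤ) * (((q : ℤ) ^ 1 - 1))) * ((polyEval [1, 1, 1] q : ℤ) * (((q : ℤ) ^ 1 - 1))) * ((polyEval [1, 1, 1, 1] q : ℤ) * (((q : ℤ) ^ 1 - 1))) * ((polyEval [1, 1, 1, 2, 1, 1, 1] q : ℤ) * (((q : ℤ) ^ 1 - 1) * ((q : ℤ) ^ 3 - 1))) := by ring
      _ = _ := by rw [p0, p1, p2, p3]; ring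
  have keyN : polyEval [1, 1, 1, 2, 1, 1, 1] q * polyEval [1, 1, 1, 1] q * polyEval [1, 1, 1] q * polyEval [1, 1] q * (q - 1) ^ 4 = (q ^ 2 - 1) * (q ^ 4 - 1) * (q ^ 4 - 1) * (q ^ 6 - 1) := by
    zify [Nat.one_le_pow _ q (by omega), (by omega : 1 ≤ q)]
    exact_mod_cast key
  refine Eq.trans ?_ ((congrArg (fun y : ℕ => q ^ 12 * y) keyN).trans (by ring))
  rw [← hH]
  simp only [Nat.gcd_comm (q - 1), Nat.gcd_one_left, one_pow, pow_one, pow_zero, one_mul]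
  ring

/-! ### F4 -/

def cartF4 : List (List ℤ) := [[2, -1, 0, 0], [-1, 2, -2, 0], [0, -1, 2, -1], [0, 0, -1, 2]]

theorem cartF4_eq : ∀ i k : Fin chevF4.rank, gz (cartF4.getD i.val []) k.val = cm chevF4 i k := by decide +kernel

theorem card_diagonal_F4 {F : Type*} [Field F] [Fintype F] :
    (Fintype.card F - 1).gcd 1 ^ 0 * Nat.card ↥(chevF4.diagonalSubgroup F) = (Fintype.card F - 1) ^ 4 := by
  obtain ⟨T, hc⟩ := exists_checked (D := chevF4) (by simp)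
  exact card_diagonal hc 1 (Fin.elim0 : Fin 0 → Fin 4)
    (Fin.elim0 : Fin 0 → Fin 4 → ℤ)
    (![![2, 3, 4, 2], ![3, 6, 8, 4], ![2, 4, 6, 3], ![1, 2, 3, 2]] : Fin 4 → Fin 4 → ℤ)
    (fun _ => Fin.elim0 : Fin 4 → Fin 0 → ℤ)
    (by decide +kernel) (by decide +kernel) (by decide +kernel) (by decide +kernel)

theorem wsum_F4 {T : Tabs} (hc : Checked chevF4 T) (x : ℕ) :
    wsum hc [(⟨0, by decide⟩ : Fin chevF4.rank), (⟨1, by decide⟩ : Fin chevF4.rank), (⟨2, by decide⟩ : Fin chevF4.rank), (⟨3, by decide⟩ : Fin chevF4.rank)] x =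
      polyEval [1, 1, 1, 1, 2, 2, 2, 2, 2, 2, 2, 2, 1, 1, 1, 1] x * polyEval [1, 1, 1, 2, 1, 1, 1] x * polyEval [1, 1, 1] x * polyEval [1, 1] x := by
  have s0 := wsum_step' hc cartF4 cartF4_eq ([] : List (Fin chevF4.rank)) ⟨0, by decide⟩
    (by decide) (m := 2) (by norm_num) [1, 1] (by decide +kernel) x
  have s1 := wsum_step' hc cartF4 cartF4_eq [(⟨0, by decide⟩ : Fin chevF4.rank)] ⟨1, by decide⟩
    (by decide) (m := 3) (by norm_num) [1, 1, 1] (by decide +kernel) x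
  have s2 := wsum_step' hc cartF4 cartF4_eq [(⟨0, by decide⟩ : Fin chevF4.rank), (⟨1, by decide⟩ : Fin chevF4.rank)] ⟨2, by decide⟩
    (by decide) (m := 7) (by norm_num) [1, 1, 1, 2, 1, 1, 1] (by decide +kernel) x
  have s3 := wsum_step' hc cartF4 cartF4_eq [(⟨0, by decide⟩ : Fin chevF4.rank), (⟨1, by decide⟩ : Fin chevF4.rank), (⟨2, by decide⟩ : Fin chevF4.rank)] ⟨3, by decide⟩
    (by decide) (m := 16) (by norm_num) [1, 1, 1, 1, 2, 2, 2, 2, 2, 2, 2, 2, 1, 1, 1, 1] (by decide +kernel) x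
  simp only [List.cons_append, List.nil_append] at s0 s1 s2 s3
  rw [s3, s2, s1, s0, wsum_nil, mul_one]
  ring

theorem card_group_F4 {F : Type*} [Field F] [Fintype F] {q : ℕ} (hq : Fintype.card F = q) :
    Nat.card ↥(chevF4.group F) = q ^ 24 * (q ^ 2 - 1) * (q ^ 6 - 1) * (q ^ 8 - 1) * (q ^ 12 - 1) := by
  obtain ⟨T, hc, hcomm⟩ := exists_checked' (D := chevF4) (by simp)
  have hH := card_diagonal_F4 (F := F)
  have h2 : 2 ≤ q := hq ▸ Fintype.one_lt_card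
  rw [card_group hc hcomm (J := [(⟨0, by decide⟩ : Fin chevF4.rank), (⟨1, by decide⟩ : Fin chevF4.rank), (⟨2, by decide⟩ : Fin chevF4.rank), (⟨3, by decide⟩ : Fin chevF4.rank)]) (by decide), wsum_F4 hc, hq,
    show chevF4.nroots / 2 = 24 from rfl]
  rw [hq] at hH

  have p0 : (polyEval [1, 1] q : ℤ) * (((q : ℤ) ^ 1 - 1)) = ((q : ℤ) ^ 2 - 1) := by
    simp only [polyEval]; push_cast; ring
  have p1 : (polyEval [1, 1, 1] q : ℤ) * (((q : ℤ) ^ 1 - 1)) = ((q : ℤ) ^ 3 - 1) := by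
    simp only [polyEval]; push_cast; ring
  have p2 : (polyEval [1, 1, 1, 2, 1, 1, 1] q : ℤ) * (((q : ℤ) ^ 1 - 1) * ((q : ℤ) ^ 3 - 1)) = ((q : ℤ) ^ 4 - 1) * ((q : ℤ) ^ 6 - 1) := by
    simp only [polyEval]; push_cast; ring
  have p3 : (polyEval [1, 1, 1, 1, 2, 2, 2, 2, 2, 2, 2, 2, 1, 1, 1, 1] q : ℤ) * (((q : ℤ) ^ 1 - 1) * ((q : ℤ) ^ 4 - 1)) = ((q : ℤ) ^ 8 - 1) * ((q : ℤ) ^ 12 - 1) := by
    simp only [polyEval]; push_cast; ring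
  have key : (polyEval [1, 1, 1, 1, 2, 2, 2, 2, 2, 2, 2, 2, 1, 1, 1, 1] q : ℤ) * (polyEval [1, 1, 1, 2, 1, 1, 1] q : ℤ) * (polyEval [1, 1, 1] q : ℤ) * (polyEval [1, 1] q : ℤ) * ((q : ℤ) - 1) ^ 4 = ((q : ℤ) ^ 2 - 1) * ((q : ℤ) ^ 6 - 1) * ((q : ℤ) ^ 8 - 1) * ((q : ℤ) ^ 12 - 1) := by
    have hne : ∀ k : ℕ, 0 < k → (q : ℤ) ^ k - 1 ≠ 0 := fun k hk => by
      have : (2 : ℤ) ≤ (q : ℤ) ^ k := le_trans (by exact_mod_cast h2) (le_self_pow₀ (by exact_mod_cast (le_trans one_le_two h2)) hk.ne')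
      omega
    apply mul_right_cancel₀ (b := ((q : ℤ) ^ 3 - 1) * ((q : ℤ) ^ 4 - 1))
      (by repeat (first | exact hne _ (by norm_num) | refine mul_ne_zero ?_ ?_))
    calc _ = ((polyEval [1, 1] q : ℤ) * (((q : ℤ) ^ 1 - 1))) * ((polyEval [1, 1, 1] q : ℤ) * (((q : ℤ) ^ 1 - 1))) * ((polyEval [1, 1, 1, 2, 1, 1, 1] q : ℤ) * (((q : ℤ) ^ 1 - 1) * ((q : ℤ) ^ 3 - 1))) * ((polyEval [1, 1, 1, 1, 2, 2, 2, 2, 2, 2, 2, 2, 1, 1, 1, 1] q : ℤ) * (((q : ℤ) ^ 1 - 1) * ((q : ℤ) ^ 4 - 1))) := by ring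
      _ = _ := by rw [p0, p1, p2, p3]; ring
  have keyN : polyEval [1, 1, 1, 1, 2, 2, 2, 2, 2, 2, 2, 2, 1, 1, 1, 1] q * polyEval [1, 1, 1, 2, 1, 1, 1] q * polyEval [1, 1, 1] q * polyEval [1, 1] q * (q - 1) ^ 4 = (q ^ 2 - 1) * (q ^ 6 - 1) * (q ^ 8 - 1) * (q ^ 12 - 1) := by
    zify [Nat.one_le_pow _ q (by omega), (by omega : 1 ≤ q)]
    exact_mod_cast key
  refine Eq.trans ?_ ((congrArg (fun y : ℕ => q ^ 24 * y) keyN).trans (by ring))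
  rw [← hH]
  simp only [Nat.gcd_comm (q - 1), Nat.gcd_one_left, one_pow, pow_one, pow_zero, one_mul]
  ring

/-! ### E6 -/

def cartE6 : List (List ℤ) := [[2, 0, -1, 0, 0, 0], [0, 2, 0, -1, 0, 0], [-1, 0, 2, -1, 0, 0], [0, -1, -1, 2, -1, 0], [0, 0, 0, -1, 2, -1], [0, 0, 0, 0, -1, 2]]

theorem cartE6_eq : ∀ i k : Fin chevE6.rank, gz (cartE6.getD i.val []) k.val = cm chevE6 i k := by decide +kernel

theorem card_diagonal_E6 {F : Type*} [Field F] [Fintype F] :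
    (Fintype.card F - 1).gcd 3 ^ 1 * Nat.card ↥(chevE6.diagonalSubgroup F) = (Fintype.card F - 1) ^ 6 := by
  obtain ⟨T, hc⟩ := exists_checked (D := chevE6) (by simp)
  exact card_diagonal hc 3 (![0] : Fin 1 → Fin 6)
    (![![1, 0, 2, 0, 1, 2]] : Fin 1 → Fin 6 → ℤ)
    (![![0, 1, -1, 2, 0, -2], ![0, 2, 0, 3, 1, -1], ![0, 2, 0, 4, 1, -2], ![0, 3, 0, 6, 2, -2], ![0, 2, 0, 4, 2, -1], ![0, 1, 0, 2, 1, 0]] : Fin 6 → Fin 6 → ℤ)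
    (![![4], ![3], ![5], ![6], ![4], ![2]] : Fin 6 → Fin 1 → ℤ)
    (by decide +kernel) (by decide +kernel) (by decide +kernel) (by decide +kernel)

theorem wsum_E6 {T : Tabs} (hc : Checked chevE6 T) (x : ℕ) :
    wsum hc [(⟨0, by decide⟩ : Fin chevE6.rank), (⟨2, by decide⟩ : Fin chevE6.rank), (⟨3, by decide⟩ : Fin chevE6.rank), (⟨1, by decide⟩ : Fin chevE6.rank), (⟨4, by decide⟩ : Fin chevE6.rank), (⟨5, by decide⟩ : Fin chevE6.rank)] x =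
      polyEval [1, 1, 1, 1, 2, 2, 2, 2, 3, 2, 2, 2, 2, 1, 1, 1, 1] x * polyEval [1, 1, 1, 2, 2, 2, 2, 2, 1, 1, 1] x * polyEval [1, 1, 1, 1, 1] x * polyEval [1, 1, 1, 1] x * polyEval [1, 1, 1] x * polyEval [1, 1] x := by
  have s0 := wsum_step' hc cartE6 cartE6_eq ([] : List (Fin chevE6.rank)) ⟨0, by decide⟩
    (by decide) (m := 2) (by norm_num) [1, 1] (by decide +kernel) x
  have s1 := wsum_step' hc cartE6 cartE6_eq [(⟨0, by decide⟩ : Fin chevE6.rank)] ⟨2, by decide⟩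
    (by decide) (m := 3) (by norm_num) [1, 1, 1] (by decide +kernel) x
  have s2 := wsum_step' hc cartE6 cartE6_eq [(⟨0, by decide⟩ : Fin chevE6.rank), (⟨2, by decide⟩ : Fin chevE6.rank)] ⟨3, by decide⟩
    (by decide) (m := 4) (by norm_num) [1, 1, 1, 1] (by decide +kernel) x
  have s3 := wsum_step' hc cartE6 cartE6_eq [(⟨0, by decide⟩ : Fin chevE6.rank), (⟨2, by decide⟩ : Fin chevE6.rank), (⟨3, by decide⟩ : Fin chevE6.rank)] ⟨1, by decide⟩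
    (by decide) (m := 5) (by norm_num) [1, 1, 1, 1, 1] (by decide +kernel) x
  have s4 := wsum_step' hc cartE6 cartE6_eq [(⟨0, by decide⟩ : Fin chevE6.rank), (⟨2, by decide⟩ : Fin chevE6.rank), (⟨3, by decide⟩ : Fin chevE6.rank), (⟨1, by decide⟩ : Fin chevE6.rank)] ⟨4, by decide⟩
    (by decide) (m := 11) (by norm_num) [1, 1, 1, 2, 2, 2, 2, 2, 1, 1, 1] (by decide +kernel) x
  have s5 := wsum_step' hc cartE6 cartE6_eq [(⟨0, by decide⟩ : Fin chevE6.rank), (⟨2, by decide⟩ : Fin chevE6.rank), (⟨3, by decide⟩ : Fin chevE6.rank), (⟨1, by decide⟩ : Fin chevE6.rank), (⟨4, by decide⟩ : Fin chevE6.rank)] ⟨5, by decide⟩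
    (by decide) (m := 17) (by norm_num) [1, 1, 1, 1, 2, 2, 2, 2, 3, 2, 2, 2, 2, 1, 1, 1, 1] (by decide +kernel) x
  simp only [List.cons_append, List.nil_append] at s0 s1 s2 s3 s4 s5
  rw [s5, s4, s3, s2, s1, s0, wsum_nil, mul_one]
  ring

theorem card_group_E6 {F : Type*} [Field F] [Fintype F] {q : ℕ} (hq : Fintype.card F = q) :
    Nat.gcd 3 (q - 1) * Nat.card ↥(chevE6.group F) = q ^ 36 * (q ^ 2 - 1) * (q ^ 5 - 1) * (q ^ 6 - 1) * (q ^ 8 - 1) * (q ^ 9 - 1) * (q ^ 12 - 1) := by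
  obtain ⟨T, hc, hcomm⟩ := exists_checked' (D := chevE6) (by simp)
  have hH := card_diagonal_E6 (F := F)
  have h2 : 2 ≤ q := hq ▸ Fintype.one_lt_card
  rw [card_group hc hcomm (J := [(⟨0, by decide⟩ : Fin chevE6.rank), (⟨2, by decide⟩ : Fin chevE6.rank), (⟨3, by decide⟩ : Fin chevE6.rank), (⟨1, by decide⟩ : Fin chevE6.rank), (⟨4, by decide⟩ : Fin chevE6.rank), (⟨5, by decide⟩ : Fin chevE6.rank)]) (by decide), wsum_E6 hc, hq,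
    show chevE6.nroots / 2 = 36 from rfl]
  rw [hq] at hH

  have p0 : (polyEval [1, 1] q : ℤ) * (((q : ℤ) ^ 1 - 1)) = ((q : ℤ) ^ 2 - 1) := by
    simp only [polyEval]; push_cast; ring
  have p1 : (polyEval [1, 1, 1] q : ℤ) * (((q : ℤ) ^ 1 - 1)) = ((q : ℤ) ^ 3 - 1) := by
    simp only [polyEval]; push_cast; ring
  have p2 : (polyEval [1, 1, 1, 1] q : ℤ) * (((q : ℤ) ^ 1 - 1)) = ((q : ℤ) ^ 4 - 1) := by
    simp only [polyEval]; push_cast; ring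
  have p3 : (polyEval [1, 1, 1, 1, 1] q : ℤ) * (((q : ℤ) ^ 1 - 1)) = ((q : ℤ) ^ 5 - 1) := by
    simp only [polyEval]; push_cast; ring
  have p4 : (polyEval [1, 1, 1, 2, 2, 2, 2, 2, 1, 1, 1] q : ℤ) * (((q : ℤ) ^ 1 - 1) * ((q : ℤ) ^ 3 - 1)) = ((q : ℤ) ^ 6 - 1) * ((q : ℤ) ^ 8 - 1) := by
    simp only [polyEval]; push_cast; ring
  have p5 : (polyEval [1, 1, 1, 1, 2, 2, 2, 2, 3, 2, 2, 2, 2, 1, 1, 1, 1] q : ℤ) * (((q : ℤ) ^ 1 - 1) * ((q : ℤ) ^ 4 - 1)) = ((q : ℤ) ^ 9 - 1) * ((q : ℤ) ^ 12 - 1) := by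
    simp only [polyEval]; push_cast; ring
  have key : (polyEval [1, 1, 1, 1, 2, 2, 2, 2, 3, 2, 2, 2, 2, 1, 1, 1, 1] q : ℤ) * (polyEval [1, 1, 1, 2, 2, 2, 2, 2, 1, 1, 1] q : ℤ) * (polyEval [1, 1, 1, 1, 1] q : ℤ) * (polyEval [1, 1, 1, 1] q : ℤ) * (polyEval [1, 1, 1] q : ℤ) * (polyEval [1, 1] q : ℤ) * ((q : ℤ) - 1) ^ 6 = ((q : ℤ) ^ 2 - 1) * ((q : ℤ) ^ 5 - 1) * ((q : ℤ) ^ 6 - 1) * ((q : ℤ) ^ 8 - 1) * ((q : ℤ) ^ 9 - 1) * ((q : ℤ) ^ 12 - 1) := by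
    have hne : ∀ k : ℕ, 0 < k → (q : ℤ) ^ k - 1 ≠ 0 := fun k hk => by
      have : (2 : ℤ) ≤ (q : ℤ) ^ k := le_trans (by exact_mod_cast h2) (le_self_pow₀ (by exact_mod_cast (le_trans one_le_two h2)) hk.ne')
      omega
    apply mul_right_cancel₀ (b := ((q : ℤ) ^ 3 - 1) * ((q : ℤ) ^ 4 - 1))
      (by repeat (first | exact hne _ (by norm_num) | refine mul_ne_zero ?_ ?_))
    calc _ = ((polyEval [1, 1] q : ℤ) * (((q : ℤ) ^ 1 - 1))) * ((polyEval [1, 1, 1] q : ℤ) * (((q : ℤ) ^ 1 - 1))) * ((polyEval [1, 1, 1, 1] q : ℤ) * (((q : ℤ) ^ 1 - 1))) * ((polyEval [1, 1, 1, 1, 1] q : ℤ) * (((q : ℤ) ^ 1 - 1))) * ((polyEval [1, 1, 1, 2, 2, 2, 2, 2, 1, 1, 1] q : ℤ) * (((q : ℤ) ^ 1 - 1) * ((q : ℤ) ^ 3 - 1))) * ((polyEval [1, 1, 1, 1, 2, 2, 2, 2, 3, 2, 2, 2, 2, 1, 1, 1, 1] q : ℤ) * (((q : ℤ) ^ 1 - 1) * ((q : ℤ) ^ 4 - 1))) := by ring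
      _ = _ := by rw [p0, p1, p2, p3, p4, p5]; ring
  have keyN : polyEval [1, 1, 1, 1, 2, 2, 2, 2, 3, 2, 2, 2, 2, 1, 1, 1, 1] q * polyEval [1, 1, 1, 2, 2, 2, 2, 2, 1, 1, 1] q * polyEval [1, 1, 1, 1, 1] q * polyEval [1, 1, 1, 1] q * polyEval [1, 1, 1] q * polyEval [1, 1] q * (q - 1) ^ 6 = (q ^ 2 - 1) * (q ^ 5 - 1) * (q ^ 6 - 1) * (q ^ 8 - 1) * (q ^ 9 - 1) * (q ^ 12 - 1) := by
    zify [Nat.one_le_pow _ q (by omega), (by omega : 1 ≤ q)]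
    exact_mod_cast key
  refine Eq.trans ?_ ((congrArg (fun y : ℕ => q ^ 36 * y) keyN).trans (by ring))
  rw [← hH]
  simp only [Nat.gcd_comm (q - 1), Nat.gcd_one_left, one_pow, pow_one, pow_zero, one_mul]
  ring

/-! ### E7 -/

def cartE7 : List (List ℤ) := [[2, 0, -1, 0, 0, 0, 0], [0, 2, 0, -1, 0, 0, 0], [-1, 0, 2, -1, 0, 0, 0], [0, -1, -1, 2, -1, 0, 0], [0, 0, 0, -1, 2, -1, 0], [0, 0, 0, 0, -1, 2, -1], [0, 0, 0, 0, 0, -1, 2]]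

theorem cartE7_eq : ∀ i k : Fin chevE7.rank, gz (cartE7.getD i.val []) k.val = cm chevE7 i k := by decide +kernel

theorem card_diagonal_E7 {F : Type*} [Field F] [Fintype F] :
    (Fintype.card F - 1).gcd 2 ^ 1 * Nat.card ↥(chevE7.diagonalSubgroup F) = (Fintype.card F - 1) ^ 7 := by
  obtain ⟨T, hc⟩ := exists_checked (D := chevE7) (by simp)
  exact card_diagonal hc 2 (![1] : Fin 1 → Fin 7)
    (![![0, 1, 0, 0, 1, 0, 1]] : Fin 1 → Fin 7 → ℤ)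
    (![![2, 0, 3, 4, 1, 2, -1], ![2, 0, 4, 6, 1, 3, -2], ![3, 0, 6, 8, 2, 4, -2], ![4, 0, 8, 12, 3, 6, -3], ![3, 0, 6, 9, 3, 5, -2], ![2, 0, 4, 6, 2, 4, -1], ![1, 0, 2, 3, 1, 2, 0]] : Fin 7 → Fin 7 → ℤ)
    (![![4], ![7], ![8], ![12], ![9], ![6], ![3]] : Fin 7 → Fin 1 → ℤ)
    (by decide +kernel) (by decide +kernel) (by decide +kernel) (by decide +kernel)

theorem wsum_E7 {T : Tabs} (hc : Checked chevE7 T) (x : ℕ) :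
    wsum hc [(⟨0, by decide⟩ : Fin chevE7.rank), (⟨2, by decide⟩ : Fin chevE7.rank), (⟨3, by decide⟩ : Fin chevE7.rank), (⟨1, by decide⟩ : Fin chevE7.rank), (⟨4, by decide⟩ : Fin chevE7.rank), (⟨5, by decide⟩ : Fin chevE7.rank), (⟨6, by decide⟩ : Fin chevE7.rank)] x =
      polyEval [1, 1, 1, 1, 1, 2, 2, 2, 2, 3, 3, 3, 3, 3, 3, 3, 3, 3, 3, 2, 2, 2, 2, 1, 1, 1, 1, 1] x * polyEval [1, 1, 1, 1, 2, 2, 2, 2, 3, 2, 2, 2, 2, 1, 1, 1, 1] x * polyEval [1, 1, 1, 2, 2, 2, 2, 2, 1, 1, 1] x * polyEval [1, 1, 1, 1, 1] x * polyEval [1, 1, 1, 1] x * polyEval [1, 1, 1] x * polyEval [1, 1] x := by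
  have s0 := wsum_step' hc cartE7 cartE7_eq ([] : List (Fin chevE7.rank)) ⟨0, by decide⟩
    (by decide) (m := 2) (by norm_num) [1, 1] (by decide +kernel) x
  have s1 := wsum_step' hc cartE7 cartE7_eq [(⟨0, by decide⟩ : Fin chevE7.rank)] ⟨2, by decide⟩
    (by decide) (m := 3) (by norm_num) [1, 1, 1] (by decide +kernel) x
  have s2 := wsum_step' hc cartE7 cartE7_eq [(⟨0, by decide⟩ : Fin chevE7.rank), (⟨2, by decide⟩ : Fin chevE7.rank)] ⟨3, by decide⟩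
    (by decide) (m := 4) (by norm_num) [1, 1, 1, 1] (by decide +kernel) x
  have s3 := wsum_step' hc cartE7 cartE7_eq [(⟨0, by decide⟩ : Fin chevE7.rank), (⟨2, by decide⟩ : Fin chevE7.rank), (⟨3, by decide⟩ : Fin chevE7.rank)] ⟨1, by decide⟩
    (by decide) (m := 5) (by norm_num) [1, 1, 1, 1, 1] (by decide +kernel) x
  have s4 := wsum_step' hc cartE7 cartE7_eq [(⟨0, by decide⟩ : Fin chevE7.rank), (⟨2, by decide⟩ : Fin chevE7.rank), (⟨3, by decide⟩ : Fin chevE7.rank), (⟨1, by decide⟩ : Fin chevE7.rank)] ⟨4, by decide⟩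
    (by decide) (m := 11) (by norm_num) [1, 1, 1, 2, 2, 2, 2, 2, 1, 1, 1] (by decide +kernel) x
  have s5 := wsum_step' hc cartE7 cartE7_eq [(⟨0, by decide⟩ : Fin chevE7.rank), (⟨2, by decide⟩ : Fin chevE7.rank), (⟨3, by decide⟩ : Fin chevE7.rank), (⟨1, by decide⟩ : Fin chevE7.rank), (⟨4, by decide⟩ : Fin chevE7.rank)] ⟨5, by decide⟩
    (by decide) (m := 17) (by norm_num) [1, 1, 1, 1, 2, 2, 2, 2, 3, 2, 2, 2, 2, 1, 1, 1, 1] (by decide +kernel) x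
  have s6 := wsum_step' hc cartE7 cartE7_eq [(⟨0, by decide⟩ : Fin chevE7.rank), (⟨2, by decide⟩ : Fin chevE7.rank), (⟨3, by decide⟩ : Fin chevE7.rank), (⟨1, by decide⟩ : Fin chevE7.rank), (⟨4, by decide⟩ : Fin chevE7.rank), (⟨5, by decide⟩ : Fin chevE7.rank)] ⟨6, by decide⟩
    (by decide) (m := 28) (by norm_num) [1, 1, 1, 1, 1, 2, 2, 2, 2, 3, 3, 3, 3, 3, 3, 3, 3, 3, 3, 2, 2, 2, 2, 1, 1, 1, 1, 1] (by decide +kernel) x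
  simp only [List.cons_append, List.nil_append] at s0 s1 s2 s3 s4 s5 s6
  rw [s6, s5, s4, s3, s2, s1, s0, wsum_nil, mul_one]
  ring

theorem card_group_E7 {F : Type*} [Field F] [Fintype F] {q : ℕ} (hq : Fintype.card F = q) :
    Nat.gcd 2 (q - 1) * Nat.card ↥(chevE7.group F) = q ^ 63 * (q ^ 2 - 1) * (q ^ 6 - 1) * (q ^ 8 - 1) * (q ^ 10 - 1) * (q ^ 12 - 1) * (q ^ 14 - 1) * (q ^ 18 - 1) := by
  obtain ⟨T, hc, hcomm⟩ := exists_checked' (D := chevE7) (by simp)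
  have hH := card_diagonal_E7 (F := F)
  have h2 : 2 ≤ q := hq ▸ Fintype.one_lt_card
  rw [card_group hc hcomm (J := [(⟨0, by decide⟩ : Fin chevE7.rank), (⟨2, by decide⟩ : Fin chevE7.rank), (⟨3, by decide⟩ : Fin chevE7.rank), (⟨1, by decide⟩ : Fin chevE7.rank), (⟨4, by decide⟩ : Fin chevE7.rank), (⟨5, by decide⟩ : Fin chevE7.rank), (⟨6, by decide⟩ : Fin chevE7.rank)]) (by decide), wsum_E7 hc, hq,
    show chevE7.nroots / 2 = 63 from rfl]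
  rw [hq] at hH

  have p0 : (polyEval [1, 1] q : ℤ) * (((q : ℤ) ^ 1 - 1)) = ((q : ℤ) ^ 2 - 1) := by
    simp only [polyEval]; push_cast; ring
  have p1 : (polyEval [1, 1, 1] q : ℤ) * (((q : ℤ) ^ 1 - 1)) = ((q : ℤ) ^ 3 - 1) := by
    simp only [polyEval]; push_cast; ring
  have p2 : (polyEval [1, 1, 1, 1] q : ℤ) * (((q : ℤ) ^ 1 - 1)) = ((q : ℤ) ^ 4 - 1) := by
    simp only [polyEval]; push_cast; ring
  have p3 : (polyEval [1, 1, 1, 1, 1] q : ℤ) * (((q : ℤ) ^ 1 - 1)) = ((q : ℤ) ^ 5 - 1) := by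
    simp only [polyEval]; push_cast; ring
  have p4 : (polyEval [1, 1, 1, 2, 2, 2, 2, 2, 1, 1, 1] q : ℤ) * (((q : ℤ) ^ 1 - 1) * ((q : ℤ) ^ 3 - 1)) = ((q : ℤ) ^ 6 - 1) * ((q : ℤ) ^ 8 - 1) := by
    simp only [polyEval]; push_cast; ring
  have p5 : (polyEval [1, 1, 1, 1, 2, 2, 2, 2, 3, 2, 2, 2, 2, 1, 1, 1, 1] q : ℤ) * (((q : ℤ) ^ 1 - 1) * ((q : ℤ) ^ 4 - 1)) = ((q : ℤ) ^ 9 - 1) * ((q : ℤ) ^ 12 - 1) := by
    simp only [polyEval]; push_cast; ring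
  have p6 : (polyEval [1, 1, 1, 1, 1, 2, 2, 2, 2, 3, 3, 3, 3, 3, 3, 3, 3, 3, 3, 2, 2, 2, 2, 1, 1, 1, 1, 1] q : ℤ) * (((q : ℤ) ^ 1 - 1) * ((q : ℤ) ^ 5 - 1) * ((q : ℤ) ^ 9 - 1)) = ((q : ℤ) ^ 10 - 1) * ((q : ℤ) ^ 14 - 1) * ((q : ℤ) ^ 18 - 1) := by
    simp only [polyEval]; push_cast; ring
  have key : (polyEval [1, 1, 1, 1, 1, 2, 2, 2, 2, 3, 3, 3, 3, 3, 3, 3, 3, 3, 3, 2, 2, 2, 2, 1, 1, 1, 1, 1] q : ℤ) * (polyEval [1, 1, 1, 1, 2, 2, 2, 2, 3, 2, 2, 2, 2, 1, 1, 1, 1] q : ℤ) * (polyEval [1, 1, 1, 2, 2, 2, 2, 2, 1, 1, 1] q : ℤ) * (polyEval [1, 1, 1, 1, 1] q : ℤ) * (polyEval [1, 1, 1, 1] q : ℤ) * (polyEval [1, 1, 1] q : ℤ) * (polyEval [1, 1] q : ℤ) * ((q : ℤ) - 1) ^ 7 = ((q : ℤ) ^ 2 - 1) * ((q : ℤ) ^ 6 - 1) * ((q : ℤ) ^ 8 - 1) * ((q : ℤ) ^ 10 - 1) * ((q : ℤ) ^ 12 - 1) * ((q : ℤ) ^ 14 - 1) * ((q : ℤ) ^ 18 - 1) := by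
    have hne : ∀ k : ℕ, 0 < k → (q : ℤ) ^ k - 1 ≠ 0 := fun k hk => by
      have : (2 : ℤ) ≤ (q : ℤ) ^ k := le_trans (by exact_mod_cast h2) (le_self_pow₀ (by exact_mod_cast (le_trans one_le_two h2)) hk.ne')
      omega
    apply mul_right_cancel₀ (b := ((q : ℤ) ^ 3 - 1) * ((q : ℤ) ^ 4 - 1) * ((q : ℤ) ^ 5 - 1) * ((q : ℤ) ^ 9 - 1))
      (by repeat (first | exact hne _ (by norm_num) | refine mul_ne_zero ?_ ?_))
    calc _ = ((polyEval [1, 1] q : ℤ) * (((q : ℤ) ^ 1 - 1))) * ((polyEval [1, 1, 1] q : ℤ) * (((q : ℤ) ^ 1 - 1))) * ((polyEval [1, 1, 1, 1] q : ℤ) * (((q : ℤ) ^ 1 - 1))) * ((polyEval [1, 1, 1, 1, 1] q : ℤ) * (((q : ℤ) ^ 1 - 1))) * ((polyEval [1, 1, 1, 2, 2, 2, 2, 2, 1, 1, 1] q : ℤ) * (((q : ℤ) ^ 1 - 1) * ((q : ℤ) ^ 3 - 1))) * ((polyEval [1, 1, 1, 1, 2, 2, 2, 2, 3, 2, 2, 2, 2, 1, 1, 1, 1] q : ℤ) * (((q : ℤ) ^ 1 - 1) * ((q :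 ℤ) ^ 4 - 1))) * ((polyEval [1, 1, 1, 1, 1, 2, 2, 2, 2, 3, 3, 3, 3, 3, 3, 3, 3, 3, 3, 2, 2, 2, 2, 1, 1, 1, 1, 1] q : ℤ) * (((q : ℤ) ^ 1 - 1) * ((q : ℤ) ^ 5 - 1) * ((q : ℤ) ^ 9 - 1))) := by ring
      _ = _ := by rw [p0, p1, p2, p3, p4, p5, p6]; ring
  have keyN : polyEval [1, 1, 1, 1, 1, 2, 2, 2, 2, 3, 3, 3, 3, 3, 3, 3, 3, 3, 3, 2, 2, 2, 2, 1, 1, 1, 1, 1] q * polyEval [1, 1, 1, 1, 2, 2, 2, 2, 3, 2, 2, 2, 2, 1, 1, 1, 1] q * polyEval [1, 1, 1, 2, 2, 2, 2, 2, 1, 1, 1] q * polyEval [1, 1, 1, 1, 1] q * polyEval [1, 1, 1, 1] q * polyEval [1, 1, 1] q * polyEval [1, 1] q * (q - 1) ^ 7 = (q ^ 2 - 1) * (q ^ 6 - 1) * (q ^ 8 - 1) * (q ^ 10 - 1) * (q ^ 12 - 1) * (q ^ 14 - 1) * (q ^ 18 - 1) := by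
    zify [Nat.one_le_pow _ q (by omega), (by omega : 1 ≤ q)]
    exact_mod_cast key
  refine Eq.trans ?_ ((congrArg (fun y : ℕ => q ^ 63 * y) keyN).trans (by ring))
  rw [← hH]
  simp only [Nat.gcd_comm (q - 1), Nat.gcd_one_left, one_pow, pow_one, pow_zero, one_mul]
  ring

/-! ### E8 -/

def cartE8 : List (List ℤ) := [[2, 0, -1, 0, 0, 0, 0, 0], [0, 2, 0, -1, 0, 0, 0, 0], [-1, 0, 2, -1, 0, 0, 0, 0], [0, -1, -1, 2, -1, 0, 0, 0], [0, 0, 0, -1, 2, -1, 0, 0], [0, 0, 0, 0, -1, 2, -1, 0], [0, 0, 0, 0, 0, -1, 2, -1], [0, 0, 0, 0, 0, 0, -1, 2]]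

theorem cartE8_eq : ∀ i k : Fin chevE8.rank, gz (cartE8.getD i.val []) k.val = cm chevE8 i k := by decide +kernel

theorem card_diagonal_E8 {F : Type*} [Field F] [Fintype F] :
    (Fintype.card F - 1).gcd 1 ^ 0 * Nat.card ↥(chevE8.diagonalSubgroup F) = (Fintype.card F - 1) ^ 8 := by
  obtain ⟨T, hc⟩ := exists_checked (D := chevE8) (by simp)
  exact card_diagonal hc 1 (Fin.elim0 : Fin 0 → Fin 8)
    (Fin.elim0 : Fin 0 → Fin 8 → ℤ)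
    (![![4, 5, 7, 10, 8, 6, 4, 2], ![5, 8, 10, 15, 12, 9, 6, 3], ![7, 10, 14, 20, 16, 12, 8, 4], ![10, 15, 20, 30, 24, 18, 12, 6], ![8, 12, 16, 24, 20, 15, 10, 5], ![6, 9, 12, 18, 15, 12, 8, 4], ![4, 6, 8, 12, 10, 8, 6, 3], ![2, 3, 4, 6, 5, 4, 3, 2]] : Fin 8 → Fin 8 → ℤ)
    (fun _ => Fin.elim0 : Fin 8 → Fin 0 → ℤ)
    (by decide +kernel) (by decide +kernel) (by decide +kernel) (by decide +kernel)

theorem wsum_E8 {T : Tabs} (hc : Checked chevE8 T) (x : ℕ) :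
    wsum hc [(⟨0, by decide⟩ : Fin chevE8.rank), (⟨2, by decide⟩ : Fin chevE8.rank), (⟨3, by decide⟩ : Fin chevE8.rank), (⟨1, by decide⟩ : Fin chevE8.rank), (⟨4, by decide⟩ : Fin chevE8.rank), (⟨5, by decide⟩ : Fin chevE8.rank), (⟨6, by decide⟩ : Fin chevE8.rank), (⟨7, by decide⟩ : Fin chevE8.rank)] x =
      polyEval [1, 1, 1, 1, 1, 1, 2, 2, 2, 2, 3, 3, 4, 4, 4, 4, 5, 5, 6, 6, 6, 6, 7, 7, 7, 7, 7, 7, 8, 8, 7, 7, 7, 7, 7, 7, 6, 6, 6, 6, 5, 5, 4, 4, 4, 4, 3, 3, 2, 2, 2, 2, 1, 1, 1, 1, 1, 1] x * polyEval [1, 1, 1, 1, 1, 2, 2, 2, 2, 3, 3, 3, 3, 3, 3, 3, 3, 3, 3, 2, 2, 2, 2, 1, 1, 1, 1, 1] x * polyEval [1, 1, 1, 1, 2, 2, 2, 2, 3, 2, 2, 2, 2, 1, 1, 1, 1] x * polyEval [1, 1, 1, 2, 2, 2, 2, 2, 1, 1, 1] x * polyEval [1, 1, 1, 1, 1] x * polyEval [1, 1, 1, 1] x * polyEval [1, 1, 1] x * polyEval [1, 1] x := by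
  have s0 := wsum_step' hc cartE8 cartE8_eq ([] : List (Fin chevE8.rank)) ⟨0, by decide⟩
    (by decide) (m := 2) (by norm_num) [1, 1] (by decide +kernel) x
  have s1 := wsum_step' hc cartE8 cartE8_eq [(⟨0, by decide⟩ : Fin chevE8.rank)] ⟨2, by decide⟩
    (by decide) (m := 3) (by norm_num) [1, 1, 1] (by decide +kernel) x
  have s2 := wsum_step' hc cartE8 cartE8_eq [(⟨0, by decide⟩ : Fin chevE8.rank), (⟨2, by decide⟩ : Fin chevE8.rank)] ⟨3, by decide⟩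
    (by decide) (m := 4) (by norm_num) [1, 1, 1, 1] (by decide +kernel) x
  have s3 := wsum_step' hc cartE8 cartE8_eq [(⟨0, by decide⟩ : Fin chevE8.rank), (⟨2, by decide⟩ : Fin chevE8.rank), (⟨3, by decide⟩ : Fin chevE8.rank)] ⟨1, by decide⟩
    (by decide) (m := 5) (by norm_num) [1, 1, 1, 1, 1] (by decide +kernel) x
  have s4 := wsum_step' hc cartE8 cartE8_eq [(⟨0, by decide⟩ : Fin chevE8.rank), (⟨2, by decide⟩ : Fin chevE8.rank), (⟨3, by decide⟩ : Fin chevE8.rank), (⟨1, by decide⟩ : Fin chevE8.rank)] ⟨4, by decide⟩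
    (by decide) (m := 11) (by norm_num) [1, 1, 1, 2, 2, 2, 2, 2, 1, 1, 1] (by decide +kernel) x
  have s5 := wsum_step' hc cartE8 cartE8_eq [(⟨0, by decide⟩ : Fin chevE8.rank), (⟨2, by decide⟩ : Fin chevE8.rank), (⟨3, by decide⟩ : Fin chevE8.rank), (⟨1, by decide⟩ : Fin chevE8.rank), (⟨4, by decide⟩ : Fin chevE8.rank)] ⟨5, by decide⟩
    (by decide) (m := 17) (by norm_num) [1, 1, 1, 1, 2, 2, 2, 2, 3, 2, 2, 2, 2, 1, 1, 1, 1] (by decide +kernel) x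
  have s6 := wsum_step' hc cartE8 cartE8_eq [(⟨0, by decide⟩ : Fin chevE8.rank), (⟨2, by decide⟩ : Fin chevE8.rank), (⟨3, by decide⟩ : Fin chevE8.rank), (⟨1, by decide⟩ : Fin chevE8.rank), (⟨4, by decide⟩ : Fin chevE8.rank), (⟨5, by decide⟩ : Fin chevE8.rank)] ⟨6, by decide⟩
    (by decide) (m := 28) (by norm_num) [1, 1, 1, 1, 1, 2, 2, 2, 2, 3, 3, 3, 3, 3, 3, 3, 3, 3, 3, 2, 2, 2, 2, 1, 1, 1, 1, 1] (by decide +kernel) x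
  have s7 := wsum_step' hc cartE8 cartE8_eq [(⟨0, by decide⟩ : Fin chevE8.rank), (⟨2, by decide⟩ : Fin chevE8.rank), (⟨3, by decide⟩ : Fin chevE8.rank), (⟨1, by decide⟩ : Fin chevE8.rank), (⟨4, by decide⟩ : Fin chevE8.rank), (⟨5, by decide⟩ : Fin chevE8.rank), (⟨6, by decide⟩ : Fin chevE8.rank)] ⟨7, by decide⟩
    (by decide) (m := 58) (by norm_num) [1, 1, 1, 1, 1, 1, 2, 2, 2, 2, 3, 3, 4, 4, 4, 4, 5, 5, 6, 6, 6, 6, 7, 7, 7, 7, 7, 7, 8, 8, 7, 7, 7, 7, 7, 7, 6, 6, 6, 6, 5, 5, 4, 4, 4, 4, 3, 3, 2, 2, 2, 2, 1, 1, 1, 1, 1, 1] (by decide +kernel) x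
  simp only [List.cons_append, List.nil_append] at s0 s1 s2 s3 s4 s5 s6 s7
  rw [s7, s6, s5, s4, s3, s2, s1, s0, wsum_nil, mul_one]
  ring

theorem card_group_E8 {F : Type*} [Field F] [Fintype F] {q : ℕ} (hq : Fintype.card F = q) :
    Nat.card ↥(chevE8.group F) = q ^ 120 * (q ^ 2 - 1) * (q ^ 8 - 1) * (q ^ 12 - 1) * (q ^ 14 - 1) * (q ^ 18 - 1) * (q ^ 20 - 1) * (q ^ 24 - 1) * (q ^ 30 - 1) := by
  obtain ⟨T, hc, hcomm⟩ := exists_checked' (D := chevE8) (by simp)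
  have hH := card_diagonal_E8 (F := F)
  have h2 : 2 ≤ q := hq ▸ Fintype.one_lt_card
  rw [card_group hc hcomm (J := [(⟨0, by decide⟩ : Fin chevE8.rank), (⟨2, by decide⟩ : Fin chevE8.rank), (⟨3, by decide⟩ : Fin chevE8.rank), (⟨1, by decide⟩ : Fin chevE8.rank), (⟨4, by decide⟩ : Fin chevE8.rank), (⟨5, by decide⟩ : Fin chevE8.rank), (⟨6, by decide⟩ : Fin chevE8.rank), (⟨7, by decide⟩ : Fin chevE8.rank)]) (by decide), wsum_E8 hc, hq,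
    show chevE8.nroots / 2 = 120 from rfl]
  rw [hq] at hH

  have p0 : (polyEval [1, 1] q : ℤ) * (((q : ℤ) ^ 1 - 1)) = ((q : ℤ) ^ 2 - 1) := by
    simp only [polyEval]; push_cast; ring
  have p1 : (polyEval [1, 1, 1] q : ℤ) * (((q : ℤ) ^ 1 - 1)) = ((q : ℤ) ^ 3 - 1) := by
    simp only [polyEval]; push_cast; ring
  have p2 : (polyEval [1, 1, 1, 1] q : ℤ) * (((q : ℤ) ^ 1 - 1)) = ((q : ℤ) ^ 4 - 1) := by
    simp only [polyEval]; push_cast; ring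
  have p3 : (polyEval [1, 1, 1, 1, 1] q : ℤ) * (((q : ℤ) ^ 1 - 1)) = ((q : ℤ) ^ 5 - 1) := by
    simp only [polyEval]; push_cast; ring
  have p4 : (polyEval [1, 1, 1, 2, 2, 2, 2, 2, 1, 1, 1] q : ℤ) * (((q : ℤ) ^ 1 - 1) * ((q : ℤ) ^ 3 - 1)) = ((q : ℤ) ^ 6 - 1) * ((q : ℤ) ^ 8 - 1) := by
    simp only [polyEval]; push_cast; ring
  have p5 : (polyEval [1, 1, 1, 1, 2, 2, 2, 2, 3, 2, 2, 2, 2, 1, 1, 1, 1] q : ℤ) * (((q : ℤ) ^ 1 - 1) * ((q : ℤ) ^ 4 - 1)) = ((q : ℤ) ^ 9 - 1) * ((q : ℤ) ^ 12 - 1) := by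
    simp only [polyEval]; push_cast; ring
  have p6 : (polyEval [1, 1, 1, 1, 1, 2, 2, 2, 2, 3, 3, 3, 3, 3, 3, 3, 3, 3, 3, 2, 2, 2, 2, 1, 1, 1, 1, 1] q : ℤ) * (((q : ℤ) ^ 1 - 1) * ((q : ℤ) ^ 5 - 1) * ((q : ℤ) ^ 9 - 1)) = ((q : ℤ) ^ 10 - 1) * ((q : ℤ) ^ 14 - 1) * ((q : ℤ) ^ 18 - 1) := by
    simp only [polyEval]; push_cast; ring
  have p7 : (polyEval [1, 1, 1, 1, 1, 1, 2, 2, 2, 2, 3, 3, 4, 4, 4, 4, 5, 5, 6, 6, 6, 6, 7, 7, 7, 7, 7, 7, 8, 8, 7, 7, 7, 7, 7, 7, 6, 6, 6, 6, 5, 5, 4, 4, 4, 4, 3, 3, 2, 2, 2, 2, 1, 1, 1, 1, 1, 1] q : ℤ) * (((q : ℤ) ^ 1 - 1) * ((q : ℤ) ^ 6 - 1) * ((q : ℤ) ^ 10 - 1)) = ((q : ℤ) ^ 20 - 1) * ((q : ℤ) ^ 24 - 1) * ((q : ℤ) ^ 30 - 1) := by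
    simp only [polyEval]; push_cast; ring
  have key : (polyEval [1, 1, 1, 1, 1, 1, 2, 2, 2, 2, 3, 3, 4, 4, 4, 4, 5, 5, 6, 6, 6, 6, 7, 7, 7, 7, 7, 7, 8, 8, 7, 7, 7, 7, 7, 7, 6, 6, 6, 6, 5, 5, 4, 4, 4, 4, 3, 3, 2, 2, 2, 2, 1, 1, 1, 1, 1, 1] q : ℤ) * (polyEval [1, 1, 1, 1, 1, 2, 2, 2, 2, 3, 3, 3, 3, 3, 3, 3, 3, 3, 3, 2, 2, 2, 2, 1, 1, 1, 1, 1] q : ℤ) * (polyEval [1, 1, 1, 1, 2, 2, 2, 2, 3, 2, 2, 2, 2, 1, 1, 1, 1] q : ℤ) * (polyEval [1, 1, 1, 2, 2, 2, 2, 2, 1, 1, 1] q : ℤ) * (polyEval [1, 1, 1, 1, 1] q : ℤ) * (polyEval [1, 1, 1, 1] q : ℤ) * (polyEval [1, 1, 1] q : ℤ) * (polyEval [1, 1] q : ℤ) * ((q : ℤ) - 1) ^ 8 = ((q : ℤ) ^ 2 - 1) * ((q : ℤ) ^ 8 - 1) * ((q : ℤ) ^ 12 - 1) * ((q : ℤ) ^ 14 - 1) * ((q : ℤ) ^ 18 - 1) * ((q : ℤ) ^ 20 - 1) * ((q : ℤ) ^ 24 - 1) * ((q : ℤ) ^ 30 - 1) := by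
    have hne : ∀ k : ℕ, 0 < k → (q : ℤ) ^ k - 1 ≠ 0 := fun k hk => by
      have : (2 : ℤ) ≤ (q : ℤ) ^ k := le_trans (by exact_mod_cast h2) (le_self_pow₀ (by exact_mod_cast (le_trans one_le_two h2)) hk.ne')
      omega
    apply mul_right_cancel₀ (b := ((q : ℤ) ^ 3 - 1) * ((q : ℤ) ^ 4 - 1) * ((q : ℤ) ^ 5 - 1) * ((q : ℤ) ^ 6 - 1) * ((q : ℤ) ^ 9 - 1) * ((q : ℤ) ^ 10 - 1))
      (by repeat (first | exact hne _ (by norm_num) | refine mul_ne_zero ?_ ?_))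
    calc _ = ((polyEval [1, 1] q : ℤ) * (((q : ℤ) ^ 1 - 1))) * ((polyEval [1, 1, 1] q : ℤ) * (((q : ℤ) ^ 1 - 1))) * ((polyEval [1, 1, 1, 1] q : ℤ) * (((q : ℤ) ^ 1 - 1))) * ((polyEval [1, 1, 1, 1, 1] q : ℤ) * (((q : ℤ) ^ 1 - 1))) * ((polyEval [1, 1, 1, 2, 2, 2, 2, 2, 1, 1, 1] q : ℤ) * (((q : ℤ) ^ 1 - 1) * ((q : ℤ) ^ 3 - 1))) * ((polyEval [1, 1, 1, 1, 2, 2, 2, 2, 3, 2, 2, 2, 2, 1, 1, 1, 1] q : ℤ) * (((q : ℤ) ^ 1 - 1) * ((q : ℤ) ^ 4 - 1))) * ((polyEval [1, 1, 1, 1, 1, 2, 2, 2, 2, 3, 3, 3, 3, 3, 3, 3, 3, 3, 3, 2, 2, 2, 2, 1, 1, 1, 1, 1] q : ℤ) * (((q : ℤ) ^ 1 - 1) * ((q : ℤ) ^ 5 - 1) * ((q : ℤ) ^ 9 - 1))) * ((polyEval [1, 1, 1, 1, 1, 1, 2, 2, 2, 2, 3, 3, 4, 4, 4, 4, 5, 5, 6, 6, 6, 6, 7, 7, 7, 7, 7, 7, 8, 8, 7, 7, 7, 7, 7, 7, 6, 6, 6, 6, 5, 5, 4, 4, 4, 4, 3, 3, 2, 2, 2, 2, 1, 1, 1, 1, 1, 1] q : ℤ) * (((q : ℤ) ^ 1 - 1) * ((q : ℤ) ^ 6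 - 1) * ((q : ℤ) ^ 10 - 1))) := by ring
      _ = _ := by rw [p0, p1, p2, p3, p4, p5, p6, p7]; ring
  have keyN : polyEval [1, 1, 1, 1, 1, 1, 2, 2, 2, 2, 3, 3, 4, 4, 4, 4, 5, 5, 6, 6, 6, 6, 7, 7, 7, 7, 7, 7, 8, 8, 7, 7, 7, 7, 7, 7, 6, 6, 6, 6, 5, 5, 4, 4, 4, 4, 3, 3, 2, 2, 2, 2, 1, 1, 1, 1, 1, 1] q * polyEval [1, 1, 1, 1, 1, 2, 2, 2, 2, 3, 3, 3, 3, 3, 3, 3, 3, 3, 3, 2, 2, 2, 2, 1, 1, 1, 1, 1] q * polyEval [1, 1, 1, 1, 2, 2, 2, 2, 3, 2, 2, 2, 2, 1, 1, 1, 1] q * polyEval [1, 1, 1, 2, 2, 2, 2, 2, 1, 1, 1] q * polyEval [1, 1, 1, 1, 1] q * polyEval [1, 1, 1, 1] q * polyEval [1, 1, 1] q * polyEval [1, 1] q * (q - 1) ^ 8 = (q ^ 2 - 1) * (q ^ 8 - 1) * (q ^ 12 - 1) * (q ^ 14 - 1) * (q ^ 18 - 1) * (q ^ 20 - 1) * (q ^ 24 - 1) * (q ^ 30 - 1) := by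
    zify [Nat.one_le_pow _ q (by omega), (by omega : 1 ≤ q)]
    exact_mod_cast key
  refine Eq.trans ?_ ((congrArg (fun y : ℕ => q ^ 120 * y) keyN).trans (by ring))
  rw [← hH]
  simp only [Nat.gcd_comm (q - 1), Nat.gcd_one_left, one_pow, pow_one, pow_zero, one_mul]
  ring

end CfsgLib.Chev
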