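import Cfsg.Agent.Lib.Chev.Structure
import Cfsg.Agent.Lib.Chev.All
import Cfsg.Agent.Lib.BN.Basic
/-
A perfect Chevalley group is simple and not commutative.
-/
set_option autoImplicit false
set_option linter.unusedSectionVars false

namespace CfsgLib.Chev

open Cfsg.Lie

variable {D : ChevalleyDatum} {T : Tabs} {F : Type*} [Field F]

/-- the Dynkin diagram is connected, by a spanning tree -/
def TreeOK (D : ChevalleyDatum) (par : Fin D.rank → Fin D.rank) (root : Fin D.rank) : Prop :=
  (∀ k, par^[D.rank] k = root) ∧ ∀ k, par k ≠ k → cm D k (par k) ≠ 0 ∧ cm D (par k) k ≠ 0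

instance (par : Fin D.rank → Fin D.rank) (root : Fin D.rank) : Decidable (TreeOK D par root) :=
  inferInstanceAs (Decidable (_ ∧ _))

section
variable (hc : Checked D T)
include hc

theorem not_commutative (i : Fin D.rank) : ¬ IsMulCommutative ↥(D.group F) := by
  intro h
  have hp := simple_lt hc i.2
  have e : elN D F (D.simple i.val) (1 : F) * elX D F (D.simple i.val) 1 =
      elX D F (D.simple i.val) 1 * elN D F (D.simple i.val) 1 :=
    congrArg Subtype.val (mul_comm' (⟨_, elN_mem_group hc hp 1⟩ : ↥(D.group F)) ⟨_, elX_mem_group hc hp 1⟩)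
  have e' : elX D F (D.neg (D.simple i.val)) ((eta D T i (D.simple i.val) : F) * 1) =
      elX D F (D.simple i.val) 1 := by
    rw [← sig_simple hc i, ← nOne_conj_elX hc i hp, e, mul_inv_cancel_right]
  exact neg_ne hc hp (elX_root_unique hc (neg_lt hc hp) hp
    (by rcases eta_cast hc (F := F) i hp with e | e <;> simp [e]) e')

theorem nontrivial_group (i : Fin D.rank) : Nontrivial ↥(D.group F) := by
  by_contra h
  rw [not_nontrivial_iff_subsingleton] at h
  exact not_commutative hc (F := F) i ⟨⟨fun a b => Subsingleton.elim _ _⟩⟩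

theorem cm_eq_zero_of_commute {i j : Fin D.rank} (hij : i ≠ j)
    (h : ∀ r, r < D.nroots → sigs D T [i, j] r = sigs D T [j, i] r) : cm D j i = 0 := by
  have hp := simple_lt hc i.2
  have e := congrArg (fun v : Fin D.rank → ℤ => v j) ((congrArg (rv D T) (h _ hp)))
  simp only [rv_sigs hc _ hp, rv_simple hc] at e
  simp [refls, refl, Pi.single_apply, Ne.symm hij, mul_ite, mul_sub, Finset.sum_sub_distrib] at e
  rw [cm_self hc] at e
  omega

variable (hcomm : CommOne D T)
include hcomm

theorem isSimpleGroup_of_perfect {par : Fin D.rank → Fin D.rank} {root : Fin D.rank} (htree : TreeOK D par root)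
    (hperf : commutator ↥(D.group F) = ⊤) : IsSimpleGroup ↥(D.group F) ∧ ¬ IsMulCommutative ↥(D.group F) := by
  refine ⟨?_, not_commutative hc root⟩
  haveI := nontrivial_group hc (F := F) root
  obtain ⟨P, hB, hN, hS⟩ := exists_bnPair hc hcomm (F := F)
  refine CfsgLib.BN.isSimpleGroup P ?_ ?_ hperf (hB ▸ core_borel hc)
  · intro J hJ hJ1 hJ2
    by_contra hall
    push Not at hall
    have hS' : ∀ x, x ∈ P.S ↔ ∃ i : Fin D.rank, (x : GL D.Idx F) = elN D F (D.simple i.val) 1 := by
      intro x
      rw [hS]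
      exact ⟨fun ⟨i, hi, e⟩ => ⟨⟨i, hi⟩, Units.ext (e.trans (coe_elN hc (simple_lt hc hi) 1).symm)⟩,
        fun ⟨i, e⟩ => ⟨i.val, i.2, by rw [e, coe_elN hc (simple_lt hc i.2)]⟩⟩
    let gen : Fin D.rank → ↥(D.group F) := fun i => ⟨_, elN_mem_group hc (simple_lt hc i.2) 1⟩
    have hgen : ∀ i, gen i ∈ P.S := fun i => (hS' _).2 ⟨i, rfl⟩
    have hedge : ∀ i j, gen i ∈ J → gen j ∉ J → cm D j i = 0 := by
      intro i j hi hj
      have hij : i ≠ j := fun e => hj (e ▸ hi)
      have hb := hall _ hi _ ⟨hgen j, hj⟩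
      rw [hB, Subgroup.mem_subgroupOf] at hb
      simp only [Subgroup.coe_mul, Subgroup.coe_inv] at hb
      have hm : ∀ k : Fin D.rank, elN D F (D.simple k.val) (1 : F) ∈ D.monomialSubgroup F :=
        fun k => elN_mem_monomial hc (simple_lt hc k.2)
      have hH := borel_inf_monomial hc hb (mul_mem (mul_mem (mul_mem (hm i) (hm j)) (inv_mem (hm i))) (inv_mem (hm j)))
      refine cm_eq_zero_of_commute hc hij fun r hr => sigs_eq_of_mem hc (F := F) ?_ hr
      simp only [nProd_cons, nProd_nil, mul_one]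
      rw [mul_inv_rev, ← mul_assoc]
      exact hH
    have hcst : ∀ k, (gen k ∈ J ↔ gen (par k) ∈ J) := by
      intro k
      by_cases e : par k = k
      · rw [e]
      obtain ⟨h1, h2⟩ := htree.2 k e
      constructor
      · intro h; by_contra h'; exact h2 (hedge k (par k) h h')
      · intro h; by_contra h'; exact h1 (hedge (par k) k h h')
    have hroot : ∀ m k, (gen k ∈ J ↔ gen (par^[m] k) ∈ J) := by
      intro m
      induction m with
      | zero => exact fun k => Iff.rfl
      | succ m ih => exact fun k => (hcst k).trans ((ih (par k)).trans (by rw [Function.iterate_succ_apply]))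
    obtain ⟨a, ha⟩ := hJ1
    obtain ⟨b, hb, hb'⟩ := hJ2
    obtain ⟨i, hi⟩ := (hS' a).1 (hJ ha)
    obtain ⟨j, hj⟩ := (hS' b).1 hb
    obtain rfl : a = gen i := Subtype.ext hi
    obtain rfl : b = gen j := Subtype.ext hj
    have h1 := (hroot D.rank i).1 ha
    rw [htree.1] at h1
    exact hb' ((hroot D.rank j).2 (by rw [htree.1]; exact h1))
  · rw [hB]
    haveI := isSolvable_borel hc hcomm (F := F)
    exact Group.isSolvable_of_isSolvable_injective
      (f := (Subgroup.subgroupOfEquivOfLe (borel_le_group hc (F := F))).toMonoidHom)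
      (Subgroup.subgroupOfEquivOfLe (borel_le_group hc (F := F))).injective

end

theorem isSimple_group_of_perfect {D : ChevalleyDatum} {F : Type*} [Field F]
    (hD : D ∈ [chevG2, chevB2, chevD4, chevF4, chevE6, chevE7, chevE8]) (hperf : commutator ↥(D.group F) = ⊤) :
    IsSimpleGroup ↥(D.group F) ∧ ¬ IsMulCommutative ↥(D.group F) := by
  obtain ⟨T, hc, hcomm⟩ := exists_checked' hD
  simp only [List.mem_cons, List.not_mem_nil, or_false] at hD
  rcases hD with rfl | rfl | rfl | rfl | rfl | rfl | rfl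
  · exact isSimpleGroup_of_perfect hc hcomm (par := fun k => ⟨([0, 0] : List ℕ).getD k.val 0 % chevG2.rank, Nat.mod_lt _ (by decide)⟩)
      (root := ⟨0, by decide⟩) (by decide +kernel) hperf
  · exact isSimpleGroup_of_perfect hc hcomm (par := fun k => ⟨([0, 0] : List ℕ).getD k.val 0 % chevB2.rank, Nat.mod_lt _ (by decide)⟩)
      (root := ⟨0, by decide⟩) (by decide +kernel) hperf
  · exact isSimpleGroup_of_perfect hc hcomm (par := fun k => ⟨([0, 0, 1, 1] : List ℕ).getD k.val 0 % chevD4.rank, Nat.mod_lt _ (by decide)⟩)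
      (root := ⟨0, by decide⟩) (by decide +kernel) hperf
  · exact isSimpleGroup_of_perfect hc hcomm (par := fun k => ⟨([0, 0, 1, 2] : List ℕ).getD k.val 0 % chevF4.rank, Nat.mod_lt _ (by decide)⟩)
      (root := ⟨0, by decide⟩) (by decide +kernel) hperf
  · exact isSimpleGroup_of_perfect hc hcomm (par := fun k => ⟨([2, 3, 3, 3, 3, 4] : List ℕ).getD k.val 0 % chevE6.rank, Nat.mod_lt _ (by decide)⟩)
      (root := ⟨3, by decide⟩) (by decide +kernel) hperf
  · exact isSimpleGroup_of_perfect hc hcomm (par := fun k => ⟨([2, 3, 3, 3, 3, 4, 5] : List ℕ).getD k.val 0 % chevE7.rank, Nat.mod_lt _ (by decide)⟩)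
      (root := ⟨3, by decide⟩) (by decide +kernel) hperf
  · exact isSimpleGroup_of_perfect hc hcomm (par := fun k => ⟨([2, 3, 3, 3, 3, 4, 5, 6] : List ℕ).getD k.val 0 % chevE8.rank, Nat.mod_lt _ (by decide)⟩)
      (root := ⟨3, by decide⟩) (by decide +kernel) hperf

end CfsgLib.Chev
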