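import Cfsg.Agent.Lib.Chev.Tab
/-
The integer adjoint matrices of a checked datum are derivations of the bracket they define.
-/
set_option autoImplicit false

namespace CfsgLib.Chev

open Cfsg.Lie Matrix

variable {D : ChevalleyDatum} {T : Tabs}

/-- ad of a basis vector -/
noncomputable def adB (D : ChevalleyDatum) (T : Tabs) (x : D.Idx) : Matrix D.Idx D.Idx ℤ := tabMat D T 1 (cd D x)

/-- ad of a vector -/
noncomputable def adV (D : ChevalleyDatum) (T : Tabs) : (D.Idx → ℤ) →ₗ[ℤ] Matrix D.Idx D.Idx ℤ :=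
  Fintype.linearCombination ℤ (adB D T)

theorem adV_apply (v : D.Idx → ℤ) : adV D T v = ∑ x, v x • adB D T x := rfl

theorem adV_single (x : D.Idx) : adV D T (Pi.single x 1) = adB D T x := by
  simp [adV, Fintype.linearCombination_apply_single]

/-- `X` is a derivation of the bracket -/
def IsDer (D : ChevalleyDatum) (T : Tabs) (X : Matrix D.Idx D.Idx ℤ) : Prop :=
  ∀ v : D.Idx → ℤ, X * adV D T v - adV D T v * X = adV D T (X *ᵥ v)

theorem isDer_of_basis {X : Matrix D.Idx D.Idx ℤ}
    (h : ∀ b, X * adB D T b - adB D T b * X = ∑ x, X x b • adB D T x) : IsDer D T X := by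
  intro v
  simp only [adV_apply, Finset.mul_sum, Finset.sum_mul, Matrix.mul_smul, Matrix.smul_mul, ← Finset.sum_sub_distrib,
    ← smul_sub, h, Finset.smul_sum]
  rw [Finset.sum_comm]
  refine Finset.sum_congr rfl fun x _ => ?_
  rw [Matrix.mulVec, dotProduct, Finset.sum_smul]
  exact Finset.sum_congr rfl fun b _ => by rw [smul_smul, mul_comm]

theorem IsDer.zero : IsDer D T 0 := fun v => by simp

theorem IsDer.add {X Y : Matrix D.Idx D.Idx ℤ} (hX : IsDer D T X) (hY : IsDer D T Y) : IsDer D T (X + Y) := fun v => by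
  rw [Matrix.add_mulVec, map_add, ← hX v, ← hY v, add_mul, mul_add]; abel

theorem IsDer.smul {X : Matrix D.Idx D.Idx ℤ} (c : ℤ) (hX : IsDer D T X) : IsDer D T (c • X) := fun v => by
  rw [Matrix.smul_mulVec, map_smul, ← hX v, Matrix.smul_mul, Matrix.mul_smul, smul_sub]

theorem IsDer.of_smul {X : Matrix D.Idx D.Idx ℤ} {c : ℤ} (hc : c ≠ 0) (h : IsDer D T (c • X)) : IsDer D T X := fun v => by
  have := h v
  rw [Matrix.smul_mulVec, map_smul, Matrix.smul_mul, Matrix.mul_smul, ← smul_sub] at this
  exact smul_right_injective _ hc this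

theorem IsDer.neg {X : Matrix D.Idx D.Idx ℤ} (hX : IsDer D T X) : IsDer D T (-X) := by
  simpa using hX.smul (-1)

theorem IsDer.commutator {X Y : Matrix D.Idx D.Idx ℤ} (hX : IsDer D T X) (hY : IsDer D T Y) :
    IsDer D T (X * Y - Y * X) := fun v => by
  rw [Matrix.sub_mulVec, ← Matrix.mulVec_mulVec, ← Matrix.mulVec_mulVec, map_sub, ← hX (Y *ᵥ v), ← hY (X *ᵥ v), ← hY v, ← hX v]
  noncomm_ring

/-- weighted sum of the basis columns of a row -/
theorem sum_tabMat_col (hc : Checked D T) {a : ℕ} (ha : a < D.nroots + D.rank) (b row col : D.Idx) :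
    (∑ x, tabMat D T 1 a x b • adB D T x) row col =
      coeffAt (sumRows D T (rowsOf T.t1 (decCode D T (field (T.t1.get a) (cd D b)))) (cd D col)) (cd D row) := by
  rw [coeffAt_sumRows, ← sum_mul_coeffAt (good_field1 hc ha (cd_lt b)), Matrix.sum_apply]
  exact Finset.sum_congr rfl fun x _ => by
    rw [Matrix.smul_apply, smul_eq_mul, mul_comm, adB, tabMat_apply, tabMat_apply, tabK_one]

theorem isDer_of_check (hc : Checked D T) {p : ℕ} (hp : p < D.nroots + D.rank) (h : derivCheck D T p = true) :
    IsDer D T (tabMat D T 1 p) := by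
  apply isDer_of_basis
  intro b
  ext row col
  have hb := allNat_iff.1 h (cd D b) (cd_lt b)
  have hcb := allNat_iff.1 hb (cd D col) (cd_lt col)
  rw [Matrix.sub_apply, adB, sum_tabMat_col hc hp,
    tabMat_mul_apply 1 p _ _ (good_field1 hc (cd_lt b) (cd_lt col)) col (fun x => rfl),
    tabMat_mul_apply 1 (cd D b) _ _ (good_field1 hc hp (cd_lt col)) col (fun x => rfl), tabK_one]
  rw [cond_beq] at hcb
  split at hcb
  · rename_i h0
    change field (T.t1.get p ||| T.t1.get (cd D b) ||| orRows _) _ = 0 at h0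
    rw [field_lor, field_lor, Nat.or_eq_zero_iff, Nat.or_eq_zero_iff] at h0
    obtain ⟨⟨h1, h2⟩, h3⟩ := h0
    rw [h1, h2, decCode_zero]
    have h4 : ∀ (R : List (ℕ × ℤ)) (c j : ℕ), (∀ p ∈ R, field p.1 c = 0) → coeffAt (sumRows D T R c) j = 0 := by
      intro R c j hR
      induction R with
      | nil => rfl
      | cons q l ih =>
          rw [List.forall_mem_cons] at hR
          show coeffAt (cat (scaleVec q.2 (decCode D T (field q.1 c))) (sumRows D T l c)) j = 0
          simp [hR.1, ih hR.2]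
    rw [h4 _ _ _ (field_orRows h3)]
    simp [applyRow]
  · have := coeffAt_of_isZeroVec hcb (cd D row)
    simp only [coeffAt_cat, coeffAt_scaleVec] at this
    omega

/-- negation of roots, fixing the fundamental coroots -/
def flipIdx (D : ChevalleyDatum) : D.Idx ≃ D.Idx := Equiv.sumCongr (Equiv.refl _) Fin.revPerm

theorem cd_flipIdx (x : D.Idx) : cd D (flipIdx D x) = negN D (cd D x) := by
  rw [negN, cond_blt]
  rcases x with i | u
  · simp [flipIdx]
  · rw [if_pos (by simp)]; simp [flipIdx, Fin.val_rev]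

theorem flipIdx_flipIdx (x : D.Idx) : flipIdx D (flipIdx D x) = x := by
  rcases x with i | u <;> simp [flipIdx]

theorem negN_lt {a : ℕ} (ha : a < D.nroots + D.rank) : negN D a < D.nroots + D.rank := by
  show cond (Nat.blt a D.nroots) (D.nroots - (a + 1)) a < _
  rw [cond_blt]; split <;> omega

section
variable (hc : Checked D T)
include hc

theorem negN_eq {a : ℕ} (ha : a < D.nroots) : negN D a = D.neg a := by
  rw [negN, cond_blt, if_pos ha, neg_eq hc ha]; rfl

theorem root_spec {a : ℕ} (ha : a < D.nroots) :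
    (a + 1 < D.nroots → keyZ D T a < keyZ D T (a + 1)) ∧ (a < D.nroots / 2 → keyZ D T a < 0) ∧
    (D.nroots / 2 ≤ a → 0 < keyZ D T a) ∧ (∃ i < D.rank, cv T a i ≠ 0) ∧
    ∀ i < D.rank, (a < D.nroots / 2 → cv T a i ≤ 0 ∧ wt D T a i ≤ 0) ∧
      (D.nroots / 2 ≤ a → 0 ≤ cv T a i ∧ 0 ≤ wt D T a i) ∧
      wt D T (D.neg a) i = -wt D T a i ∧ cv T (D.neg a) i = -cv T a i ∧ (cv T a i = 0 ↔ wt D T a i = 0) := by
  have h := allNat_iff.1 hc.root a ha
  simp only [cond_false_iff, cond_blt, allNat_iff, anyNat_iff, decide_eq_true_iff, decide_eq_decide, Nat.add_eq,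
    Nat.sub_eq, show ∀ a b, Nat.div a b = a / b from fun _ _ => rfl] at h
  obtain ⟨h1, h2, h3, h4⟩ := h
  refine ⟨fun hh => ?_, fun hh => ?_, fun hh => ?_, h3, fun i hi => ?_⟩
  · simpa [hh] using h1
  · simpa [hh] using h2
  · simpa [show ¬ a < D.nroots / 2 by omega] using h2
  · obtain ⟨g1, g2, g3, g4⟩ := h4 i hi
    rw [neg_eq hc ha]
    refine ⟨fun hh => ?_, fun hh => ?_, g2, g3, g4⟩
    · simpa [hh, cond_false_iff] using g1
    · simpa [show ¬ a < D.nroots / 2 by omega, cond_false_iff] using g1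

theorem cv_neg {a i : ℕ} (ha : a < D.nroots) (hi : i < D.rank) : cv T (D.neg a) i = -cv T a i :=
  ((root_spec hc ha).2.2.2.2 i hi).2.2.2.1

theorem adB_flip (b x y : D.Idx) :
    adB D T (flipIdx D b) (flipIdx D x) (flipIdx D y) = -adB D T b x y := by
  simp only [adB, tabMat_apply, tabK_one, cd_flipIdx]
  have ha := cd_lt b
  have hcd := cd_lt y
  have hchk := allNat_iff.1 (allNat_iff.1 hc.theta (cd D b) ha) (cd D y) hcd
  rw [cond_beq] at hchk
  split at hchk
  · rename_i h0
    rw [nat_beq_iff] at hchk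
    rw [h0, hchk]; simp
  · rename_i h0
    rw [nat_beq_iff] at hchk
    rcases field1_cases hc ha hcd with h | ⟨u, hu, v, hv0, hv1, hv2, h⟩ | ⟨ha', -, h⟩
    · exact absurd h h0
    · have hflip : flipCode D (field (T.t1.get (cd D b)) (cd D y)) = encNZ (D.nroots - (u + 1)) (-v) := by
        obtain ⟨e1, e2, e3, e4⟩ := encNZ_parts (u := u) hv1 hv2
        rw [h]
        show cond (Nat.beq (encNZ u v) 0) 0 (cond (Nat.beq (encNZ u v % 16) 0) _
          ((D.nroots - (encNZ u v / 16 + 1)) * 16 + (16 - encNZ u v % 16))) = _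
        rw [cond_beq, if_neg e1, cond_beq, if_neg e2, e3]
        have hv : encNZ (D.nroots - (u + 1)) (-v) = (D.nroots - (u + 1)) * 16 + (-v + 8).toNat := rfl
        rw [Int.subNatNat_eq_coe] at e4
        omega
      rw [hchk, hflip, decCode_encNZ (by omega) (by omega), h, decCode_encNZ hv1 hv2, coeffAt_cons, coeffAt_cons]
      have key : D.nroots - (u + 1) = negN D (cd D x) ↔ u = cd D x := by
        rw [negN, cond_blt]; simp only [Nat.add_eq, Nat.sub_eq]
        split <;> omega
      by_cases hx : u = cd D x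
      · rw [if_pos (key.2 hx), if_pos hx]; simp
      · rw [if_neg (fun hh => hx (key.1 hh)), if_neg hx]; simp
    · have hflip : flipCode D (field (T.t1.get (cd D b)) (cd D y)) = (D.neg (cd D b) + 1) * 16 := by
        rw [h]
        show cond (Nat.beq ((cd D b + 1) * 16) 0) 0 (cond (Nat.beq ((cd D b + 1) * 16 % 16) 0)
          ((D.nroots + 1 - (cd D b + 1) * 16 / 16) * 16) _) = _
        rw [cond_beq, if_neg (by omega), cond_beq, if_pos (by omega), neg_eq hc ha']
        omega
      rw [hchk, hflip, h, decCode_marker, decCode_marker, coeffAt_corVec, coeffAt_corVec]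
      rcases x with i | u
      · rw [show negN D (cd D (Sum.inl i : D.Idx)) = D.nroots + i by rw [negN, cond_blt, if_neg (by simp)]; rfl]
        simp [cv_neg hc ha' i.2]
      · have h1 : negN D (cd D (Sum.inr u : D.Idx)) < D.nroots := by
          rw [negN, cond_blt, if_pos (by simp)]; simp only [Nat.add_eq, Nat.sub_eq, cd_inr]; omega
        rw [if_neg (by omega), if_neg (by simp)]; simp

theorem isDer_flip {b : D.Idx} (h : IsDer D T (adB D T b)) : IsDer D T (adB D T (flipIdx D b)) := by
  have key : adB D T (flipIdx D b) = -(adB D T b).submatrix (flipIdx D) (flipIdx D) := by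
    ext x y
    rw [Matrix.neg_apply, Matrix.submatrix_apply, ← adB_flip hc, flipIdx_flipIdx, flipIdx_flipIdx]
  have kk : ∀ c, (adB D T c).submatrix (flipIdx D) (flipIdx D) = -adB D T (flipIdx D c) := by
    intro c; ext x y
    rw [Matrix.neg_apply, Matrix.submatrix_apply, ← adB_flip hc, flipIdx_flipIdx]
  rw [key]
  apply IsDer.neg
  apply isDer_of_basis
  intro c
  have hd := h (Pi.single (flipIdx D c) 1)
  rw [adV_single, adV_apply] at hd
  have hd2 := congrArg (fun M : Matrix D.Idx D.Idx ℤ => M.submatrix (flipIdx D) (flipIdx D)) hd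
  have hmul : ∀ A B : Matrix D.Idx D.Idx ℤ,
      (A * B).submatrix (flipIdx D) (flipIdx D) =
        A.submatrix (flipIdx D) (flipIdx D) * B.submatrix (flipIdx D) (flipIdx D) :=
    fun A B => (Matrix.submatrix_mul_equiv A B _ (flipIdx D) _).symm
  simp only [Matrix.submatrix_sub, Pi.sub_apply, hmul] at hd2
  rw [kk (flipIdx D c), flipIdx_flipIdx, mul_neg, neg_mul, sub_neg_eq_add, neg_add_eq_sub] at hd2
  calc _ = -((adB D T c) * (adB D T b).submatrix (flipIdx D) (flipIdx D) -
          (adB D T b).submatrix (flipIdx D) (flipIdx D) * adB D T c) := (neg_sub _ _).symm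
    _ = -((∑ x, (adB D T b *ᵥ Pi.single (flipIdx D c) 1) x • adB D T x).submatrix (flipIdx D) (flipIdx D)) := by rw [hd2]
    _ = _ := by
      ext r q
      simp only [Matrix.neg_apply, Matrix.submatrix_apply, Matrix.sum_apply, Matrix.smul_apply, Matrix.mulVec_single_one,
        Matrix.col_apply, ← Finset.sum_neg_distrib, smul_eq_mul]
      rw [← Equiv.sum_comp (flipIdx D)]
      refine Finset.sum_congr rfl fun x _ => ?_
      rw [adB_flip hc, mul_neg, neg_neg]

theorem simple_cases {i : ℕ} (hi : i < D.rank) :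
    field (T.t1.get (D.simple i)) (D.neg (D.simple i)) = (D.simple i + 1) * 16 := by
  rw [field_t1 hc (simple_lt hc hi) (neg_lt hc (simple_lt hc hi)), if_pos rfl]

theorem gen_spec {a : ℕ} (ha : a < D.nroots) (hp : D.nroots / 2 ≤ a) (hns : ∀ i < D.rank, a ≠ D.simple i) :
    (∃ i < D.rank, sig D T i a < a ∧ D.nroots / 2 ≤ sig D T i a) ∧
    ∃ i < D.rank, ∃ u, u < a ∧ D.nroots / 2 ≤ u ∧ codeIdx (field (T.t1.get (D.simple i)) u) = a ∧
      codeVal (field (T.t1.get (D.simple i)) u) ≠ 0 := by
  have h := allNat_iff.1 hc.gen a ha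
  simp only [cond_blt, cond_beq, cond_true_iff, cond_false_iff, anyNat_iff, nat_beq_iff, nat_ble_iff, show ∀ a b, Nat.div a b = a / b from fun _ _ => rfl,
    decide_eq_true_iff, ite_eq_iff, Bool.false_eq_true, and_false, or_false, false_or] at h
  rcases h with h | ⟨-, h | h⟩
  · exact absurd h.1 (by omega)
  · obtain ⟨i, hi, h⟩ := h; exact absurd h (hns i hi)
  · obtain ⟨⟨i, hi, h1, h2⟩, ⟨j, hj, g1, g2, g3, g4⟩⟩ := h
    exact ⟨⟨i, hi, h1, h2⟩, j, hj, _, g1, g2, g3, g4⟩

theorem isDer_adB (x : D.Idx) : IsDer D T (adB D T x) := by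
  have hsimple : ∀ i < D.rank, ∀ y : D.Idx, cd D y = D.simple i → IsDer D T (adB D T y) := by
    intro i hi y hy
    rw [adB, hy]
    exact isDer_of_check hc (by have := simple_lt hc hi; omega) (hc.deriv i hi)
  have hbr : ∀ y z : D.Idx, IsDer D T (adB D T y) → IsDer D T (adB D T z) →
      IsDer D T (adV D T (adB D T y *ᵥ Pi.single z 1)) := by
    intro y z hy hz
    rw [← hy (Pi.single z 1), adV_single]
    exact hy.commutator hz
  have hpos : ∀ a, ∀ y : D.Idx, cd D y = a → a < D.nroots → D.nroots / 2 ≤ a → IsDer D T (adB D T y) := by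
    intro a
    induction a using Nat.strong_induction_on with
    | _ a ih =>
      intro y hy ha hp
      by_cases hs : ∃ i < D.rank, a = D.simple i
      · obtain ⟨i, hi, rfl⟩ := hs; exact hsimple i hi y hy
      · push Not at hs
        obtain ⟨-, i, hi, u, hu, hu', hidx, hval⟩ := gen_spec hc ha hp hs
        obtain ⟨z, hz⟩ := exists_cd (show u < D.nroots + D.rank by omega)
        obtain ⟨w, hw⟩ := exists_cd (show D.simple i < D.nroots + D.rank by have := simple_lt hc hi; omega)
        have hd := hbr w z (hsimple i hi w hw) (ih u hu z hz (by omega) hu')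
        rcases field1_cases hc (show D.simple i < D.nroots + D.rank by have := simple_lt hc hi; omega)
            (show u < D.nroots + D.rank by omega) with h | ⟨v', -, v, hv0, hv1, hv2, h⟩ | ⟨-, hneg, h⟩
        · rw [h] at hval; exact absurd rfl hval
        · rw [h, codeIdx_encNZ hv1 hv2] at hidx
          subst hidx
          have hvec : adB D T w *ᵥ Pi.single z 1 = v • Pi.single y 1 := by
            ext q
            rw [Matrix.mulVec_single_one, Matrix.col_apply, adB, tabMat_apply, tabK_one, hw, hz, h,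
              decCode_encNZ hv1 hv2, coeffAt_cons, coeffAt_nil, add_zero, Pi.smul_apply, Pi.single_apply]
            by_cases hq : q = y
            · rw [if_pos hq, hq, hy, if_pos rfl]; simp
            · rw [if_neg hq, if_neg (fun hh => hq (cd_injective (hh.symm.trans hy.symm)))]; simp
          rw [hvec, map_smul, adV_single] at hd
          exact hd.of_smul hv0
        · have := neg_eq hc (simple_lt hc hi); have := half_le_simple hc hi; have := nroots_eq_two_mul hc; omega
  have hroot : ∀ u : Fin D.nroots, IsDer D T (adB D T (Sum.inr u)) := by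
    intro u
    by_cases hp : D.nroots / 2 ≤ u.val
    · exact hpos u.val _ rfl u.2 hp
    · have hd := hpos (Fin.rev u).val (Sum.inr (Fin.rev u)) rfl (Fin.rev u).2 (by rw [Fin.val_rev]; omega)
      have := isDer_flip hc hd
      rwa [show flipIdx D (Sum.inr (Fin.rev u)) = Sum.inr u by simp [flipIdx]] at this
  rcases x with i | u
  · have hp := simple_lt hc i.2
    have hd := hbr (Sum.inr ⟨D.simple i, hp⟩) (Sum.inr ⟨D.neg (D.simple i), neg_lt hc hp⟩) (hroot _) (hroot _)
    have hvec : adB D T (Sum.inr ⟨D.simple i, hp⟩) *ᵥ Pi.single (Sum.inr ⟨D.neg (D.simple i), neg_lt hc hp⟩) 1 =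
        Pi.single (Sum.inl i) 1 := by
      ext q
      rw [Matrix.mulVec_single_one, Matrix.col_apply, adB, tabMat_apply, tabK_one, cd_inr, cd_inr, simple_cases hc i.2,
        decCode_marker, coeffAt_corVec]
      rcases q with j | u
      · rw [cd_inl, if_pos (by omega), Nat.add_sub_cancel_left, cv_simple hc i.2 j.2, Pi.single_apply]
        exact if_congr ⟨fun h => by rw [Fin.ext h], fun h => by rw [Sum.inl.inj h]⟩ rfl rfl
      · rw [cd_inr, if_neg (by omega)]; simp
    rwa [hvec, adV_single] at hd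
  · exact hroot u

theorem isDer_adV (v : D.Idx → ℤ) : IsDer D T (adV D T v) := by
  intro w
  simp only [adV_apply v, Finset.sum_mul, Finset.mul_sum, Matrix.sum_mulVec, map_sum, ← Finset.sum_sub_distrib]
  exact Finset.sum_congr rfl fun x _ => ((isDer_adB hc x).smul (v x)) w

end

end CfsgLib.Chev
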