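import Cfsg.Agent.Lib.Chev.Weight
/-
x_r(±1) are automorphisms of the integral bracket; the matrices n_p(1) are monomial and permute the root elements.
-/
set_option autoImplicit false
set_option linter.unusedSimpArgs false

namespace CfsgLib.Chev

open Cfsg.Lie Matrix

variable {D : ChevalleyDatum} {T : Tabs}

/-- `g` respects the bracket -/
def IsAut (D : ChevalleyDatum) (T : Tabs) (g : Matrix D.Idx D.Idx ℤ) : Prop :=
  ∀ v : D.Idx → ℤ, g * adV D T v = adV D T (g *ᵥ v) * g

theorem IsAut.mul {g h : Matrix D.Idx D.Idx ℤ} (hg : IsAut D T g) (hh : IsAut D T h) : IsAut D T (g * h) := fun v => by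
  rw [Matrix.mul_assoc, hh v, ← Matrix.mul_assoc, hg, Matrix.mul_assoc, Matrix.mulVec_mulVec]

/-- the dense vector of a sparse one -/
noncomputable def vecOf (D : ChevalleyDatum) (L : List (ℕ × ℤ)) : D.Idx → ℤ := fun x => coeffAt L (cd D x)

theorem vecOf_single (x : D.Idx) : vecOf D [(cd D x, 1)] = Pi.single x 1 := by
  funext y
  rw [vecOf, coeffAt_cons, coeffAt_nil, add_zero, Pi.single_apply]
  by_cases h : y = x
  · rw [if_pos (by rw [h]), if_pos h]
  · rw [if_neg (fun hh => h (cd_injective hh.symm)), if_neg h]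

theorem good_cat {L M : List (ℕ × ℤ)} (hL : Good D L) (hM : Good D M) : Good D (cat L M) := fun p hp => by
  rcases mem_cat.1 hp with h | h
  · exact hL p h
  · exact hM p h

theorem good_scaleVec {L : List (ℕ × ℤ)} (x : ℤ) (hL : Good D L) : Good D (scaleVec x L) := by
  induction L with
  | nil => exact hL
  | cons p l ih =>
      intro q hq
      change q ∈ (p.1, x * p.2) :: scaleVec x l at hq
      rcases List.mem_cons.1 hq with rfl | hq
      · exact hL p List.mem_cons_self
      · exact ih (fun r hr => hL r (List.mem_cons_of_mem _ hr)) q hq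

/-- xApply with an arbitrary integer parameter -/
noncomputable def xApplyC (D : ChevalleyDatum) (T : Tabs) (p : ℕ) (c : ℤ) (L : List (ℕ × ℤ)) : List (ℕ × ℤ) :=
  cat L (cat (scaleVec c (applyRow D T (T.t1.get p) L))
    (cat (scaleVec (Int.mul c c) (applyRow D T (T.t2.get p) L))
      (scaleVec (Int.mul c (Int.mul c c)) (applyRow D T (T.t3.get p) L))))

section
variable (hc : Checked D T)
include hc

theorem good_applyRow {k a : ℕ} (hk : k = 1 ∨ k = 2 ∨ k = 3) (ha : a < D.nroots) {L : List (ℕ × ℤ)} (hL : Good D L) :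
    Good D (applyRow D T ((tabK T k).get a) L) := by
  induction L with
  | nil => exact hL
  | cons p l ih =>
      exact good_cat (good_scaleVec _ (good_field hc hk ha (hL p List.mem_cons_self)))
        (ih fun r hr => hL r (List.mem_cons_of_mem _ hr))

omit hc in
theorem coeffAt_applyRow_vec {k a : ℕ} {L : List (ℕ × ℤ)} (hL : Good D L) (x : D.Idx) :
    coeffAt (applyRow D T ((tabK T k).get a) L) (cd D x) = (tabMat D T k a *ᵥ vecOf D L) x := by
  rw [coeffAt_applyRow, ← sum_mul_coeffAt hL]; rfl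

theorem good_xApply {p : ℕ} (hp : p < D.nroots) (e : ℤ) {L : List (ℕ × ℤ)} (hL : Good D L) :
    Good D (xApply D T p e L) :=
  good_cat hL (good_cat (good_scaleVec _ (good_applyRow hc (Or.inl rfl) hp hL))
    (good_cat (good_applyRow hc (k := 2) (Or.inr (Or.inl rfl)) hp hL)
      (good_scaleVec _ (good_applyRow hc (k := 3) (Or.inr (Or.inr rfl)) hp hL))))

theorem good_xApplyC {p : ℕ} (hp : p < D.nroots) (c : ℤ) {L : List (ℕ × ℤ)} (hL : Good D L) :
    Good D (xApplyC D T p c L) :=
  good_cat hL (good_cat (good_scaleVec _ (good_applyRow hc (Or.inl rfl) hp hL))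
    (good_cat (good_scaleVec _ (good_applyRow hc (k := 2) (Or.inr (Or.inl rfl)) hp hL))
      (good_scaleVec _ (good_applyRow hc (k := 3) (Or.inr (Or.inr rfl)) hp hL))))

omit hc in
theorem vecOf_xApplyC {p : ℕ} (c : ℤ) {L : List (ℕ × ℤ)} (hL : Good D L) :
    vecOf D (xApplyC D T p c L) = xTab D T ℤ p c *ᵥ vecOf D L := by
  have h1 := coeffAt_applyRow_vec (T := T) (k := 1) (a := p) hL
  have h2 := coeffAt_applyRow_vec (T := T) (k := 2) (a := p) hL
  have h3 := coeffAt_applyRow_vec (T := T) (k := 3) (a := p) hL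
  simp only [tabK_one, tabK_two, tabK_three] at h1 h2 h3
  funext x
  show coeffAt (xApplyC D T p c L) (cd D x) = _
  simp only [xApplyC, coeffAt_cat, coeffAt_scaleVec, h1, h2, h3, xTab, eq_intCast, Matrix.add_mulVec,
    Matrix.smul_mulVec, Matrix.one_mulVec, Pi.add_apply, Pi.smul_apply, smul_eq_mul]
  have hmap : ∀ k, (tabMat D T k p).map (Int.castRingHom ℤ) = tabMat D T k p := fun k => by ext i j; simp
  simp only [hmap, show Int.mul c c = c * c from rfl, show Int.mul c (c * c) = c * (c * c) from rfl, vecOf]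
  ring

omit hc in
theorem vecOf_xApply {p : ℕ} {e : ℤ} (he : e * e = 1) {L : List (ℕ × ℤ)} (hL : Good D L) :
    vecOf D (xApply D T p e L) = xTab D T ℤ p e *ᵥ vecOf D L := by
  rw [← vecOf_xApplyC e hL]
  funext x
  show coeffAt (xApply D T p e L) (cd D x) = coeffAt (xApplyC D T p e L) (cd D x)
  simp only [xApply, xApplyC, coeffAt_cat, coeffAt_scaleVec, show Int.mul e e = e * e from rfl, he, one_mul,
    show Int.mul e 1 = e * 1 from rfl, mul_one]

omit hc in
theorem map_id_int (M : Matrix D.Idx D.Idx ℤ) : M.map (Int.castRingHom ℤ) = M := by ext i j; simp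

/-- the divided powers intertwine adjoint maps like the exponential -/
theorem xTab_aut {r : ℕ} (hr : r < D.nroots) {e : ℤ} (he : e * e = 1) : IsAut D T (xTab D T ℤ r e) := by
  intro v
  obtain ⟨h1, h2, h3, h4⟩ := pow_spec hc hr
  obtain ⟨g1, g2, g3, g4, g5⟩ := pow_zero_spec hc hr
  have hder : IsDer D T (tabMat D T 1 r) := by
    have := isDer_adB hc (Sum.inr ⟨r, hr⟩)
    exact this
  set A1 := tabMat D T 1 r
  set A2 := tabMat D T 2 r
  set A3 := tabMat D T 3 r
  set M := adV D T v with hM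
  have hA2 : (2 : ℤ) • adV D T (A2 *ᵥ v) = A1 * (A1 * M - M * A1) - (A1 * M - M * A1) * A1 := by
    rw [hder v, hder, Matrix.mulVec_mulVec, h1, Matrix.smul_mulVec, map_smul]
  have hA3 : (6 : ℤ) • adV D T (A3 *ᵥ v) = A1 * (A1 * (A1 * M - M * A1) - (A1 * M - M * A1) * A1) -
      (A1 * (A1 * M - M * A1) - (A1 * M - M * A1) * A1) * A1 := by
    rw [hder v, hder, hder, Matrix.mulVec_mulVec, h1, Matrix.mulVec_mulVec, Matrix.smul_mul, h3, smul_smul,
      Matrix.smul_mulVec, map_smul]
    norm_num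
  have hA4 : A1 * (A1 * (A1 * (A1 * M - M * A1) - (A1 * M - M * A1) * A1) -
      (A1 * (A1 * M - M * A1) - (A1 * M - M * A1) * A1) * A1) -
      (A1 * (A1 * (A1 * M - M * A1) - (A1 * M - M * A1) * A1) -
      (A1 * (A1 * M - M * A1) - (A1 * M - M * A1) * A1) * A1) * A1 = 0 := by
    rw [← hA3, Matrix.mul_smul, Matrix.smul_mul, ← smul_sub, hder, Matrix.mulVec_mulVec, h4, Matrix.zero_mulVec,
      map_zero, smul_zero]
  apply smul_right_injective (Matrix D.Idx D.Idx ℤ) (show (6 : ℤ) ≠ 0 by norm_num)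
  show (6 : ℤ) • (xTab D T ℤ r e * M) = (6 : ℤ) • (adV D T (xTab D T ℤ r e *ᵥ v) * xTab D T ℤ r e)
  simp only [xTab, map_id_int, Matrix.add_mulVec, Matrix.one_mulVec, Matrix.smul_mulVec, map_add, map_smul]
  rw [show e ^ 2 = 1 by rw [pow_two, he], show e ^ 3 = e by rw [pow_succ, pow_two, he, one_mul], one_smul, one_smul,
    ← hder v, ← hM]
  have key : (6 : ℤ) • ((M + e • (A1 * M - M * A1) + adV D T (A2 *ᵥ v) + e • adV D T (A3 *ᵥ v)) * (1 + e • A1 + A2 + e • A3))
      = ((6 : ℤ) • M + (6 * e) • (A1 * M - M * A1) + (3 : ℤ) • ((2 : ℤ) • adV D T (A2 *ᵥ v)) +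
          e • ((6 : ℤ) • adV D T (A3 *ᵥ v))) * (1 + e • A1 + A2 + e • A3) := by
    simp only [Matrix.add_mul, smul_add, Matrix.smul_mul, smul_smul]; module
  rw [key, hA2, hA3]
  -- normal forms
  have m11 : ∀ X : Matrix D.Idx D.Idx ℤ, A1 * (A1 * X) = (2 : ℤ) • (A2 * X) := fun X => by
    rw [← Matrix.mul_assoc, h1, Matrix.smul_mul]
  have m12 : ∀ X : Matrix D.Idx D.Idx ℤ, A1 * (A2 * X) = (3 : ℤ) • (A3 * X) := fun X => by
    rw [← Matrix.mul_assoc, h2, Matrix.smul_mul]
  have m21 : ∀ X : Matrix D.Idx D.Idx ℤ, A2 * (A1 * X) = (3 : ℤ) • (A3 * X) := fun X => by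
    rw [← Matrix.mul_assoc, h3, Matrix.smul_mul]
  have m13 : ∀ X : Matrix D.Idx D.Idx ℤ, A1 * (A3 * X) = 0 := fun X => by rw [← Matrix.mul_assoc, h4, Matrix.zero_mul]
  have m31 : ∀ X : Matrix D.Idx D.Idx ℤ, A3 * (A1 * X) = 0 := fun X => by rw [← Matrix.mul_assoc, g1, Matrix.zero_mul]
  simp only [Matrix.mul_sub, Matrix.sub_mul, Matrix.mul_assoc, Matrix.mul_smul, Matrix.smul_mul, smul_smul, h1, h2, h3,
    h4, g1, g2, g3, g4, g5, m11, m12, m21, m13, m31, smul_sub, smul_zero, Matrix.mul_zero, sub_zero, zero_sub,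
    mul_zero] at hA4 ⊢
  simp only [Matrix.mul_add, Matrix.add_mul, Matrix.mul_sub, Matrix.sub_mul, Matrix.mul_one, Matrix.one_mul,
    Matrix.mul_assoc, Matrix.mul_smul, Matrix.smul_mul, smul_smul, h1, h2, h3,
    h4, g1, g2, g3, g4, g5, m11, m12, m21, m13, m31, smul_add, smul_sub, smul_zero, Matrix.mul_zero, sub_zero, zero_sub,
    add_zero, zero_add, mul_zero]
  have hA4l := congrArg (A1 * ·) hA4
  have hA4r := congrArg (· * A1) hA4
  simp only [Matrix.mul_sub, Matrix.mul_add, Matrix.mul_neg, Matrix.mul_smul, Matrix.mul_zero, Matrix.mul_assoc,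
    smul_smul, h1, h2, h3, h4, m11, m12, m21, m13, m31, smul_zero, sub_zero, zero_sub, add_zero, zero_add] at hA4l
  simp only [Matrix.sub_mul, Matrix.add_mul, Matrix.neg_mul, Matrix.smul_mul, Matrix.zero_mul, Matrix.mul_assoc,
    Matrix.mul_smul, smul_smul, h1, h3, h4, g1, smul_zero, sub_zero, zero_sub, add_zero, zero_add,
    Matrix.mul_zero] at hA4r
  have hlin : ∀ (a b : ℤ) (X L R : Matrix D.Idx D.Idx ℤ), L = 0 → R = 0 → (120 : ℤ) • X = a • L + b • R → X = 0 := by
    intro a b X L R hL hR h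
    rw [hL, hR, smul_zero, smul_zero, add_zero] at h
    exact (smul_eq_zero.1 h).resolve_left (by norm_num)
  have hA5 : A3 * (M * A2) = 0 := hlin 3 2 _ _ _ hA4l hA4r (by module)
  have hA5' : A2 * (M * A3) = 0 := hlin 2 3 _ _ _ hA4l hA4r (by module)
  have hA6 : A3 * (M * A3) = 0 := by
    have h := congrArg (· * A1) hA5
    simp only [Matrix.zero_mul, Matrix.mul_assoc, h3, Matrix.mul_smul] at h
    exact smul_right_injective _ (show (3 : ℤ) ≠ 0 by norm_num) (by simpa using h)
  simp only [hA5, hA5', hA6, smul_zero, add_zero, zero_add, sub_zero, zero_sub]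
  have hA4' : A2 * (M * A2) = A3 * (M * A1) + A1 * (M * A3) := by
    refine smul_right_injective _ (show (24 : ℤ) ≠ 0 by norm_num) ?_
    rw [← sub_eq_zero, ← hA4]; module
  rw [hA4']
  rcases Int.eq_one_or_neg_one_of_mul_eq_one he with h | h <;> subst h <;> module

/-- n_p(1) over the integers -/
noncomputable def nZ (D : ChevalleyDatum) (T : Tabs) (p : ℕ) : Matrix D.Idx D.Idx ℤ :=
  xTab D T ℤ p 1 * xTab D T ℤ (D.neg p) (-1) * xTab D T ℤ p 1

theorem nZ_col {p : ℕ} (hp : p < D.nroots) (x : D.Idx) :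
    nZ D T p *ᵥ Pi.single x 1 = vecOf D (nApply D T p (cd D x)) := by
  have g0 : Good D [(cd D x, (1 : ℤ))] := by
    intro q hq; simp at hq; subst hq; exact cd_lt x
  rw [nApply, negN_eq hc hp,
    vecOf_xApply (by norm_num) (good_xApply hc (neg_lt hc hp) _ (good_xApply hc hp _ g0)),
    vecOf_xApply (by norm_num) (good_xApply hc hp _ g0), vecOf_xApply (by norm_num) g0, vecOf_single, nZ,
    Matrix.mulVec_mulVec, Matrix.mulVec_mulVec]

theorem nZ_aut {p : ℕ} (hp : p < D.nroots) : IsAut D T (nZ D T p) :=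
  ((xTab_aut hc hp (by norm_num)).mul (xTab_aut hc (neg_lt hc hp) (by norm_num))).mul (xTab_aut hc hp (by norm_num))

/-- the basis vector of a root -/
noncomputable def eVec (D : ChevalleyDatum) (s : ℕ) : D.Idx → ℤ := fun x => if cd D x = s then 1 else 0

omit hc in
theorem eVec_eq (u : Fin D.nroots) : eVec D u.val = Pi.single (Sum.inr u) 1 := by
  funext x
  rw [eVec, Pi.single_apply]
  exact if_congr ⟨fun h => cd_injective h, fun h => by rw [h]; rfl⟩ rfl rfl

omit hc in
theorem adV_eVec {s : ℕ} (hs : s < D.nroots) : adV D T (eVec D s) = tabMat D T 1 s := by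
  rw [show s = ((⟨s, hs⟩ : Fin D.nroots) : ℕ) from rfl, eVec_eq, adV_single]; rfl

theorem eta_spec (i : Fin D.rank) {s : ℕ} (hs : s < D.nroots) :
    (eta D T i s = 1 ∨ eta D T i s = -1) ∧
      nZ D T (D.simple i) *ᵥ eVec D s = eta D T i s • eVec D (sig D T i s) := by
  have h := hc.monomial
  rw [nCheck, allNat_iff] at h
  have h := h i i.2
  rw [cond_false_iff, allNat_iff] at h
  have h := h.1 s hs
  rw [cond_false_iff, cond_true_iff, decide_eq_true_iff, decide_eq_true_iff] at h
  refine ⟨h.2, ?_⟩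
  rw [show s = cd D (Sum.inr ⟨s, hs⟩ : D.Idx) from rfl, show eVec D (cd D (Sum.inr ⟨s, hs⟩ : D.Idx)) = _ from eVec_eq _,
    nZ_col hc (simple_lt hc i.2)]
  funext x
  have := coeffAt_of_isZeroVec h.1 (cd D x)
  simp only [coeffAt_cat, coeffAt_cons, coeffAt_nil, add_zero, show ∀ a : ℤ, Int.neg a = -a from fun _ => rfl] at this
  simp only [vecOf, Pi.smul_apply, eVec, smul_eq_mul, cd_inr, mul_ite, mul_one, mul_zero] at this ⊢
  change _ = if cd D x = sig D T i s then eta D T i s else 0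
  rw [eta]
  by_cases hx : sig D T i s = cd D x
  · rw [if_pos hx] at this; rw [if_pos hx.symm]; omega
  · rw [if_neg hx] at this; rw [if_neg (Ne.symm hx)]; omega

theorem nZ_coroot_col (i j : Fin D.rank) :
    nZ D T (D.simple i) *ᵥ Pi.single (Sum.inl j) 1 =
      Pi.single (Sum.inl j) 1 - cm D j i • Pi.single (Sum.inl i) 1 := by
  have h := hc.monomial
  rw [nCheck, allNat_iff] at h
  have h := h i i.2
  rw [cond_false_iff, allNat_iff, allNat_iff] at h
  have h := h.2 j j.2
  rw [show Nat.add D.nroots j.val = cd D (Sum.inl j : D.Idx) from rfl] at h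
  rw [nZ_col hc (simple_lt hc i.2)]
  funext x
  have := coeffAt_of_isZeroVec h (cd D x)
  simp only [coeffAt_cat, coeffAt_cons, coeffAt_nil, add_zero, cval_eq hc j.2 (simple_lt hc i.2)] at this
  have e1 : ∀ k : Fin D.rank, (cd D (Sum.inl k : D.Idx) = cd D x) ↔ x = Sum.inl k :=
    fun k => ⟨fun h => cd_injective h.symm, fun h => by rw [h]⟩
  rw [show Nat.add D.nroots i.val = cd D (Sum.inl i : D.Idx) from rfl] at this
  simp only [vecOf, Pi.sub_apply, Pi.smul_apply, Pi.single_apply, smul_eq_mul, e1] at this ⊢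
  split at this <;> split at this <;> simp_all [cm] <;> omega

theorem nZ_tabMat (i : Fin D.rank) {s : ℕ} (hs : s < D.nroots) {k : ℕ} (hk : k = 1 ∨ k = 2 ∨ k = 3) :
    nZ D T (D.simple i) * tabMat D T k s =
      (eta D T i s) ^ k • (tabMat D T k (sig D T i s) * nZ D T (D.simple i)) := by
  have hu := sig_lt hc i hs
  set N := nZ D T (D.simple i)
  set η := eta D T i s
  have k1 : N * tabMat D T 1 s = η • (tabMat D T 1 (sig D T i s) * N) := by
    rw [← adV_eVec hs, nZ_aut hc (simple_lt hc i.2), (eta_spec hc i hs).2, map_smul, adV_eVec hu, Matrix.smul_mul]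
  obtain ⟨h1, h2, -, -⟩ := pow_spec hc hs
  obtain ⟨g1, g2, -, -⟩ := pow_spec hc hu
  have k2 : N * tabMat D T 2 s = η ^ 2 • (tabMat D T 2 (sig D T i s) * N) := by
    apply smul_right_injective _ (show (2 : ℤ) ≠ 0 by norm_num)
    simp only
    rw [← Matrix.mul_smul, ← h1, ← Matrix.mul_assoc, k1, Matrix.smul_mul, Matrix.mul_assoc, k1, Matrix.mul_smul,
      ← Matrix.mul_assoc, g1, Matrix.smul_mul, smul_smul, smul_smul, smul_smul]
    congr 1; ring
  rcases hk with rfl | rfl | rfl
  · rw [pow_one]; exact k1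
  · exact k2
  · apply smul_right_injective _ (show (3 : ℤ) ≠ 0 by norm_num)
    simp only
    rw [← Matrix.mul_smul, ← h2, ← Matrix.mul_assoc, k1, Matrix.smul_mul, Matrix.mul_assoc, k2, Matrix.mul_smul,
      ← Matrix.mul_assoc, g2, Matrix.smul_mul, smul_smul, smul_smul, smul_smul]
    congr 1; ring

/-- n_p(1) respects the weights -/
theorem nZ_weight (i : Fin D.rank) {x y : D.Idx} (h : nZ D T (D.simple i) x y ≠ 0) :
    wI D T x = refl D i (wI D T y) := by
  rw [← Matrix.col_apply (nZ D T (D.simple i)) y x, ← Matrix.mulVec_single_one] at h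
  rcases y with j | u
  · rw [nZ_coroot_col hc] at h
    rcases x with k | v
    · simp [refl_zero]
    · simp at h
  · rw [← eVec_eq, (eta_spec hc i u.2).2, Pi.smul_apply, eVec] at h
    by_cases hx : cd D x = sig D T i u
    · rw [wI, hx, wI_inr, rv_sig hc i u.2]
    · rw [if_neg hx] at h; simp at h

theorem eta_neg (i : Fin D.rank) {s : ℕ} (hs : s < D.nroots) : eta D T i (D.neg s) = eta D T i s := by
  have hn := neg_lt hc hs
  have hu := sig_lt hc i hs
  have cor : ∀ a, (ha : a < D.nroots) →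
      tabMat D T 1 a *ᵥ eVec D (D.neg a) = ∑ j : Fin D.rank, cv T a j • Pi.single (Sum.inl j : D.Idx) 1 := by
    intro a ha
    funext x
    rw [show D.neg a = ((⟨D.neg a, neg_lt hc ha⟩ : Fin D.nroots) : ℕ) from rfl, eVec_eq, Matrix.mulVec_single_one,
      Matrix.col_apply, tabMat_apply, tabK_one, cd_inr, field_t1 hc ha (neg_lt hc ha), if_pos rfl, decCode_marker,
      coeffAt_corVec, Finset.sum_apply]
    rcases x with k | v
    · simp [Pi.single_apply]
    · rw [cd_inr, if_neg (by omega)]; simp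
  set N := nZ D T (D.simple i)
  have e1 := congrArg (· *ᵥ eVec D (D.neg s)) (nZ_tabMat hc i hs (k := 1) (Or.inl rfl))
  simp only [← Matrix.mulVec_mulVec, Matrix.smul_mulVec, pow_one] at e1
  rw [(eta_spec hc i hn).2, sig_neg hc i hs, cor s hs, Matrix.mulVec_smul, cor _ hu, smul_smul] at e1
  have e2 : N *ᵥ (∑ j : Fin D.rank, cv T s j • Pi.single (Sum.inl j : D.Idx) (1 : ℤ)) =
      ∑ j : Fin D.rank, cv T (sig D T i s) j • Pi.single (Sum.inl j : D.Idx) (1 : ℤ) := by
    simp only [Matrix.mulVec_sum, Matrix.mulVec_smul, N, nZ_coroot_col hc, smul_sub, Finset.sum_sub_distrib, smul_smul,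
      ← Finset.sum_smul, (refl_spec hc i hs).2.2.2, sub_smul, ite_smul, zero_smul, Finset.sum_ite_eq', Finset.mem_univ,
      if_true]
  rw [e2] at e1
  obtain ⟨j, hj⟩ := exists_cv_ne_zero hc ℚ hu
  have h3 := congrFun e1 (Sum.inl j : D.Idx)
  simp only [Finset.sum_apply, Pi.smul_apply, Pi.single_apply, Sum.inl.injEq, smul_eq_mul, mul_ite, mul_one, mul_zero,
    Finset.sum_ite_eq, Finset.mem_univ, if_true] at h3
  have hj' : cv T (sig D T i s) j ≠ 0 := by simpa using hj
  rcases (eta_spec hc i hs).1 with a | a <;> rcases (eta_spec hc i hn).1 with b | b <;> rw [a, b] at h3 ⊢ <;>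
    first | rfl | (exfalso; apply hj'; omega)

theorem chainRoot_of_code {a s k : ℕ} (ha : a < D.nroots) (hs : s < D.nroots) (hsa : s ≠ D.neg a)
    (hk : k = 1 ∨ k = 2 ∨ k = 3) (h : codeVal (field ((tabK T k).get a) s) ≠ 0) :
    D.chainRoot a s k = some (codeIdx (field ((tabK T k).get a) s)) := by
  have e : field ((tabK T k).get a) s = optCode ((D.chainEntry a s)[k - 1]?) := by
    rcases hk with rfl | rfl | rfl
    · rw [tabK_one, field_t1 hc ha hs, if_neg hsa]
    · rw [tabK_two, field_t2 hc ha, if_neg hsa]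
    · rw [tabK_three, field_t3 hc ha]
  rw [e] at h ⊢
  rw [ChevalleyDatum.chainRoot]
  cases hq : (D.chainEntry a s)[k - 1]? with
  | none => rw [hq] at h; exact absurd rfl h
  | some q =>
      obtain ⟨-, -, q3, q4, -⟩ := chainEntry_get hc ha (hq ▸ rfl : q ∈ (D.chainEntry a s)[k - 1]?)
      simp [optCode, codeIdx_encNZ q3 q4]

theorem reflectRoot_eq (i : Fin D.rank) {s : ℕ} (hs : s < D.nroots) : D.reflectRoot i s = sig D T i s := by
  have hp := simple_lt hc i.2
  have hok := (refl_spec hc i hs).1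
  unfold sigOK at hok
  unfold ChevalleyDatum.reflectRoot sig
  simp only [cval_eq hc i.2 hs, negN_eq hc hp, cond_beq] at hok ⊢
  by_cases h1 : s = D.simple i
  · rw [if_pos h1, if_pos h1]
  rw [if_neg h1, if_neg h1]
  rw [if_neg h1] at hok
  by_cases h2 : s = D.neg (D.simple i)
  · rw [if_pos h2, if_pos h2]
  rw [if_neg h2, if_neg h2]
  rw [if_neg h2] at hok
  generalize hA : D.cartan i s = A at hok ⊢
  cases A with
  | ofNat a =>
      dsimp only at hok ⊢
      by_cases h0 : a = 0
      · subst h0; rw [if_pos rfl, if_neg (by decide), if_neg (by decide)]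
      · rw [if_neg h0, cond_false_iff, nat_ble_iff, decide_eq_true_iff] at hok
        rw [if_neg h0, if_pos (show (0 : ℤ) < Int.ofNat a by simp; omega), show (Int.ofNat a).toNat = a from rfl,
          chainRoot_of_code hc (neg_lt hc hp) hs (by rw [neg_neg_root hc hp]; exact h1) (by omega) hok.2,
          Option.getD_some]
  | negSucc a =>
      dsimp only at hok ⊢
      rw [cond_false_iff, nat_ble_iff, decide_eq_true_iff] at hok
      rw [if_neg (by simp), if_pos (Int.negSucc_lt_zero a), show (-Int.negSucc a).toNat = a + 1 from rfl,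
        chainRoot_of_code hc hp hs h2 (show a + 1 = 1 ∨ a + 1 = 2 ∨ a + 1 = 3 by omega) hok.2, Option.getD_some]

end

end CfsgLib.Chev
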