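import Cfsg.Agent.Lib.Chev.OrderCases
import Cfsg.Agent.Lib.Chevalley.FieldMap
/-
B2(2) acts as the symmetric group on six cosets of a fixed vector in the adjoint module.
-/
set_option autoImplicit false

namespace CfsgLib.Chev.B2Small

open Cfsg.Lie
open scoped Matrix

/-- the position of a basis vector -/
def bit : chevB2.Idx → ℕ
  | Sum.inl i => i.val
  | Sum.inr r => chevB2.rank + r.val

/-- six representatives -/
def pt (k : Fin 6) : chevB2.Idx → ZMod 2 := fun x =>
  if bit x ∈ (([[1, 4, 7], [1, 3, 4, 7], [1, 3, 8], [1, 3, 4, 8], [1, 3, 7, 8], [1, 4, 7, 8]] : List (List ℕ)).getD k.val []) then 1 else 0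

/-- the fixed vector -/
def fixv : chevB2.Idx → ZMod 2 := fun x => if bit x = 0 then 1 else 0

/-- removing the component along the fixed vector -/
def proj (v : chevB2.Idx → ZMod 2) : chevB2.Idx → ZMod 2 := fun x => if bit x = 0 then 0 else v x

/-- the permutation tables of the root elements -/
def tbl : List (List (Fin 6)) :=
  [[1, 0, 3, 2, 5, 4], [1, 0, 2, 3, 4, 5], [0, 1, 3, 2, 4, 5], [1, 0, 4, 5, 2, 3],
   [5, 4, 3, 2, 1, 0], [0, 1, 4, 3, 2, 5], [5, 1, 2, 3, 4, 0], [5, 3, 4, 1, 2, 0]]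

/-- the image of a point under a root element -/
def img (r : ℕ) (k : Fin 6) : Fin 6 := (tbl.getD r []).getD k.val 0

theorem pt_inj : Function.Injective pt := by decide +kernel

theorem fixv_gen : ∀ r : Fin chevB2.nroots, ∀ t : ZMod 2, chevB2.xMat (ZMod 2) r t *ᵥ fixv = fixv := by decide +kernel

theorem pt_gen : ∀ r : Fin chevB2.nroots, ∀ k : Fin 6,
    proj (chevB2.xMat (ZMod 2) r 1 *ᵥ pt k) = pt (img r.val k) ∧
      proj (chevB2.xMat (ZMod 2) r 0 *ᵥ pt k) = pt k := by decide +kernel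

theorem img_invol : ∀ r : Fin chevB2.nroots, ∀ k : Fin 6, img r.val (img r.val k) = k := by decide +kernel

/-- a matrix inducing a permutation of the six cosets -/
def Acts (g : GL chevB2.Idx (ZMod 2)) (σ : Equiv.Perm (Fin 6)) : Prop :=
  (g : Matrix chevB2.Idx chevB2.Idx (ZMod 2)) *ᵥ fixv = fixv ∧
    ∀ k, proj ((g : Matrix chevB2.Idx chevB2.Idx (ZMod 2)) *ᵥ pt k) = pt (σ k)

theorem proj_add_fix (M : Matrix chevB2.Idx chevB2.Idx (ZMod 2)) (h : M *ᵥ fixv = fixv) (v : chevB2.Idx → ZMod 2) :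
    proj (M *ᵥ proj v) = proj (M *ᵥ v) := by
  have hv : proj v = v - v (Sum.inl ⟨0, by decide⟩) • fixv := by
    funext x
    by_cases e : bit x = 0
    · have hx : x = Sum.inl ⟨0, by decide⟩ := by
        rcases x with i | r
        · exact congrArg Sum.inl (Fin.ext e)
        · have : (2 : ℕ) = chevB2.rank := rfl
          simp only [bit] at e; omega
      subst hx
      simp [proj, fixv, bit]
    · simp [proj, fixv, e]
  rw [hv, Matrix.mulVec_sub, Matrix.mulVec_smul, h]
  funext x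
  by_cases e : bit x = 0 <;> simp [proj, fixv, e]

theorem acts_mul {g h : GL chevB2.Idx (ZMod 2)} {σ τ : Equiv.Perm (Fin 6)} (hg : Acts g σ) (hh : Acts h τ) :
    Acts (g * h) (σ * τ) := by
  refine ⟨by rw [Units.val_mul, ← Matrix.mulVec_mulVec, hh.1, hg.1], fun k => ?_⟩
  rw [Units.val_mul, ← Matrix.mulVec_mulVec, ← proj_add_fix _ hg.1, hh.2, hg.2]
  rfl

theorem acts_inv {g : GL chevB2.Idx (ZMod 2)} {σ : Equiv.Perm (Fin 6)} (hg : Acts g σ) : Acts g⁻¹ σ⁻¹ := by
  have h1 : ((g⁻¹ : GL chevB2.Idx (ZMod 2)) : Matrix chevB2.Idx chevB2.Idx (ZMod 2)) *ᵥ fixv = fixv := by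
    conv_lhs => rw [← hg.1]
    rw [Matrix.mulVec_mulVec, ← Units.val_mul, inv_mul_cancel, Units.val_one, Matrix.one_mulVec]
  refine ⟨h1, fun k => ?_⟩
  have e := hg.2 (σ⁻¹ k)
  rw [Equiv.Perm.inv_def, Equiv.apply_symm_apply] at e
  rw [← e, proj_add_fix _ h1, Matrix.mulVec_mulVec, ← Units.val_mul, inv_mul_cancel, Units.val_one,
    Matrix.one_mulVec]
  have hp : ∀ k, proj (pt k) = pt k := by decide +kernel
  rw [hp]
  rfl

theorem acts_unique {g : GL chevB2.Idx (ZMod 2)} {σ τ : Equiv.Perm (Fin 6)} (h : Acts g σ) (h' : Acts g τ) : σ = τ :=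
  Equiv.ext fun k => pt_inj ((h.2 k).symm.trans (h'.2 k))

/-- the permutation of a root element -/
def genPerm (r : Fin chevB2.nroots) : Equiv.Perm (Fin 6) :=
  ⟨img r.val, img r.val, img_invol r, img_invol r⟩

theorem acts_exists {g : GL chevB2.Idx (ZMod 2)} (hg : g ∈ chevB2.group (ZMod 2)) : ∃ σ, Acts g σ := by
  induction hg using Subgroup.closure_induction with
  | mem x hx =>
      obtain ⟨r, t, hx⟩ := hx
      have ht : t = 0 ∨ t = 1 := (by decide : ∀ a : ZMod 2, a = 0 ∨ a = 1) t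
      rcases ht with rfl | rfl
      · exact ⟨1, by rw [hx]; exact fixv_gen r 0, fun k => by rw [hx]; exact (pt_gen r k).2⟩
      · exact ⟨genPerm r, by rw [hx]; exact fixv_gen r 1, fun k => by rw [hx]; exact (pt_gen r k).1⟩
  | one => exact ⟨1, by simp, fun k => by rw [Units.val_one, Matrix.one_mulVec]; revert k; decide +kernel⟩
  | mul a b _ _ ha hb =>
      obtain ⟨σ, hσ⟩ := ha; obtain ⟨τ, hτ⟩ := hb; exact ⟨_, acts_mul hσ hτ⟩
  | inv a _ ha => obtain ⟨σ, hσ⟩ := ha; exact ⟨_, acts_inv hσ⟩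

/-- the permutation representation -/
noncomputable def rep : ↥(chevB2.group (ZMod 2)) →* Equiv.Perm (Fin 6) :=
  MonoidHom.mk' (fun g => (acts_exists g.2).choose) fun a b =>
    acts_unique (acts_exists (a * b).2).choose_spec
      (acts_mul (acts_exists a.2).choose_spec (acts_exists b.2).choose_spec)

theorem genPerm_mem (r : Fin chevB2.nroots) : genPerm r ∈ rep.range := by
  obtain ⟨T, hc⟩ := exists_checked (D := chevB2) (by simp)
  have hr := r.2
  refine ⟨⟨_, elX_mem_group hc hr (1 : ZMod 2)⟩, ?_⟩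
  refine acts_unique (acts_exists (elX_mem_group hc hr (1 : ZMod 2))).choose_spec ?_
  have e : ((elX chevB2 (ZMod 2) r.val 1 : GL chevB2.Idx (ZMod 2)) : Matrix chevB2.Idx chevB2.Idx (ZMod 2)) =
      chevB2.xMat (ZMod 2) r 1 := by rw [coe_elX hc (ZMod 2) hr, ChevalleyDatum.x, dif_pos hr]
  exact ⟨by rw [e]; exact fixv_gen r 1, fun k => by rw [e]; exact (pt_gen r k).1⟩

/-- words in the root elements giving the adjacent transpositions -/
def wordOf (i : Fin 5) : List (Fin chevB2.nroots) :=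
  (([[1], [2, 3, 6, 3, 2], [2], [2, 5, 2], [2, 1, 0]] : List (List ℕ)).getD i.val []).map fun r =>
    ⟨r % chevB2.nroots, Nat.mod_lt _ (by decide)⟩

theorem wordOf_eq : ∀ i : Fin 5, ((wordOf i).map genPerm).prod = Equiv.swap i.castSucc i.succ := by decide +kernel

theorem rep_surjective : Function.Surjective rep := by
  rw [← MonoidHom.range_eq_top, eq_top_iff]
  intro σ _
  have hσ : σ ∈ Submonoid.closure (Set.range fun i : Fin 5 => Equiv.swap i.castSucc i.succ) := by
    rw [Equiv.Perm.mclosure_swap_castSucc_succ]; trivial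
  refine (Submonoid.closure_le (S := rep.range.toSubmonoid)).2 ?_ hσ
  rintro _ ⟨i, rfl⟩
  show Equiv.swap i.castSucc i.succ ∈ rep.range
  rw [← wordOf_eq i]
  refine Subgroup.list_prod_mem _ fun x hx => ?_
  obtain ⟨r, -, rfl⟩ := List.mem_map.1 hx
  exact genPerm_mem r

theorem group_equiv_perm {F : Type*} [Field F] [Fintype F] (hF : Fintype.card F = 2) :
    Nonempty (↥(chevB2.group F) ≃* Equiv.Perm (Fin 6)) := by
  haveI : Fact (Nat.Prime 2) := ⟨Nat.prime_two⟩
  let f : ZMod 2 ≃+* F := ZMod.ringEquivOfPrime F Nat.prime_two hF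
  have hcard : Nat.card ↥(chevB2.group (ZMod 2)) = 720 := by
    have := card_group_B2 (F := ZMod 2) (ZMod.card 2)
    simpa using this
  have hb : Function.Bijective rep := by
    rw [Nat.bijective_iff_surjective_and_card]
    exact ⟨rep_surjective, by rw [hcard, Nat.card_perm, Nat.card_eq_fintype_card, Fintype.card_fin]; rfl⟩
  exact ⟨(CfsgLib.Chevalley.groupFieldEquiv chevB2 f).symm.trans (MulEquiv.ofBijective rep hb)⟩

end CfsgLib.Chev.B2Small
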