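import Cfsg.Agent.Lib.Chev.Monomial
/-
B = U H, the intersections with V and N, and the complement of a fundamental root subgroup in U.
-/
set_option autoImplicit false
set_option linter.unusedSectionVars false

namespace CfsgLib.Chev

open Cfsg.Lie
open scoped Matrix

variable {D : ChevalleyDatum} {T : Tabs} {F : Type*} [Field F]

/-- the positive roots other than one fundamental root -/
def CompRoot (D : ChevalleyDatum) (i : Fin D.rank) (r : ℕ) : Prop := D.nroots / 2 ≤ r ∧ r ≠ D.simple i.val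

theorem torus_diag_entry (χ : Fin D.rank → Fˣ) {x y : D.Idx} (h : x ≠ y) :
    ((torus D T F χ : GL D.Idx F) : Matrix D.Idx D.Idx F) x y = 0 := by
  rw [coe_torus, Matrix.diagonal_apply_ne _ h]

section
variable (hc : Checked D T)
include hc

/-- H normalises every group of root elements -/
theorem diagonal_le_normalizer (P : ℕ → Prop) :
    D.diagonalSubgroup F ≤ Subgroup.normalizer (uGen D F P : Set (GL D.Idx F)) := by
  have key : ∀ h ∈ D.diagonalSubgroup F, ∀ g ∈ uGen D F P, h * g * h⁻¹ ∈ uGen D F P := by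
    intro h hh g hg
    induction hg using Subgroup.closure_induction with
    | mem x hx =>
        obtain ⟨r, t, hr, hP, rfl⟩ := hx
        obtain ⟨c, hcc⟩ := diagonal_conj_elX hc hh hr
        rw [hcc]; exact elX_mem_uGen hr hP _
    | one => simp
    | mul a b _ _ ha hb =>
        rw [show h * (a * b) * h⁻¹ = (h * a * h⁻¹) * (h * b * h⁻¹) by group]; exact mul_mem ha hb
    | inv a _ ha => rw [show h * a⁻¹ * h⁻¹ = (h * a * h⁻¹)⁻¹ by group]; exact inv_mem ha
  intro h hh
  rw [Subgroup.mem_normalizer_iff]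
  refine fun g => ⟨key h hh g, fun hg => ?_⟩
  have := key _ (inv_mem hh) _ hg
  rwa [show h⁻¹ * (h * g * h⁻¹) * (h⁻¹)⁻¹ = g by group] at this

theorem diag_conj_mem (P : ℕ → Prop) {h g : GL D.Idx F} (hh : h ∈ D.diagonalSubgroup F) (hg : g ∈ uGen D F P) :
    h * g * h⁻¹ ∈ uGen D F P := (Subgroup.mem_normalizer_iff.1 (diagonal_le_normalizer hc P hh) g).1 hg

theorem diag_conj_mem' (P : ℕ → Prop) {h g : GL D.Idx F} (hh : h ∈ D.diagonalSubgroup F) (hg : g ∈ uGen D F P) :
    h⁻¹ * g * h ∈ uGen D F P := by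
  simpa using diag_conj_mem hc P (inv_mem hh) hg

theorem mem_borel {g : GL D.Idx F} :
    g ∈ D.borelSubgroup F ↔
      ∃ u ∈ uGen D F (fun r => D.nroots / 2 ≤ r), ∃ h ∈ D.diagonalSubgroup F, g = u * h := by
  rw [ChevalleyDatum.borelSubgroup, posUnipotent_eq hc]
  constructor
  · intro hg
    rw [← SetLike.mem_coe, Subgroup.coe_mul_of_right_le_normalizer_left _ _ (diagonal_le_normalizer hc _)] at hg
    obtain ⟨u, hu, h, hh, rfl⟩ := hg
    exact ⟨u, hu, h, hh, rfl⟩
  · rintro ⟨u, hu, h, hh, rfl⟩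
    exact mul_mem (Subgroup.mem_sup_left hu) (Subgroup.mem_sup_right hh)

theorem pos_le_borel : uGen D F (fun r => D.nroots / 2 ≤ r) ≤ D.borelSubgroup F := by
  rw [← posUnipotent_eq hc]; exact le_sup_left

theorem elX_mem_borel {r : ℕ} (hr : r < D.nroots) (hp : D.nroots / 2 ≤ r) (t : F) :
    elX D F r t ∈ D.borelSubgroup F :=
  pos_le_borel hc (elX_mem_uGen hr (P := fun r => D.nroots / 2 ≤ r) hp t)

theorem diagonal_le_borel : D.diagonalSubgroup F ≤ D.borelSubgroup F := le_sup_right

/-- an element of U times a diagonal matrix that also lies in V times a diagonal matrix is diagonal -/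
theorem uh_eq_vh {u v : GL D.Idx F} (hu : u ∈ uGen D F (fun r => D.nroots / 2 ≤ r))
    (hv : v ∈ uGen D F (fun r => r < D.nroots / 2)) {χ ψ : Fin D.rank → Fˣ}
    (e : u * torus D T F χ = v * torus D T F ψ) : u = 1 ∧ v = 1 ∧ torus D T F χ = torus D T F ψ := by
  have hU := raises_uGen hc (keyLin_add (D := D)) (keyLin_smul (D := D)) (d := 1) (by norm_num)
    (fun r hr hp => by have := (key_pos_iff hc hr).2 hp; omega) hu
  have hV := raises_uGen hc (f := fun v => -keyLin D v) (fun a b => by rw [keyLin_add]; ring)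
    (fun c a => by rw [keyLin_smul]; ring) (d := 1) (by norm_num)
    (fun r hr hn => by have := (key_neg_iff hc hr).2 hn; omega) hv
  have e' : ∀ x y, (u : Matrix D.Idx D.Idx F) x y * (chi χ (wI D T y) : F) =
      (v : Matrix D.Idx D.Idx F) x y * (chi ψ (wI D T y) : F) := by
    intro x y
    have := congrArg (fun g : GL D.Idx F => (g : Matrix D.Idx D.Idx F) x y) e
    simpa [coe_torus, Matrix.mul_diagonal] using this
  have h1 : ∀ x, (u : Matrix D.Idx D.Idx F) x x = 1 ∧ (v : Matrix D.Idx D.Idx F) x x = 1 := by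
    intro x
    constructor
    · by_contra h; have := hU x x (by rwa [Matrix.one_apply_eq]); omega
    · by_contra h; have := hV x x (by rwa [Matrix.one_apply_eq]); omega
  have key : ∀ x y, x ≠ y → (u : Matrix D.Idx D.Idx F) x y = 0 ∧ (v : Matrix D.Idx D.Idx F) x y = 0 := by
    intro x y hxy
    by_cases hu0 : (u : Matrix D.Idx D.Idx F) x y = 0
    · refine ⟨hu0, ?_⟩
      have := e' x y
      rw [hu0, zero_mul] at this
      exact (mul_eq_zero.1 this.symm).resolve_right (Units.ne_zero _)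
    · exfalso
      have hv0 : (v : Matrix D.Idx D.Idx F) x y ≠ 0 := fun h => by
        have := e' x y
        rw [h, zero_mul] at this
        exact hu0 ((mul_eq_zero.1 this).resolve_right (Units.ne_zero _))
      have g1 := hU x y (by rwa [Matrix.one_apply_ne hxy])
      have g2 := hV x y (by rwa [Matrix.one_apply_ne hxy])
      dsimp only at g2
      omega
  have u1 : u = 1 := by
    ext x y
    by_cases hxy : x = y
    · subst hxy; simp [(h1 x).1]
    · simp [(key x y hxy).1, Matrix.one_apply_ne hxy]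
  have v1 : v = 1 := by
    ext x y
    by_cases hxy : x = y
    · subst hxy; simp [(h1 x).2]
    · simp [(key x y hxy).2, Matrix.one_apply_ne hxy]
  subst u1; subst v1
  rw [one_mul, one_mul] at e
  exact ⟨rfl, rfl, e⟩

theorem pos_inf_diag {g : GL D.Idx F} (hu : g ∈ uGen D F (fun r => D.nroots / 2 ≤ r))
    (hh : g ∈ D.diagonalSubgroup F) : g = 1 := by
  obtain ⟨c, rfl⟩ := (mem_diagonal hc).1 hh
  exact (uh_eq_vh hc (χ := 1) (ψ := hPar D F c) hu (one_mem _) (by simp)).1

theorem borel_inf_neg {g : GL D.Idx F} (hb : g ∈ D.borelSubgroup F) (hv : g ∈ uGen D F (fun r => r < D.nroots / 2)) :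
    g = 1 := by
  obtain ⟨u, hu, h, hh, rfl⟩ := (mem_borel hc).1 hb
  obtain ⟨c, rfl⟩ := (mem_diagonal hc).1 hh
  obtain ⟨-, h2, -⟩ := uh_eq_vh hc (ψ := 1) hu hv (χ := hPar D F c) (by simp)
  exact h2

theorem elX_not_mem_borel {r : ℕ} (hr : r < D.nroots) (hneg : r < D.nroots / 2) {t : F} (ht : t ≠ 0) :
    elX D F r t ∉ D.borelSubgroup F := fun h =>
  ht ((elX_eq_one_iff hc hr t).1 (borel_inf_neg hc h (elX_mem_uGen hr (P := fun r => r < D.nroots / 2) hneg t)))

theorem borel_conj_pos {b : GL D.Idx F} (hb : b ∈ D.borelSubgroup F) {g : GL D.Idx F}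
    (hg : g ∈ uGen D F (fun r => D.nroots / 2 ≤ r)) : b * g * b⁻¹ ∈ uGen D F (fun r => D.nroots / 2 ≤ r) := by
  obtain ⟨u, hu, h, hh, rfl⟩ := (mem_borel hc).1 hb
  rw [show u * h * g * (u * h)⁻¹ = u * (h * g * h⁻¹) * u⁻¹ by group]
  exact mul_mem (mul_mem hu (diag_conj_mem hc _ hh hg)) (inv_mem hu)

theorem borel_inf_monomial {g : GL D.Idx F} (hb : g ∈ D.borelSubgroup F) (hn : g ∈ D.monomialSubgroup F) :
    g ∈ D.diagonalSubgroup F := by
  obtain ⟨h, hh, L, rfl⟩ := monomial_cases hc hn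
  have hL : nProd D F L ∈ D.borelSubgroup F := by
    have := mul_mem (inv_mem (diagonal_le_borel hc hh)) hb
    rwa [inv_mul_cancel_left] at this
  refine mul_mem hh (nProd_mem_of_pos hc L fun i => ?_)
  by_contra hneg
  have hp := simple_lt hc i.2
  obtain ⟨c, hc1, hcx⟩ := nProd_conj_elX hc (F := F) L hp
  have hmem := borel_conj_pos hc hL (elX_mem_uGen hp (P := fun r => D.nroots / 2 ≤ r) (half_le_simple hc i.2) (1 : F))
  rw [hcx, mul_one] at hmem
  exact elX_not_mem_borel hc (sigs_lt hc L hp) (by omega) c.ne_zero (pos_le_borel hc hmem)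

theorem mem_monomial_pos_diag {g : GL D.Idx F} (hu : g ∈ uGen D F (fun r => D.nroots / 2 ≤ r))
    (hn : g ∈ D.monomialSubgroup F) : g = 1 :=
  pos_inf_diag hc hu (borel_inf_monomial hc (pos_le_borel hc hu) hn)

/-- an element of N that fixes every root lies in H -/
theorem monomial_fix {L : List (Fin D.rank)} (h : ∀ r, r < D.nroots → sigs D T L r = r) :
    nProd D F L ∈ D.diagonalSubgroup F :=
  nProd_mem_of_pos hc L fun i => by rw [h _ (simple_lt hc i.2)]; exact half_le_simple hc i.2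

theorem combRoot_comp (i : Fin D.rank) {r s v : ℕ} (hr : r = D.simple i.val ∨ r = D.neg (D.simple i.val))
    (hs : s < D.nroots) (hS : CompRoot D i s) (h : CombRoot D T r s v) : CompRoot D i v := by
  obtain ⟨hv, a, b, ha, hb, e⟩ := h
  have hp := simple_lt hc i.2
  have hoff : ∀ j, j ≠ i → rv D T v j = (b : ℤ) * rv D T s j := by
    intro j hj
    rcases hr with rfl | rfl
    · rw [e, rv_simple hc]; simp [hj]
    · rw [e, rv_neg hc hp, rv_simple hc]; simp [hj]
  obtain ⟨j, hj, hsj⟩ : ∃ j, j ≠ i ∧ rv D T s j ≠ 0 := by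
    by_contra hh
    push Not at hh
    rcases eq_simple_of_support hc i hs hh with g | g
    · exact hS.2 g
    · have := hS.1; have := neg_eq hc hp; have := half_le_simple hc i.2; have := nroots_eq_two_mul hc; omega
  have hsj' : 0 ≤ rv D T s j := (((root_spec hc hs).2.2.2.2 j j.2).2.1 hS.1).2
  have hvj : 0 < rv D T v j := by
    rw [hoff j hj]; exact mul_pos (by exact_mod_cast hb) (by omega)
  refine ⟨?_, fun e' => ?_⟩
  · by_contra hh
    have : rv D T v j ≤ 0 := (((root_spec hc hv).2.2.2.2 j j.2).1 (by omega)).2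
    omega
  · rw [e', rv_simple hc] at hvj; simp [hj] at hvj

theorem closedPos_comp (i : Fin D.rank) : ClosedPos D T (CompRoot D i) := by
  refine ⟨fun r _ h => h.1, fun r s v hr hs h1 h2 hv => ⟨(closedPos_pos hc).2 r s v hr hs h1.1 h2.1 hv, fun e => ?_⟩⟩
  obtain ⟨-, a, b, ha, hb, e'⟩ := hv
  rw [e, rv_simple hc] at e'
  obtain ⟨j, hj, hrj⟩ : ∃ j, j ≠ i ∧ rv D T r j ≠ 0 := by
    by_contra hh
    push Not at hh
    have hp := simple_lt hc i.2
    rcases eq_simple_of_support hc i hr hh with g | g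
    · exact h1.2 g
    · have := h1.1; have := neg_eq hc hp; have := half_le_simple hc i.2; have := nroots_eq_two_mul hc; omega
  have q1 : 0 ≤ rv D T r j := (((root_spec hc hr).2.2.2.2 j j.2).2.1 h1.1).2
  have q2 : 0 ≤ rv D T s j := (((root_spec hc hs).2.2.2.2 j j.2).2.1 h2.1).2
  have := congrFun e' j
  simp [hj] at this
  have ha' : (1 : ℤ) ≤ a := by exact_mod_cast ha
  have hb' : (0 : ℤ) ≤ b := Int.natCast_nonneg b
  nlinarith [mul_pos (show (0 : ℤ) < a by omega) (show 0 < rv D T r j by omega), mul_nonneg hb' q2]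

/-- n_p(1) normalises the complement -/
theorem nOne_conj_comp (i : Fin D.rank) {g : GL D.Idx F} (hg : g ∈ uGen D F (CompRoot D i)) :
    elN D F (D.simple i.val) 1 * g * (elN D F (D.simple i.val) 1)⁻¹ ∈ uGen D F (CompRoot D i) := by
  induction hg using Subgroup.closure_induction with
  | mem x hx =>
      obtain ⟨r, t, hr, hP, rfl⟩ := hx
      rw [nOne_conj_elX hc i hr]
      exact elX_mem_uGen (sig_lt hc i hr) (sig_pos hc i hr hP.1 hP.2) _
  | one => simp
  | mul a b _ _ ha hb =>
      rw [show ∀ n x y : GL D.Idx F, n * (x * y) * n⁻¹ = (n * x * n⁻¹) * (n * y * n⁻¹) from fun n x y => by group]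
      exact mul_mem ha hb
  | inv a _ ha =>
      rw [show ∀ n x : GL D.Idx F, n * x⁻¹ * n⁻¹ = (n * x * n⁻¹)⁻¹ from fun n x => by group]
      exact inv_mem ha

variable (hcomm : CommOne D T)
include hcomm

theorem pm_simple_normalizer (i : Fin D.rank) {r : ℕ} (hr : r = D.simple i.val ∨ r = D.neg (D.simple i.val)) (t : F) :
    elX D F r t ∈ Subgroup.normalizer (uGen D F (CompRoot D i) : Set (GL D.Idx F)) := by
  have hp := simple_lt hc i.2
  refine elX_mem_normalizer hc hcomm (by rcases hr with rfl | rfl; exacts [hp, neg_lt hc hp])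
    (fun s hs hS _ => ⟨?_, fun v hv => combRoot_comp hc i hr hs hS hv⟩) t
  rcases hr with rfl | rfl
  · exact ne_neg_of_pos hc hp (half_le_simple hc i.2) hS.1
  · rw [neg_neg_root hc hp]; exact hS.2

/-- U = U' X_p -/
theorem pos_split_simple (i : Fin D.rank) {g : GL D.Idx F} (hg : g ∈ uGen D F (fun r => D.nroots / 2 ≤ r)) :
    ∃ a ∈ uGen D F (CompRoot D i), ∃ t, g = a * elX D F (D.simple i.val) t := by
  obtain ⟨a, ha, b, hb, rfl⟩ := uGen_split hc hcomm (closedPos_pos hc) (Q := CompRoot D i)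
    (R := fun r => r = D.simple i.val) (fun r hr hp => by by_cases h : r = D.simple i.val; exacts [Or.inr h, Or.inl ⟨hp, h⟩]) hg
  rw [← rootSubgroup_eq hc (simple_lt hc i.2), mem_rootSubgroup hc (simple_lt hc i.2)] at hb
  obtain ⟨t, rfl⟩ := hb
  exact ⟨a, ha, t, rfl⟩

end

end CfsgLib.Chev
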