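import Cfsg.Prelude.Def_LieExceptional
import Cfsg.Agent.Lib.Chev.Borel
/-
The (B, N)-pair of a Chevalley group.
-/
set_option autoImplicit false
set_option linter.unusedSectionVars false

namespace CfsgLib.Chev

open Cfsg.Lie
open scoped Matrix Pointwise

variable {D : ChevalleyDatum} {T : Tabs} {F : Type*} [Field F]

section
variable (hc : Checked D T)
include hc

theorem elX_mem_group {r : ℕ} (hr : r < D.nroots) (t : F) : elX D F r t ∈ D.group F := by
  rw [group_eq hc]; exact elX_mem_uGen hr (P := fun _ => True) trivial t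

theorem elN_mem_group {r : ℕ} (hr : r < D.nroots) (t : F) : elN D F r t ∈ D.group F :=
  mul_mem (mul_mem (elX_mem_group hc hr t) (elX_mem_group hc (neg_lt hc hr) _)) (elX_mem_group hc hr t)

theorem diagonal_le_group : D.diagonalSubgroup F ≤ D.group F := by
  rw [ChevalleyDatum.diagonalSubgroup, Subgroup.closure_le]
  rintro g ⟨r, t, hr, ht, hg⟩
  have : g = elH D F r t := by ext1; rw [hg, coe_elH hc hr]
  rw [this]; exact mul_mem (elN_mem_group hc hr t) (elN_mem_group hc hr _)

theorem pos_le_group : uGen D F (fun r => D.nroots / 2 ≤ r) ≤ D.group F := by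
  rw [uGen_le_iff]; exact fun r hr _ t => elX_mem_group hc hr t

theorem borel_le_group : D.borelSubgroup F ≤ D.group F := by
  rw [ChevalleyDatum.borelSubgroup, posUnipotent_eq hc]
  exact sup_le (pos_le_group hc) (diagonal_le_group hc)

theorem monomial_le_group : D.monomialSubgroup F ≤ D.group F := by
  refine sup_le (diagonal_le_group hc) ?_
  rw [Subgroup.closure_le]
  rintro g ⟨r, hr, hg⟩
  have : g = elN D F r 1 := by ext1; rw [hg, coe_elN hc hr]
  rw [this]; exact elN_mem_group hc hr 1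

theorem group_le_borel_sup_monomial : D.group F ≤ D.borelSubgroup F ⊔ D.monomialSubgroup F := by
  rw [group_eq hc, uGen_le_iff]
  intro r hr _
  refine root_induction hc (P := fun r => ∀ t : F, elX D F r t ∈ D.borelSubgroup F ⊔ D.monomialSubgroup F)
    (fun i t => Subgroup.mem_sup_left (elX_mem_borel hc (simple_lt hc i.2) (half_le_simple hc i.2) t))
    (fun i s hs hP t => ?_) hr
  have hne : (eta D T i s : F) ≠ 0 := by rcases eta_cast hc (F := F) i hs with e | e <;> simp [e]
  have hn : elN D F (D.simple i.val) (1 : F) ∈ D.borelSubgroup F ⊔ D.monomialSubgroup F :=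
    Subgroup.mem_sup_right (elN_mem_monomial hc (simple_lt hc i.2))
  have h := nOne_conj_elX hc i hs ((eta D T i s : F)⁻¹ * t)
  rw [← mul_assoc, mul_inv_cancel₀ hne, one_mul] at h
  rw [← h]
  exact mul_mem (mul_mem hn (hP _)) (inv_mem hn)

theorem borel_sup_monomial : D.borelSubgroup F ⊔ D.monomialSubgroup F = D.group F :=
  le_antisymm (sup_le (borel_le_group hc) (monomial_le_group hc)) (group_le_borel_sup_monomial hc)

theorem monomial_conj_diagonal {n h : GL D.Idx F} (hn : n ∈ D.monomialSubgroup F) (hh : h ∈ D.diagonalSubgroup F) :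
    n * h * n⁻¹ ∈ D.diagonalSubgroup F := by
  obtain ⟨k, hk, L, rfl⟩ := monomial_cases hc hn
  rw [show k * nProd D F L * h * (k * nProd D F L)⁻¹ = k * (nProd D F L * h * (nProd D F L)⁻¹) * k⁻¹ by group]
  exact mul_mem (mul_mem hk (nProd_conj_diagonal hc L hh)) (inv_mem hk)

theorem monomial_conj_elX {n : GL D.Idx F} (hn : n ∈ D.monomialSubgroup F) {r : ℕ} (hr : r < D.nroots) :
    ∃ (v : ℕ) (c : Fˣ), v < D.nroots ∧ (∀ t : F, n * elX D F r t * n⁻¹ = elX D F v ((c : F) * t)) ∧
      ∀ t : F, ∃ u, n * elX D F (D.neg r) t * n⁻¹ = elX D F (D.neg v) u := by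
  obtain ⟨k, hk, L, rfl⟩ := monomial_cases hc hn
  obtain ⟨c, -, h⟩ := nProd_conj_elX_pair hc (F := F) L hr
  obtain ⟨d, hd⟩ := diagonal_conj_elX hc hk (sigs_lt hc L hr)
  obtain ⟨d', hd'⟩ := diagonal_conj_elX hc hk (neg_lt hc (sigs_lt hc L hr))
  refine ⟨_, d * c, sigs_lt hc L hr, fun t => ?_, fun t => ⟨(d' : F) * ((c : F) * t), ?_⟩⟩
  · rw [show ∀ n m x : GL D.Idx F, n * m * x * (n * m)⁻¹ = n * (m * x * m⁻¹) * n⁻¹ from fun n m x => by group,
      (h t).1, hd, Units.val_mul, mul_assoc]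
  · rw [show ∀ n m x : GL D.Idx F, n * m * x * (n * m)⁻¹ = n * (m * x * m⁻¹) * n⁻¹ from fun n m x => by group,
      (h t).2, hd']

/-- x_{-p}(b) as a product through n_p -/
theorem neg_elX_eq {r : ℕ} (hr : r < D.nroots) {b : F} (hb : b ≠ 0) :
    elX D F (D.neg r) b = elX D F r b⁻¹ * elN D F r (-b⁻¹) * elX D F r b⁻¹ := by
  rw [show ((-b⁻¹ : F)) = -(b⁻¹) from rfl, elN, show -(-b⁻¹)⁻¹ = b by simp [inv_neg], ← elX_inv hc F hr]
  group

theorem elN_simple_sq (i : Fin D.rank) :
    elN D F (D.simple i.val) 1 * elN D F (D.simple i.val) 1 ∈ D.diagonalSubgroup F := by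
  obtain ⟨k, hk, f⟩ := nOne_inv hc (F := F) i
  set n := elN D F (D.simple i.val) (1 : F)
  rw [show n * n = (n⁻¹ * n⁻¹)⁻¹ by rw [mul_inv_rev, inv_inv], show n⁻¹ * n⁻¹ = k from (eq_mul_inv_of_mul_eq f.symm).symm]
  exact inv_mem hk

variable (hcomm : CommOne D T)
include hcomm

/-- the double coset axiom -/
theorem bn_axiom (i : Fin D.rank) {n b : GL D.Idx F} (hn : n ∈ D.monomialSubgroup F) (hb : b ∈ D.borelSubgroup F) :
    elN D F (D.simple i.val) 1 * b * n ∈
      DoubleCoset.doubleCoset (elN D F (D.simple i.val) 1 * n) (D.borelSubgroup F : Set (GL D.Idx F)) (D.borelSubgroup F) ∪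
      DoubleCoset.doubleCoset n (D.borelSubgroup F : Set (GL D.Idx F)) (D.borelSubgroup F) := by
  set s := elN D F (D.simple i.val) (1 : F) with hs
  set B := D.borelSubgroup F
  have hp := simple_lt hc i.2
  have hsN : s ∈ D.monomialSubgroup F := elN_mem_monomial hc hp
  obtain ⟨u, hu, h, hh, rfl⟩ := (mem_borel hc).1 hb
  obtain ⟨a, ha, t, rfl⟩ := pos_split_simple hc hcomm i hu
  have hsa : s * a * s⁻¹ ∈ B := pos_le_borel hc (uGen_mono (fun r _ h => h.1) (nOne_conj_comp hc i ha))
  have hn' : n⁻¹ * h * n ∈ B := diagonal_le_borel hc (by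
    simpa using monomial_conj_diagonal hc (inv_mem hn) hh)
  obtain ⟨v, c, hv, hvx, hvy⟩ := monomial_conj_elX hc (inv_mem hn) hp
  simp only [inv_inv] at hvx hvy
  by_cases hcase : D.nroots / 2 ≤ v ∨ t = 0
  · left
    rw [DoubleCoset.mem_doubleCoset]
    refine ⟨s * a * s⁻¹, hsa, n⁻¹ * elX D F (D.simple i.val) t * n * (n⁻¹ * h * n), mul_mem ?_ hn', ?_⟩
    · rw [hvx]
      rcases hcase with hpos | h0
      · exact elX_mem_borel hc hv hpos _
      · rw [h0, mul_zero, elX_zero hc F hv]; exact one_mem _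
    · group
  · push Not at hcase
    obtain ⟨hvneg, ht⟩ := hcase
    right
    have hne : (eta D T i (D.simple i.val) : F) ≠ 0 := by
      rcases eta_cast hc (F := F) i hp with e | e <;> simp [e]
    set b := (eta D T i (D.simple i.val) : F) * t
    have hb0 : b ≠ 0 := mul_ne_zero hne ht
    have h1 : s * elX D F (D.simple i.val) t * s⁻¹ = elX D F (D.neg (D.simple i.val)) b := by
      rw [hs, nOne_conj_elX hc i hp, sig_simple hc]
    have h2 := elN_div_mem hc (F := F) hp (a := -b⁻¹) (b := 1) (by simp [hb0]) one_ne_zero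
    rw [← hs] at h2
    -- the element n⁻¹ s x_p(1/b) s⁻¹ n lies in U
    have hsp : n⁻¹ * (s * elX D F (D.simple i.val) b⁻¹ * s⁻¹) * n ∈ B := by
      rw [hs, nOne_conj_elX hc i hp, sig_simple hc]
      obtain ⟨w, hw⟩ := hvy ((eta D T i (D.simple i.val) : F) * b⁻¹)
      rw [hw]
      refine elX_mem_borel hc (neg_lt hc hv) ?_ _
      have := neg_eq hc hv; have := nroots_eq_two_mul hc; omega
    have hss : n⁻¹ * (s * s) * n ∈ B := diagonal_le_borel hc (by
      simpa using monomial_conj_diagonal hc (inv_mem hn) (elN_simple_sq hc i))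
    have hsp' : n⁻¹ * (s * s)⁻¹ * (s * elX D F (D.simple i.val) b⁻¹ * s⁻¹) * (s * s) * n ∈ B := by
      rw [show n⁻¹ * (s * s)⁻¹ * (s * elX D F (D.simple i.val) b⁻¹ * s⁻¹) * (s * s) * n =
        (n⁻¹ * (s * s) * n)⁻¹ * (n⁻¹ * (s * elX D F (D.simple i.val) b⁻¹ * s⁻¹) * n) * (n⁻¹ * (s * s) * n) by group]
      exact mul_mem (mul_mem (inv_mem hss) hsp) hss
    rw [DoubleCoset.mem_doubleCoset]
    refine ⟨s * a * s⁻¹ * (elX D F (D.simple i.val) b⁻¹ * (elN D F (D.simple i.val) (-b⁻¹) * s⁻¹)),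
      mul_mem hsa (mul_mem (elX_mem_borel hc hp (half_le_simple hc i.2) _) (diagonal_le_borel hc h2)),
      (n⁻¹ * (s * s) * n) * (n⁻¹ * (s * s)⁻¹ * (s * elX D F (D.simple i.val) b⁻¹ * s⁻¹) * (s * s) * n) *
        (n⁻¹ * h * n), mul_mem (mul_mem hss hsp') hn', ?_⟩
    calc s * (a * elX D F (D.simple i.val) t * h) * n
        = s * a * s⁻¹ * (s * elX D F (D.simple i.val) t * s⁻¹) * s * h * n := by group
      _ = s * a * s⁻¹ * (elX D F (D.simple i.val) b⁻¹ * elN D F (D.simple i.val) (-b⁻¹) * elX D F (D.simple i.val) b⁻¹) *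
          s * h * n := by rw [h1, neg_elX_eq hc hp hb0]
      _ = _ := by group

theorem conj_borel_ne (i : Fin D.rank) :
    ∃ b ∈ D.borelSubgroup F, elN D F (D.simple i.val) 1 * b * elN D F (D.simple i.val) 1 ∉ D.borelSubgroup F := by
  have hp := simple_lt hc i.2
  set s := elN D F (D.simple i.val) (1 : F) with hs
  refine ⟨elX D F (D.simple i.val) 1, elX_mem_borel hc hp (half_le_simple hc i.2) _, fun h => ?_⟩
  have h' := mul_mem h (inv_mem (diagonal_le_borel hc (elN_simple_sq hc (F := F) i)))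
  rw [← hs, show s * elX D F (D.simple i.val) 1 * s * (s * s)⁻¹ = s * elX D F (D.simple i.val) 1 * s⁻¹ by group, hs,
    nOne_conj_elX hc i hp, sig_simple hc] at h'
  refine elX_not_mem_borel hc (neg_lt hc hp) ?_ ?_ h'
  · have := neg_eq hc hp; have := half_le_simple hc i.2; have := nroots_eq_two_mul hc; omega
  · rcases eta_cast hc (F := F) i hp with e | e <;> simp [e]

omit hcomm in
theorem elN_simple_inj {i j : Fin D.rank}
    (h : (elN D F (D.simple i.val) 1)⁻¹ * elN D F (D.simple j.val) 1 ∈ D.borelSubgroup F) : i = j := by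
  have hN : (elN D F (D.simple i.val) (1 : F))⁻¹ * elN D F (D.simple j.val) 1 ∈ D.monomialSubgroup F :=
    mul_mem (inv_mem (elN_mem_monomial hc (simple_lt hc i.2))) (elN_mem_monomial hc (simple_lt hc j.2))
  have hH := borel_inf_monomial hc h hN
  have hp := simple_lt hc i.2
  have e := sigs_eq_of_mem hc (F := F) (L := [j]) (M := [i]) (by
    have := nOne_conj_diagonal hc i hH
    simpa [nProd_cons] using this) hp
  by_contra hne
  have h1 := (sig_pos hc j hp (half_le_simple hc i.2) (fun e => hne (Fin.ext (simple_inj hc i.2 j.2 e)))).1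
  rw [show sig D T j (D.simple i.val) = sigs D T [j] (D.simple i.val) from rfl, e,
    show sigs D T [i] (D.simple i.val) = sig D T i (D.simple i.val) from rfl, sig_simple hc] at h1
  have := neg_eq hc hp; have := half_le_simple hc i.2; have := nroots_eq_two_mul hc; omega

/-- the (B, N)-pair -/
theorem exists_bnPair : ∃ P : Cfsg.BNPair ↥(D.group F),
    P.B = (D.borelSubgroup F).subgroupOf (D.group F) ∧ P.N = (D.monomialSubgroup F).subgroupOf (D.group F) ∧
    P.S = {n : ↥(D.group F) | ∃ i < D.rank, ((n : GL D.Idx F) : Matrix D.Idx D.Idx F) = D.nMat F (D.simple i) 1} := by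
  set G := D.group F
  set S := {n : ↥G | ∃ i < D.rank, ((n : GL D.Idx F) : Matrix D.Idx D.Idx F) = D.nMat F (D.simple i) 1}
  have hS : ∀ n ∈ S, ∃ i : Fin D.rank, (n : GL D.Idx F) = elN D F (D.simple i.val) 1 := by
    rintro n ⟨i, hi, hn⟩
    exact ⟨⟨i, hi⟩, by ext1; rw [hn, coe_elN hc (simple_lt hc hi)]⟩
  have hS' : ∀ i : Fin D.rank, (⟨_, elN_mem_group hc (simple_lt hc i.2) 1⟩ : ↥G) ∈ S := fun i =>
    ⟨i, i.2, coe_elN hc (simple_lt hc i.2) 1⟩
  refine ⟨{
    B := (D.borelSubgroup F).subgroupOf G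
    N := (D.monomialSubgroup F).subgroupOf G
    S := S
    sup_eq_top := ?_
    conj_mem := ?_
    subset := ?_
    sq_mem := ?_
    inj := ?_
    closure_sup := ?_
    mul_mem_union := ?_
    conj_ne := ?_ }, rfl, rfl, rfl⟩
  · rw [← Subgroup.subgroupOf_sup (borel_le_group hc) (monomial_le_group hc), borel_sup_monomial hc,
      Subgroup.subgroupOf_self]
  · rintro n hn t ⟨htB, htN⟩
    rw [Subgroup.mem_subgroupOf] at hn ⊢
    exact diagonal_le_borel hc (monomial_conj_diagonal hc hn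
      (borel_inf_monomial hc (Subgroup.mem_subgroupOf.1 htB) (Subgroup.mem_subgroupOf.1 htN)))
  · intro n hn
    obtain ⟨i, e⟩ := hS n hn
    rw [SetLike.mem_coe, Subgroup.mem_subgroupOf, e]
    exact elN_mem_monomial hc (simple_lt hc i.2)
  · intro n hn
    obtain ⟨i, e⟩ := hS n hn
    rw [Subgroup.mem_subgroupOf, Subgroup.coe_mul, e]
    exact diagonal_le_borel hc (elN_simple_sq hc i)
  · intro n hn m hm h
    obtain ⟨i, ei⟩ := hS n hn
    obtain ⟨j, ej⟩ := hS m hm
    rw [Subgroup.mem_subgroupOf, Subgroup.coe_mul, Subgroup.coe_inv, ei, ej] at h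
    rw [elN_simple_inj hc h] at ei
    exact Subtype.ext (ei.trans ej.symm)
  · apply le_antisymm
    · refine sup_le ((Subgroup.closure_le _).2 ?_) inf_le_right
      intro n hn
      obtain ⟨i, e⟩ := hS n hn
      rw [SetLike.mem_coe, Subgroup.mem_subgroupOf, e]
      exact elN_mem_monomial hc (simple_lt hc i.2)
    · intro n hn
      obtain ⟨h, hh, L, e⟩ := monomial_cases hc (Subgroup.mem_subgroupOf.1 hn)
      have hnL : nProd D F L ∈ G := monomial_le_group hc (nProd_mem_monomial hc L)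
      have key : (⟨_, hnL⟩ : ↥G) ∈ Subgroup.closure S := by
        clear e
        induction L with
        | nil => exact one_mem (Subgroup.closure S)
        | cons i L ih =>
            have := mul_mem (Subgroup.subset_closure (hS' i)) (ih (monomial_le_group hc (nProd_mem_monomial hc L)))
            exact this
      have hhG := diagonal_le_group hc hh
      rw [show n = (⟨h, hhG⟩ : ↥G) * ⟨_, hnL⟩ from Subtype.ext e]
      refine mul_mem (Subgroup.mem_sup_right ⟨?_, ?_⟩) (Subgroup.mem_sup_left key)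
      · exact Subgroup.mem_subgroupOf.2 (diagonal_le_borel hc hh)
      · exact Subgroup.mem_subgroupOf.2 (diagonal_le_monomial hc hh)
  · intro n hn m hm b hb
    obtain ⟨i, e⟩ := hS n hn
    have key := bn_axiom hc hcomm i (Subgroup.mem_subgroupOf.1 hm) (Subgroup.mem_subgroupOf.1 hb)
    rcases key with key | key <;> rw [DoubleCoset.mem_doubleCoset] at key <;>
      obtain ⟨x, hx, y, hy, h⟩ := key
    · left
      rw [DoubleCoset.mem_doubleCoset]
      refine ⟨⟨x, borel_le_group hc hx⟩, Subgroup.mem_subgroupOf.2 hx, ⟨y, borel_le_group hc hy⟩,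
        Subgroup.mem_subgroupOf.2 hy, Subtype.ext ?_⟩
      simp only [Subgroup.coe_mul]; rw [e]; exact h
    · right
      rw [DoubleCoset.mem_doubleCoset]
      refine ⟨⟨x, borel_le_group hc hx⟩, Subgroup.mem_subgroupOf.2 hx, ⟨y, borel_le_group hc hy⟩,
        Subgroup.mem_subgroupOf.2 hy, Subtype.ext ?_⟩
      simp only [Subgroup.coe_mul]; rw [e]; exact h
  · intro n hn hEq
    obtain ⟨i, e⟩ := hS n hn
    obtain ⟨b, hb, hbad⟩ := conj_borel_ne hc hcomm (F := F) i
    have : n * ⟨b, borel_le_group hc hb⟩ * n ∈ (((D.borelSubgroup F).subgroupOf G : Subgroup ↥G) : Set ↥G) :=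
      hEq ▸ ⟨⟨b, borel_le_group hc hb⟩, Subgroup.mem_subgroupOf.2 hb, rfl⟩
    rw [SetLike.mem_coe, Subgroup.mem_subgroupOf, Subgroup.coe_mul, Subgroup.coe_mul, e] at this
    exact hbad this

end

end CfsgLib.Chev
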