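import Cfsg.Agent.Lib.Chev.UWord
/-
The Bruhat decomposition with uniqueness of expression, inside GL.
-/
set_option autoImplicit false
set_option linter.unusedSectionVars false

namespace CfsgLib.Chev

open Cfsg.Lie
open scoped Matrix

variable {D : ChevalleyDatum} {T : Tabs} {F : Type*} [Field F]

/-- the positive roots made negative by a product of fundamental reflections -/
def InvRoot (D : ChevalleyDatum) (T : Tabs) (L : List (Fin D.rank)) (r : ℕ) : Prop :=
  D.nroots / 2 ≤ r ∧ sigs D T L r < D.nroots / 2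

/-- the positive roots kept positive by a product of fundamental reflections -/
def KeepRoot (D : ChevalleyDatum) (T : Tabs) (L : List (Fin D.rank)) (r : ℕ) : Prop :=
  D.nroots / 2 ≤ r ∧ D.nroots / 2 ≤ sigs D T L r

/-- the subgroup U_w^- -/
def uInv (D : ChevalleyDatum) (T : Tabs) (F : Type*) [Field F] (L : List (Fin D.rank)) : Subgroup (GL D.Idx F) :=
  uGen D F (InvRoot D T L)

/-- the big product B n U_w^- -/
def bigCells (D : ChevalleyDatum) (T : Tabs) (F : Type*) [Field F] : Set (GL D.Idx F) :=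
  {g | ∃ b ∈ D.borelSubgroup F, ∃ n ∈ D.monomialSubgroup F, ∃ b' ∈ D.borelSubgroup F, g = b * n * b'}

section
variable (hc : Checked D T)
include hc

theorem keyLin_sigs (L : List (Fin D.rank)) {r s v : ℕ} (hr : r < D.nroots) (hs : s < D.nroots) (hv : v < D.nroots)
    {i j : ℤ} (e : rv D T v = i • rv D T r + j • rv D T s) :
    keyLin D (rv D T (sigs D T L v)) =
      i * keyLin D (rv D T (sigs D T L r)) + j * keyLin D (rv D T (sigs D T L s)) := by
  rw [rv_sigs hc L hv, rv_sigs hc L hr, rv_sigs hc L hs, e, refls_add, refls_smul, refls_smul, keyLin_add,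
    keyLin_smul, keyLin_smul]

theorem closedPos_inv (L : List (Fin D.rank)) : ClosedPos D T (InvRoot D T L) := by
  refine ⟨fun r _ h => h.1, fun r s v hr hs h1 h2 hv => ⟨(closedPos_pos hc).2 r s v hr hs h1.1 h2.1 hv, ?_⟩⟩
  obtain ⟨hvn, i, j, hi, hj, e⟩ := hv
  rw [← key_neg_iff hc (sigs_lt hc L hvn), keyLin_sigs hc L hr hs hvn e]
  have g1 := (key_neg_iff hc (sigs_lt hc L hr)).2 h1.2
  have g2 := (key_neg_iff hc (sigs_lt hc L hs)).2 h2.2
  have hi' : (0 : ℤ) < i := by exact_mod_cast hi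
  have hj' : (0 : ℤ) < j := by exact_mod_cast hj
  nlinarith

theorem closedPos_keep (L : List (Fin D.rank)) : ClosedPos D T (KeepRoot D T L) := by
  refine ⟨fun r _ h => h.1, fun r s v hr hs h1 h2 hv => ⟨(closedPos_pos hc).2 r s v hr hs h1.1 h2.1 hv, ?_⟩⟩
  obtain ⟨hvn, i, j, hi, hj, e⟩ := hv
  rw [← key_pos_iff hc (sigs_lt hc L hvn), keyLin_sigs hc L hr hs hvn e]
  have g1 := (key_pos_iff hc (sigs_lt hc L hr)).2 h1.2
  have g2 := (key_pos_iff hc (sigs_lt hc L hs)).2 h2.2
  have hi' : (0 : ℤ) < i := by exact_mod_cast hi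
  have hj' : (0 : ℤ) < j := by exact_mod_cast hj
  nlinarith

/-- elements with the same action on roots agree modulo H -/
theorem nProd_div_mem {L M : List (Fin D.rank)} (h : ∀ r, r < D.nroots → sigs D T L r = sigs D T M r) :
    nProd D F L * (nProd D F M)⁻¹ ∈ D.diagonalSubgroup F := by
  obtain ⟨k, hk, e⟩ := nProd_inv hc (F := F) M
  rw [e, show nProd D F L * (k * nProd D F M.reverse) =
    (nProd D F L * k * (nProd D F L)⁻¹) * (nProd D F L * nProd D F M.reverse) by group, ← nProd_append]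
  refine mul_mem (nProd_conj_diagonal hc L hk) (monomial_fix hc fun r hr => ?_)
  rw [sigs_append, h _ (sigs_lt hc _ hr)]
  have := sigs_reverse hc M.reverse hr
  rwa [List.reverse_reverse] at this

/-- the weight shift of the monomial matrices -/
theorem nProd_weight (L : List (Fin D.rank)) {x y : D.Idx}
    (h : ((nProd D F L : GL D.Idx F) : Matrix D.Idx D.Idx F) x y ≠ 0) : wI D T x = refls D L (wI D T y) := by
  induction L generalizing x with
  | nil =>
      by_cases e : x = y
      · subst e; rfl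
      · exact absurd (by rw [nProd_nil, Units.val_one, Matrix.one_apply_ne e]) h
  | cons i L ih =>
      rw [nProd_cons, Units.val_mul, Matrix.mul_apply] at h
      obtain ⟨z, -, hz⟩ := Finset.exists_ne_zero_of_sum_ne_zero h
      have h1 : nZ D T (D.simple i.val) x z ≠ 0 := fun e => left_ne_zero_of_mul hz (by
        rw [coe_elN_simple_one hc i, Matrix.map_apply, e, map_zero])
      rw [nZ_weight hc i h1, ih (right_ne_zero_of_mul hz)]
      rfl

theorem eq_inr_of_weight {x : D.Idx} {r : ℕ} (hr : r < D.nroots) (h : wI D T x = rv D T r) : x = Sum.inr ⟨r, hr⟩ := by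
  rcases x with j | u
  · rw [wI_inl] at h; exact absurd h.symm (rv_ne_zero hc hr)
  · rw [wI_inr] at h
    exact congrArg Sum.inr (Fin.ext (rv_inj hc u.2 hr h))

theorem torus_weight (χ : Fin D.rank → Fˣ) (L : List (Fin D.rank)) {x y : D.Idx}
    (h : ((torus D T F χ * nProd D F L : GL D.Idx F) : Matrix D.Idx D.Idx F) x y ≠ 0) :
    wI D T x = refls D L (wI D T y) := by
  rw [Units.val_mul, coe_torus, Matrix.diagonal_mul] at h
  exact nProd_weight hc L (right_ne_zero_of_mul h)

/-- the basic inequality behind the uniqueness of the Bruhat cell -/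
theorem key_le_of_eq {L M : List (Fin D.rank)} {χ ψ : Fin D.rank → Fˣ} {a b : GL D.Idx F}
    (ha : a ∈ uGen D F (fun r => D.nroots / 2 ≤ r)) (hb : b ∈ uGen D F (fun r => D.nroots / 2 ≤ r))
    (e : a * (torus D T F χ * nProd D F L) = torus D T F ψ * nProd D F M * b) {r : ℕ} (hr : r < D.nroots) :
    keyLin D (rv D T (sigs D T L r)) ≤ keyLin D (rv D T (sigs D T M r)) := by
  set n := torus D T F χ * nProd D F L
  set m := torus D T F ψ * nProd D F M
  have hA := raises_uGen hc (keyLin_add (D := D)) (keyLin_smul (D := D)) (d := 1) (by norm_num)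
    (fun r hr hp => by have := (key_pos_iff hc hr).2 hp; omega) ha
  have hB := raises_uGen hc (keyLin_add (D := D)) (keyLin_smul (D := D)) (d := 1) (by norm_num)
    (fun r hr hp => by have := (key_pos_iff hc hr).2 hp; omega) hb
  set y : D.Idx := Sum.inr ⟨r, hr⟩
  set x : D.Idx := Sum.inr ⟨sigs D T M r, sigs_lt hc M hr⟩
  set x' : D.Idx := Sum.inr ⟨sigs D T L r, sigs_lt hc L hr⟩
  have hy : ∀ z, (m : Matrix D.Idx D.Idx F) x z ≠ 0 → z = y := by
    intro z hz
    have h1 : wI D T x = refls D M (wI D T z) := torus_weight hc ψ M hz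
    apply eq_inr_of_weight hc hr
    rw [show wI D T x = rv D T (sigs D T M r) from wI_inr _, rv_sigs hc M hr] at h1
    have inv : ∀ (N : List (Fin D.rank)) v w, refls D N v = refls D N w → v = w := by
      intro N
      induction N with
      | nil => exact fun v w h => h
      | cons i N ih =>
          intro v w h
          have h' := congrArg (refl D i) (show refl D i (refls D N v) = refl D i (refls D N w) from h)
          rw [refl_refl hc, refl_refl hc] at h'
          exact ih v w h'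
    exact (inv M _ _ h1).symm
  have hx : ∀ z, (n : Matrix D.Idx D.Idx F) z y ≠ 0 → z = x' := fun z hz => by
    apply eq_inr_of_weight hc (sigs_lt hc L hr)
    rw [torus_weight hc χ L hz, rv_sigs hc L hr]; rfl
  have hmne : (m : Matrix D.Idx D.Idx F) x y ≠ 0 := by
    intro h0
    have hrow : ∀ z, (m : Matrix D.Idx D.Idx F) x z = 0 := fun z => by
      by_contra hz
      exact hz (hy z hz ▸ h0)
    have h1 : ((m * m⁻¹ : GL D.Idx F) : Matrix D.Idx D.Idx F) x x = 0 := by
      rw [Units.val_mul, Matrix.mul_apply]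
      exact Finset.sum_eq_zero fun z _ => by rw [hrow z, zero_mul]
    rw [mul_inv_cancel, Units.val_one, Matrix.one_apply_eq] at h1
    exact one_ne_zero h1
  have e' := congrArg (fun g : GL D.Idx F => (g : Matrix D.Idx D.Idx F) x y) e
  simp only [Units.val_mul, Matrix.mul_apply] at e'
  rw [Finset.sum_eq_single x', Finset.sum_eq_single y] at e'
  · have hb1 : (b : Matrix D.Idx D.Idx F) y y = 1 := by
      by_contra h; have := hB y y (by rwa [Matrix.one_apply_eq]); omega
    rw [hb1, mul_one] at e'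
    have hne : (a : Matrix D.Idx D.Idx F) x x' ≠ 0 := fun h => hmne (by rw [← e', h, zero_mul])
    by_cases hxx : x = x'
    · simp only [x, x', Sum.inr.injEq, Fin.mk.injEq] at hxx
      rw [hxx]
    · have := hA x x' (by rwa [Matrix.one_apply_ne hxx])
      rw [show wI D T x = rv D T (sigs D T M r) from wI_inr _, show wI D T x' = rv D T (sigs D T L r) from wI_inr _]
        at this
      omega
  · intro z _ hz
    rw [show (m : Matrix D.Idx D.Idx F) x z = 0 from by_contra fun h => hz (hy z h), zero_mul]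
  · simp
  · intro z _ hz
    rw [show (n : Matrix D.Idx D.Idx F) z y = 0 from by_contra fun h => hz (hx z h), mul_zero]
  · simp

theorem nProd_conj_uInv (L : List (Fin D.rank)) {v : GL D.Idx F} (hv : v ∈ uInv D T F L) :
    nProd D F L * v * (nProd D F L)⁻¹ ∈ uGen D F (fun r => r < D.nroots / 2) := by
  induction hv using Subgroup.closure_induction with
  | mem x hx =>
      obtain ⟨r, t, hr, hP, rfl⟩ := hx
      obtain ⟨c, -, hcx⟩ := nProd_conj_elX hc (F := F) L hr
      rw [hcx]
      exact elX_mem_uGen (sigs_lt hc L hr) hP.2 _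
  | one => simp
  | mul x y _ _ hx hy =>
      rw [show ∀ n : GL D.Idx F, n * (x * y) * n⁻¹ = (n * x * n⁻¹) * (n * y * n⁻¹) from fun n => by group]
      exact mul_mem hx hy
  | inv x _ hx =>
      rw [show ∀ n : GL D.Idx F, n * x⁻¹ * n⁻¹ = (n * x * n⁻¹)⁻¹ from fun n => by group]
      exact inv_mem hx

theorem nProd_conj_keep (L : List (Fin D.rank)) {v : GL D.Idx F} (hv : v ∈ uGen D F (KeepRoot D T L)) :
    nProd D F L * v * (nProd D F L)⁻¹ ∈ uGen D F (fun r => D.nroots / 2 ≤ r) := by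
  induction hv using Subgroup.closure_induction with
  | mem x hx =>
      obtain ⟨r, t, hr, hP, rfl⟩ := hx
      obtain ⟨c, -, hcx⟩ := nProd_conj_elX hc (F := F) L hr
      rw [hcx]
      exact elX_mem_uGen (sigs_lt hc L hr) hP.2 _
  | one => simp
  | mul x y _ _ hx hy =>
      rw [show ∀ n : GL D.Idx F, n * (x * y) * n⁻¹ = (n * x * n⁻¹) * (n * y * n⁻¹) from fun n => by group]
      exact mul_mem hx hy
  | inv x _ hx =>
      rw [show ∀ n : GL D.Idx F, n * x⁻¹ * n⁻¹ = (n * x * n⁻¹)⁻¹ from fun n => by group]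
      exact inv_mem hx

theorem uInv_le_pos (L : List (Fin D.rank)) : uInv D T F L ≤ uGen D F (fun r => D.nroots / 2 ≤ r) :=
  uGen_mono fun _ _ h => h.1

theorem uInv_congr {L M : List (Fin D.rank)} (h : ∀ r, r < D.nroots → sigs D T L r = sigs D T M r) :
    uInv D T F L = uInv D T F M := uGen_congr fun r hr => by simp only [InvRoot, h r hr]

/-- uniqueness of the Bruhat expression u n v -/
theorem bruhat_unique {L M : List (Fin D.rank)} {h k u u' v v' : GL D.Idx F}
    (hh : h ∈ D.diagonalSubgroup F) (hk : k ∈ D.diagonalSubgroup F)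
    (hu : u ∈ uGen D F (fun r => D.nroots / 2 ≤ r)) (hu' : u' ∈ uGen D F (fun r => D.nroots / 2 ≤ r))
    (hv : v ∈ uInv D T F L) (hv' : v' ∈ uInv D T F M)
    (e : u * (h * nProd D F L) * v = u' * (k * nProd D F M) * v') :
    (∀ r, r < D.nroots → sigs D T L r = sigs D T M r) ∧ u = u' ∧ v = v' ∧ h * nProd D F L = k * nProd D F M := by
  obtain ⟨c, hcdef⟩ := (mem_diagonal hc).1 hh
  obtain ⟨d, hddef⟩ := (mem_diagonal hc).1 hk
  have hvU := uInv_le_pos hc L hv
  have hvU' := uInv_le_pos hc M hv'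
  have e1 : (u'⁻¹ * u) * (h * nProd D F L) = k * nProd D F M * (v' * v⁻¹) := by
    calc (u'⁻¹ * u) * (h * nProd D F L) = u'⁻¹ * (u * (h * nProd D F L) * v) * v⁻¹ := by group
      _ = u'⁻¹ * (u' * (k * nProd D F M) * v') * v⁻¹ := by rw [e]
      _ = _ := by group
  have e2 : (u⁻¹ * u') * (k * nProd D F M) = h * nProd D F L * (v * v'⁻¹) := by
    calc (u⁻¹ * u') * (k * nProd D F M) = u⁻¹ * (u' * (k * nProd D F M) * v') * v'⁻¹ := by group
      _ = u⁻¹ * (u * (h * nProd D F L) * v) * v'⁻¹ := by rw [e]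
      _ = _ := by group
  rw [← hcdef, ← hddef] at e1 e2
  have hsig : ∀ r, r < D.nroots → sigs D T L r = sigs D T M r := by
    intro r hr
    have g1 := key_le_of_eq hc (mul_mem (inv_mem hu') hu) (mul_mem hvU' (inv_mem hvU)) e1 hr
    have g2 := key_le_of_eq hc (mul_mem (inv_mem hu) hu') (mul_mem hvU (inv_mem hvU')) e2 hr
    rcases lt_trichotomy (sigs D T L r) (sigs D T M r) with g | g | g
    · have := (key_lt_iff hc (sigs_lt hc L hr) (sigs_lt hc M hr)).2 g; omega
    · exact g
    · have := (key_lt_iff hc (sigs_lt hc M hr) (sigs_lt hc L hr)).2 g; omega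
  refine ⟨hsig, ?_⟩
  have hm := nProd_div_mem hc (F := F) hsig
  rw [← uInv_congr hc hsig] at hv'
  set n := nProd D F L
  set m := nProd D F M
  -- conjugating v v'⁻¹ by n lands in B and in V
  have hB : n * (v * v'⁻¹) * n⁻¹ ∈ D.borelSubgroup F := by
    have : n * (v * v'⁻¹) * n⁻¹ = h⁻¹ * u⁻¹ * (u' * (k * (n * m⁻¹)⁻¹)) := by
      calc n * (v * v'⁻¹) * n⁻¹ = h⁻¹ * u⁻¹ * (u * (h * n) * v) * v'⁻¹ * n⁻¹ := by group
        _ = h⁻¹ * u⁻¹ * (u' * (k * m) * v') * v'⁻¹ * n⁻¹ := by rw [e]
        _ = _ := by group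
    rw [this]
    exact mul_mem (mul_mem (inv_mem (diagonal_le_borel hc hh)) (inv_mem (pos_le_borel hc hu)))
      (mul_mem (pos_le_borel hc hu') (diagonal_le_borel hc (mul_mem hk (inv_mem hm))))
  have h1 := borel_inf_neg hc hB (nProd_conj_uInv hc L (mul_mem hv (inv_mem hv')))
  have hvv : v = v' := by
    rwa [conj_eq_one_iff, mul_inv_eq_one] at h1
  subst hvv
  have e3 : u'⁻¹ * u = k * (n * m⁻¹)⁻¹ * h⁻¹ := by
    calc u'⁻¹ * u = u'⁻¹ * (u * (h * n) * v) * v⁻¹ * n⁻¹ * h⁻¹ := by group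
      _ = u'⁻¹ * (u' * (k * m) * v) * v⁻¹ * n⁻¹ * h⁻¹ := by rw [e]
      _ = _ := by group
  have h2 := pos_inf_diag hc (mul_mem (inv_mem hu') hu) (e3 ▸ mul_mem (mul_mem hk (inv_mem hm)) (inv_mem hh))
  have huu : u = u' := (inv_mul_eq_one.1 h2).symm
  refine ⟨huu, rfl, ?_⟩
  subst huu
  exact mul_left_cancel (mul_right_cancel e)

variable (hcomm : CommOne D T)
include hcomm

theorem group_subset_bigCells {g : GL D.Idx F} (hg : g ∈ D.group F) : g ∈ bigCells D T F := by
  have hgen : D.group F ≤ Subgroup.closure ((D.borelSubgroup F : Set (GL D.Idx F)) ∪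
      Set.range fun i : Fin D.rank => elN D F (D.simple i.val) (1 : F)) := by
    rw [← borel_sup_monomial hc]
    refine sup_le (fun x hx => Subgroup.subset_closure (Or.inl hx)) ?_
    intro x hx
    obtain ⟨h, hh, L, rfl⟩ := monomial_cases hc hx
    refine mul_mem (Subgroup.subset_closure (Or.inl (diagonal_le_borel hc hh))) (Subgroup.list_prod_mem _ fun y hy => ?_)
    obtain ⟨i, -, rfl⟩ := List.mem_map.1 hy
    exact Subgroup.subset_closure (Or.inr ⟨i, rfl⟩)
  have step : ∀ i : Fin D.rank, ∀ y ∈ bigCells D T F, elN D F (D.simple i.val) (1 : F) * y ∈ bigCells D T F := by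
    rintro i y ⟨b, hb, n, hn, b', hb', rfl⟩
    rcases bn_axiom hc hcomm i hn hb with h | h <;> obtain ⟨x, hx, z, hz, e⟩ := DoubleCoset.mem_doubleCoset.1 h
    · exact ⟨x, hx, _, mul_mem (elN_mem_monomial hc (simple_lt hc i.2)) hn, z * b', mul_mem hz hb',
        by rw [show ∀ s : GL D.Idx F, s * (b * n * b') = s * b * n * b' from fun s => by group, e]; group⟩
    · exact ⟨x, hx, n, hn, z * b', mul_mem hz hb',
        by rw [show ∀ s : GL D.Idx F, s * (b * n * b') = s * b * n * b' from fun s => by group, e]; group⟩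
  have hBl : ∀ x ∈ D.borelSubgroup F, ∀ y ∈ bigCells D T F, x * y ∈ bigCells D T F := by
    rintro x hx y ⟨b, hb, n, hn, b', hb', rfl⟩
    exact ⟨x * b, mul_mem hx hb, n, hn, b', hb', by group⟩
  have h1 : (1 : GL D.Idx F) ∈ bigCells D T F := ⟨1, one_mem _, 1, one_mem _, 1, one_mem _, by group⟩
  refine Subgroup.closure_induction_left h1 ?_ ?_ (hgen hg)
  · rintro x (hx | ⟨i, rfl⟩) y - hy
    · exact hBl x hx y hy
    · exact step i y hy
  · rintro x (hx | ⟨i, rfl⟩) y - hy
    · exact hBl _ (inv_mem hx) y hy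
    · obtain ⟨k, hk, f⟩ := nOne_inv hc (F := F) i
      rw [f, mul_assoc]
      exact hBl k (diagonal_le_borel hc hk) _ (step i y hy)

/-- existence of the Bruhat expression -/
theorem exists_bruhat {g : GL D.Idx F} (hg : g ∈ D.group F) :
    ∃ u ∈ uGen D F (fun r => D.nroots / 2 ≤ r), ∃ h ∈ D.diagonalSubgroup F, ∃ L : List (Fin D.rank),
      ∃ v ∈ uInv D T F L, g = u * (h * nProd D F L) * v := by
  obtain ⟨b, hb, n, hn, b', hb', rfl⟩ := group_subset_bigCells hc hcomm hg
  obtain ⟨u, hu, h₁, hh₁, rfl⟩ := (mem_borel hc).1 hb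
  obtain ⟨h₂, hh₂, L, rfl⟩ := monomial_cases hc hn
  obtain ⟨u₂, hu₂, h₃, hh₃, rfl⟩ := (mem_borel hc).1 hb'
  have hw : h₃⁻¹ * u₂ * h₃ ∈ uGen D F (fun r => D.nroots / 2 ≤ r) := diag_conj_mem' hc _ hh₃ hu₂
  obtain ⟨a, ha, v, hv, e⟩ := uGen_split hc hcomm (closedPos_pos hc) (Q := KeepRoot D T L) (R := InvRoot D T L)
    (fun r hr hp => by
      rcases Nat.lt_or_ge (sigs D T L r) (D.nroots / 2) with g | g
      · exact Or.inr ⟨hp, g⟩
      · exact Or.inl ⟨hp, g⟩) hw
  set n := nProd D F L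
  have hk := nProd_conj_diagonal hc (F := F) L hh₃
  set k := h₁ * h₂ * (n * h₃ * n⁻¹) with hkdef
  have hkH : k ∈ D.diagonalSubgroup F := mul_mem (mul_mem hh₁ hh₂) hk
  refine ⟨u * (k * (n * a * n⁻¹) * k⁻¹), mul_mem hu (diag_conj_mem hc _ hkH (nProd_conj_keep hc L ha)), k, hkH, L, v, hv, ?_⟩
  calc u * h₁ * (h₂ * n) * (u₂ * h₃) = u * (h₁ * h₂ * (n * h₃ * n⁻¹)) * n * (h₃⁻¹ * u₂ * h₃) := by group
    _ = u * k * n * (a * v) := by rw [e, ← hkdef]
    _ = _ := by simp only [n]; group

end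

end CfsgLib.Chev
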