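import Cfsg.Agent.Lib.Chev.Code
/-
The boolean checks that are run (by the kernel) on the packed tables of each of the seven Chevalley data.
-/
set_option autoImplicit false

namespace CfsgLib.Chev

open Cfsg.Lie

/-- Packed tables attached to a datum: `t1`, `t2`, `t3` the rows of ad(e_a) and of its divided powers, `mt` the
coordinates of the roots on the fundamental roots, `ct` those of the coroots on the fundamental coroots. -/
structure Tabs : Type where
  t1 : Trie
  t2 : Trie
  t3 : Trie
  mt : Trie
  ct : Trie

variable (D : ChevalleyDatum) (T : Tabs)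

/-- size of the basis -/
noncomputable def dimN : ℕ := Nat.add D.nroots D.rank

/-- entry `i` of the packed vector at `a` of a trie (offset 8) -/
noncomputable def digit (t : Trie) (a i : ℕ) : ℤ := Int.subNatNat (field (t.get a) i) 8

/-- weight coordinate `i` of basis vector `a` -/
noncomputable def wt (a i : ℕ) : ℤ := cond (Nat.blt a D.nroots) (digit T.mt a i) 0

/-- coroot coordinate `i` of root `a` -/
noncomputable def cv (a i : ℕ) : ℤ := digit T.ct a i

/-- the coroot of root `a` as a sparse vector -/
noncomputable def corVec (a : ℕ) : List (ℕ × ℤ) :=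
  Nat.rec (motive := fun _ => List (ℕ × ℤ)) [] (fun i ih => (Nat.add D.nroots i, cv T a i) :: ih) D.rank

/-- a code is the marker of a coroot -/
noncomputable def isMarker (code : ℕ) : Bool := cond (Nat.beq code 0) false (Nat.beq (Nat.mod code 16) 0)

/-- the index of a code -/
noncomputable def codeIdx (code : ℕ) : ℕ := Nat.div code 16

/-- the coefficient of a code -/
noncomputable def codeVal (code : ℕ) : ℤ := cond (Nat.beq code 0) 0 (Int.subNatNat (Nat.mod code 16) 8)

/-- the sparse vector of a code -/
noncomputable def decCode (code : ℕ) : List (ℕ × ℤ) :=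
  cond (Nat.beq code 0) [] (cond (Nat.beq (Nat.mod code 16) 0) (corVec D T (Nat.sub (codeIdx code) 1))
    [(codeIdx code, Int.subNatNat (Nat.mod code 16) 8)])

/-- the Cartan integer of fundamental root `i` and root `c`, from the table -/
noncomputable def cval (i c : ℕ) : ℤ := codeVal (field (T.t1.get (Nat.add D.nroots i)) c)

/-- apply the map with packed row `row` to a sparse vector -/
noncomputable def applyRow (row : ℕ) (L : List (ℕ × ℤ)) : List (ℕ × ℤ) :=
  List.rec (motive := fun _ => List (ℕ × ℤ)) []
    (fun p _ ih => cat (scaleVec p.2 (decCode D T (field row p.1))) ih) L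

/-- the weighted rows of a sparse vector -/
noncomputable def rowsOf (t : Trie) (L : List (ℕ × ℤ)) : List (ℕ × ℤ) :=
  List.rec (motive := fun _ => List (ℕ × ℤ)) [] (fun p _ ih => (t.get p.1, p.2) :: ih) L

/-- Σ x·(column `c` of row) over weighted rows -/
noncomputable def sumRows (R : List (ℕ × ℤ)) (c : ℕ) : List (ℕ × ℤ) :=
  List.rec (motive := fun _ => List (ℕ × ℤ)) []
    (fun p _ ih => cat (scaleVec p.2 (decCode D T (field p.1 c))) ih) R

/-- union of the supports of weighted rows -/
noncomputable def orRows (R : List (ℕ × ℤ)) : ℕ :=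
  List.rec (motive := fun _ => ℕ) 0 (fun p _ ih => Nat.lor p.1 ih) R

/-- [e_p,[e_b,e_c]] − [e_b,[e_p,e_c]] − [[e_p,e_b],e_c] = 0 for all `c` -/
noncomputable def derivPair (rp rb : ℕ) (rows : List (ℕ × ℤ)) : Bool :=
  allNat (dimN D) fun c => cond (Nat.beq (field (Nat.lor (Nat.lor rp rb) (orRows rows)) c) 0) true
    (isZeroVec (cat (applyRow D T rp (decCode D T (field rb c)))
      (scaleVec (-1) (cat (applyRow D T rb (decCode D T (field rp c))) (sumRows D T rows c)))))

/-- e_p acts as a derivation -/
noncomputable def derivCheck (p : ℕ) : Bool :=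
  allNat (dimN D) fun b =>
    derivPair D T (T.t1.get p) (T.t1.get b) (rowsOf T.t1 (decCode D T (field (T.t1.get p) b)))

/-- code of `v·e_u` for `v ≠ 0` -/
noncomputable def encNZ (u : ℕ) (v : ℤ) : ℕ := Nat.add (Nat.mul u 16) (Int.toNat (Int.add v 8))

/-- code of `v·e_u` -/
noncomputable def encZ (u : ℕ) (v : ℤ) : ℕ := cond (decide (v = 0)) 0 (encNZ u v)

/-- code of entry `k` (1-based) of a chain -/
noncomputable def entryCode (L : List (ℕ × ℤ)) : ℕ → ℕ :=
  List.rec (motive := fun _ => ℕ → ℕ) (fun _ => 0)
    (fun q _ ih k => cond (Nat.beq k 1) (encNZ q.1 q.2) (ih (Nat.sub k 1))) L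

/-- (column, code) pairs of entry `k` in the chains of a root -/
noncomputable def chainItems (k : ℕ) (E : List (ℕ × Array (ℕ × ℤ))) : List (ℕ × ℕ) :=
  List.rec (motive := fun _ => List (ℕ × ℕ)) [] (fun e _ ih => (e.1, entryCode e.2.toList k) :: ih) E

/-- h-columns of a root row, read back from the table -/
noncomputable def hItems (row : ℕ) : List (ℕ × ℕ) :=
  Nat.rec (motive := fun _ => List (ℕ × ℕ)) []
    (fun i ih => (Nat.add D.nroots i, field row (Nat.add D.nroots i)) :: ih) D.rank

/-- one entry of a chain is well formed -/
noncomputable def goodTerm (q : ℕ × ℤ) : Bool :=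
  cond (Nat.blt q.1 D.nroots) (cond (decide (q.2 = 0)) false (cond (decide (-7 ≤ q.2)) (decide (q.2 ≤ 7)) false)) false

/-- the keys of the chains of root `a` increase and avoid `a` and its negative -/
noncomputable def keysOK (a : ℕ) (E : List (ℕ × Array (ℕ × ℤ))) : ℕ → Bool :=
  List.rec (motive := fun _ => ℕ → Bool) (fun _ => true)
    (fun e _ ih low =>
      cond (Nat.ble low e.1)
        (cond (Nat.blt e.1 D.nroots)
          (cond (Nat.beq e.1 a) false
            (cond (Nat.beq e.1 (Nat.sub D.nroots (Nat.add a 1))) false
              (cond (Nat.ble e.2.toList.length 3) (cond (allList (goodTerm D) e.2.toList) (ih (Nat.succ e.1)) false) false)))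
          false)
        false) E

/-- the chains of root `a` agree with the tables -/
noncomputable def chainOK (a : ℕ) (E : List (ℕ × Array (ℕ × ℤ))) : Bool :=
  cond (keysOK D a E 0)
    (cond (Nat.beq (T.t1.get a) (Nat.lor (pack (chainItems 1 E))
        (pack ((Nat.sub D.nroots (Nat.add a 1), Nat.mul (Nat.add a 1) 16) :: hItems D (T.t1.get a)))))
      (cond (Nat.beq (T.t2.get a) (Nat.lor (pack (chainItems 2 E))
          (pack [(Nat.sub D.nroots (Nat.add a 1), encNZ a (-1))])))
        (Nat.beq (T.t3.get a) (pack (chainItems 3 E))) false) false) false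

/-- all chains agree with the tables -/
noncomputable def chainCheck : Bool :=
  cond (Nat.beq D.chain.toList.length D.nroots) (allIdx (fun a E => chainOK D T a E.toList) D.chain.toList 0) false

/-- the Cartan integers agree with the tables -/
noncomputable def cartanCheck : Bool :=
  cond (Nat.beq D.cartanSR.toList.length D.rank)
    (allIdx (fun i row =>
      cond (Nat.beq row.toList.length D.nroots)
        (cond (allNat D.rank fun j => Nat.beq (field (T.t1.get (Nat.add D.nroots i)) (Nat.add D.nroots j)) 0)
          (allIdx (fun c v =>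
            cond (cond (decide (-7 ≤ v)) (decide (v ≤ 7)) false)
              (cond (Nat.beq (field (T.t1.get (Nat.add D.nroots i)) c) (encZ c v))
                (Nat.beq (field (T.t1.get c) (Nat.add D.nroots i)) (encZ c (Int.neg v))) false) false) row.toList 0) false)
        false) D.cartanSR.toList 0) false

/-- all of a list equal the table digits -/
noncomputable def corRowOK (a : ℕ) (L : List ℤ) : Bool :=
  cond (Nat.beq L.length D.rank) (allIdx (fun i v => decide (cv T a i = v)) L 0) false

/-- index arrays, signs of roots, coroots -/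
noncomputable def shapeCheck : Bool :=
  cond (Nat.beq D.nroots (Nat.mul 2 (Nat.div D.nroots 2)))
  (cond (Nat.blt D.nroots 255)
  (cond (Nat.blt D.rank 9)
  (cond (Nat.beq D.negIdx.toList.length D.nroots)
  (cond (allIdx (fun a v => Nat.beq v (Nat.sub D.nroots (Nat.add a 1))) D.negIdx.toList 0)
  (cond (Nat.beq D.coroot.toList.length D.nroots)
  (cond (allIdx (fun a v => corRowOK D T a v.toList) D.coroot.toList 0)
  (cond (Nat.beq D.simpleIdx.toList.length D.rank)
  (allIdx (fun i p =>
    cond (Nat.blt p D.nroots)
      (cond (Nat.ble (Nat.div D.nroots 2) p)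
        (allNat D.rank fun j =>
          cond (decide (wt D T p j = cond (Nat.beq i j) 1 0)) (decide (cv T p j = cond (Nat.beq i j) 1 0)) false)
        false) false) D.simpleIdx.toList 0)
  false) false) false) false) false) false) false) false

/-- order of roots: `Σ m_i 16^{rank-1-i}` -/
noncomputable def keyZ (a : ℕ) : ℤ :=
  Nat.rec (motive := fun _ => ℤ) 0 (fun i ih => Int.add (Int.mul ih 16) (wt D T a i)) D.rank

/-- signs, order and negatives of the roots -/
noncomputable def rootCheck : Bool :=
  allNat D.nroots fun a =>
    cond (cond (Nat.blt (Nat.add a 1) D.nroots) (decide (keyZ D T a < keyZ D T (Nat.add a 1))) true)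
    (cond (cond (Nat.blt a (Nat.div D.nroots 2)) (decide (keyZ D T a < 0)) (decide (0 < keyZ D T a)))
    (cond (anyNat D.rank fun i => decide (cv T a i ≠ 0))
    (allNat D.rank fun i =>
      cond (cond (Nat.blt a (Nat.div D.nroots 2))
          (cond (decide (cv T a i ≤ 0)) (decide (wt D T a i ≤ 0)) false)
          (cond (decide (0 ≤ cv T a i)) (decide (0 ≤ wt D T a i)) false))
      (cond (decide (wt D T (Nat.sub D.nroots (Nat.add a 1)) i = Int.neg (wt D T a i)))
      (cond (decide (cv T (Nat.sub D.nroots (Nat.add a 1)) i = Int.neg (cv T a i)))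
      (decide (decide (cv T a i = 0) = decide (wt D T a i = 0))) false) false) false)
    false) false) false

/-- Σ_j wt(c,j)·f(j) -/
noncomputable def pairSum (v f : ℕ → ℤ) : ℤ :=
  Nat.rec (motive := fun _ => ℤ) 0 (fun j ih => Int.add ih (Int.mul (v j) (f j))) D.rank

/-- the Cartan integers are linear in the roots, and a root pairs to 2 with its coroot -/
noncomputable def linCheck : Bool :=
  allNat D.nroots fun c =>
    cond (decide (pairSum D (cv T c) (fun i => cval D T i c) = 2))
    (allNat D.rank fun i =>
      decide (cval D T i c = pairSum D (wt D T c) (fun j => cval D T i (D.simple j)))) false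

/-- a code in column `c` of the `k`-th power of `a` respects the weights -/
noncomputable def weightOK (k : ℤ) (a c code : ℕ) : Bool :=
  cond (Nat.beq code 0) true
    (cond (Nat.beq (Nat.mod code 16) 0)
      (cond (decide (k = 1)) (allNat D.rank fun i => decide (Int.add (wt D T c i) (wt D T a i) = 0)) false)
      (cond (Nat.blt (codeIdx code) D.nroots)
        (allNat D.rank fun i => decide (wt D T (codeIdx code) i = Int.add (wt D T c i) (Int.mul k (wt D T a i)))) false))

/-- weights of all table entries, and the markers point to `a` -/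
noncomputable def weightCheck : Bool :=
  allNat (dimN D) fun a => allNat (dimN D) fun c =>
    cond (Nat.beq (field (Nat.lor (Nat.lor (T.t1.get a) (T.t2.get a)) (T.t3.get a)) c) 0) true
      (cond (weightOK D T 1 a c (field (T.t1.get a) c))
        (cond (weightOK D T 2 a c (field (T.t2.get a) c)) (weightOK D T 3 a c (field (T.t3.get a) c)) false) false)

/-- relations between the divided powers -/
noncomputable def powCheck : Bool :=
  allNat D.nroots fun a => allNat (dimN D) fun c =>
    cond (Nat.beq (field (Nat.lor (Nat.lor (T.t1.get a) (T.t2.get a)) (T.t3.get a)) c) 0) true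
      (let e1 := decCode D T (field (T.t1.get a) c)
       let e2 := decCode D T (field (T.t2.get a) c)
       let e3 := decCode D T (field (T.t3.get a) c)
       cond (isZeroVec (cat (applyRow D T (T.t1.get a) e1) (scaleVec (-2) e2)))
        (cond (isZeroVec (cat (applyRow D T (T.t1.get a) e2) (scaleVec (-3) e3)))
          (cond (isZeroVec (cat (applyRow D T (T.t2.get a) e1) (scaleVec (-3) e3)))
            (isZeroVec (applyRow D T (T.t1.get a) e3)) false) false) false)

/-- the code of the image under e_r ↦ e_{-r}, h ↦ h, with the sign changed -/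
noncomputable def flipCode (code : ℕ) : ℕ :=
  cond (Nat.beq code 0) 0
    (cond (Nat.beq (Nat.mod code 16) 0) (Nat.mul (Nat.sub (Nat.add D.nroots 1) (codeIdx code)) 16)
      (Nat.add (Nat.mul (Nat.sub D.nroots (Nat.add (codeIdx code) 1)) 16) (Nat.sub 16 (Nat.mod code 16))))

/-- index of the negative, fixing h -/
noncomputable def negN (a : ℕ) : ℕ := cond (Nat.blt a D.nroots) (Nat.sub D.nroots (Nat.add a 1)) a

/-- symmetry under e_r ↦ -e_{-r}, h ↦ -h -/
noncomputable def thetaCheck : Bool :=
  allNat (dimN D) fun a => allNat (dimN D) fun c =>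
    cond (Nat.beq (field (T.t1.get a) c) 0) (Nat.beq (field (T.t1.get (negN D a)) (negN D c)) 0)
      (Nat.beq (field (T.t1.get (negN D a)) (negN D c)) (flipCode D (field (T.t1.get a) c)))

/-- trie number of the exponent -/
noncomputable def tabK (k : ℕ) : Trie :=
  cond (Nat.beq k 1) T.t1 (cond (Nat.beq k 2) T.t2 (cond (Nat.beq k 3) T.t3 (Trie.leaf 0)))

/-- the reflection of root `s` in fundamental root `i`, from the tables -/
noncomputable def sig (i s : ℕ) : ℕ :=
  let p := D.simple i
  let A := cval D T i s
  cond (Nat.beq s p) (negN D p)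
    (cond (Nat.beq s (negN D p)) p
      (Int.rec
        (fun a => cond (Nat.beq a 0) s (codeIdx (field ((tabK T a).get (negN D p)) s)))
        (fun a => codeIdx (field ((tabK T (Nat.add a 1)).get p) s)) A))

/-- the reflection codes exist -/
noncomputable def sigOK (i s : ℕ) : Bool :=
  let p := D.simple i
  let A := cval D T i s
  cond (Nat.beq s p) true
    (cond (Nat.beq s (negN D p)) true
      (Int.rec
        (fun a => cond (Nat.beq a 0) true
          (cond (Nat.ble a 3) (decide (codeVal (field ((tabK T a).get (negN D p)) s) ≠ 0)) false))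
        (fun a => cond (Nat.ble a 2) (decide (codeVal (field ((tabK T (Nat.add a 1)).get p) s) ≠ 0)) false) A))

/-- reflections act on roots and coroots as they should -/
noncomputable def reflCheck : Bool :=
  allNat D.rank fun i => allNat D.nroots fun s =>
    let u := sig D T i s
    cond (sigOK D T i s)
      (cond (Nat.blt u D.nroots)
        (allNat D.rank fun j =>
          cond (decide (wt D T u j = cond (Nat.beq i j) (Int.sub (wt D T s j) (cval D T i s)) (wt D T s j)))
            (decide (cv T u j =
              cond (Nat.beq i j) (Int.sub (cv T s j) (pairSum D (cv T s) (fun k => cval D T k (D.simple i)))) (cv T s j)))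
            false) false) false

/-- x_p(e) applied to a sparse vector, `e = ±1` -/
noncomputable def xApply (p : ℕ) (e : ℤ) (L : List (ℕ × ℤ)) : List (ℕ × ℤ) :=
  cat L (cat (scaleVec e (applyRow D T (T.t1.get p) L))
    (cat (applyRow D T (T.t2.get p) L) (scaleVec e (applyRow D T (T.t3.get p) L))))

/-- n_p(1) applied to a basis vector -/
noncomputable def nApply (p a : ℕ) : List (ℕ × ℤ) :=
  xApply D T p 1 (xApply D T (negN D p) (-1) (xApply D T p 1 [(a, 1)]))

/-- the sign of n_p(1) e_s -/
noncomputable def eta (i s : ℕ) : ℤ := coeffAt (nApply D T (D.simple i) s) (sig D T i s)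

/-- n_{p_i}(1) is monomial -/
noncomputable def nCheck : Bool :=
  allNat D.rank fun i =>
    cond (allNat D.nroots fun s =>
      let V := nApply D T (D.simple i) s
      let e := coeffAt V (sig D T i s)
      cond (isZeroVec (cat V [(sig D T i s, Int.neg e)])) (cond (decide (e = 1)) true (decide (e = -1))) false)
    (allNat D.rank fun j =>
      isZeroVec (cat (nApply D T (D.simple i) (Nat.add D.nroots j))
        [(Nat.add D.nroots j, -1), (Nat.add D.nroots i, cval D T j (D.simple i))])) false

/-- every positive root descends to a fundamental one by reflections and is a bracket with a fundamental root vector -/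
noncomputable def genCheck : Bool :=
  allNat D.nroots fun a =>
    cond (Nat.blt a (Nat.div D.nroots 2)) true
    (cond (anyNat D.rank fun i => Nat.beq a (D.simple i)) true
      (cond (anyNat D.rank fun i => cond (Nat.blt (sig D T i a) a) (Nat.ble (Nat.div D.nroots 2) (sig D T i a)) false)
        (anyNat D.rank fun i =>
          let u := codeIdx (field (T.t1.get (negN D (D.simple i))) a)
          let b := field (T.t1.get (D.simple i)) u
          cond (Nat.blt u a)
            (cond (Nat.ble (Nat.div D.nroots 2) u)
              (cond (Nat.beq (codeIdx b) a) (decide (codeVal b ≠ 0)) false) false) false)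
        false))

/-- `c, a+c, 2a+c, …` pairwise commute -/
noncomputable def okPair (a c : ℕ) : Bool :=
  let u1 := field (T.t1.get a) c
  let u2 := field (T.t2.get a) c
  let u3 := field (T.t3.get a) c
  cond (cond (Nat.beq u1 0) true (Nat.beq (field (T.t1.get c) (codeIdx u1)) 0))
  (cond (cond (Nat.beq u2 0) true
      (cond (Nat.beq (field (T.t1.get c) (codeIdx u2)) 0) (Nat.beq (field (T.t1.get (codeIdx u1)) (codeIdx u2)) 0) false))
    (cond (Nat.beq u3 0) true
      (cond (Nat.beq (field (T.t1.get c) (codeIdx u3)) 0)
        (cond (Nat.beq (field (T.t1.get (codeIdx u1)) (codeIdx u3)) 0)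
          (Nat.beq (field (T.t1.get (codeIdx u2)) (codeIdx u3)) 0) false) false))
    false) false

/-- for every pair of roots one of the two chains through them is commutative -/
noncomputable def commCheck : Bool :=
  allNat D.nroots fun a => allNat D.nroots fun c =>
    cond (Nat.beq (field (T.t1.get a) c) 0) true
      (cond (Nat.beq c (negN D a)) true (cond (okPair T a c) true (okPair T c a)))

end CfsgLib.Chev
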