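import Cfsg.Prelude.Def_ChevStructure
/-
Packed natural-number tables with fast kernel lookup, sparse integer vectors, and the soundness lemmas used to turn
boolean checks on them into statements about integer matrices.
-/
set_option autoImplicit false

namespace CfsgLib.Chev

/-- A binary trie of natural numbers, indexed by the bits of the index, least significant first. -/
inductive Trie : Type
  | leaf (v : ℕ)
  | node (l r : Trie)

/-- Lookup in a `Trie`. -/
noncomputable def Trie.get (t : Trie) : ℕ → ℕ :=
  Trie.rec (motive := fun _ => ℕ → ℕ) (fun v _ => v)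
    (fun _ _ il ir i => cond (Nat.beq (Nat.mod i 2) 0) (il (Nat.div i 2)) (ir (Nat.div i 2))) t

/-- Bounded universal quantifier, by raw recursion (fast in the kernel). -/
noncomputable def allNat (n : ℕ) (p : ℕ → Bool) : Bool :=
  Nat.rec (motive := fun _ => Bool) true (fun i ih => cond ih (p i) false) n

/-- Bounded existential quantifier, by raw recursion. -/
noncomputable def anyNat (n : ℕ) (p : ℕ → Bool) : Bool :=
  Nat.rec (motive := fun _ => Bool) false (fun i ih => cond ih true (p i)) n

/-- `List.all`, by raw recursion. -/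
noncomputable def allList {α : Type} (p : α → Bool) (L : List α) : Bool :=
  List.rec (motive := fun _ => Bool) true (fun x _ ih => cond (p x) ih false) L

/-- `p i x` for the elements `x` of a list with their indices `i`, counted from the first argument. -/
noncomputable def allIdx {α : Type} (p : ℕ → α → Bool) (L : List α) : ℕ → Bool :=
  List.rec (motive := fun _ => ℕ → Bool) (fun _ => true) (fun x _ ih i => cond (p i x) (ih (Nat.succ i)) false) L

theorem allNat_iff {n : ℕ} {p : ℕ → Bool} : allNat n p = true ↔ ∀ i < n, p i = true := by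
  induction n with
  | zero => simp [allNat]
  | succ k ih =>
      have h : allNat (k + 1) p = cond (allNat k p) (p k) false := rfl
      rw [h, Nat.forall_lt_succ_right, ← ih]
      cases allNat k p <;> simp

theorem anyNat_iff {n : ℕ} {p : ℕ → Bool} : anyNat n p = true ↔ ∃ i < n, p i = true := by
  induction n with
  | zero => simp [anyNat]
  | succ k ih =>
      have h : anyNat (k + 1) p = cond (anyNat k p) true (p k) := rfl
      rw [h, Nat.exists_lt_succ_right, ← ih]
      cases anyNat k p <;> simp

theorem allList_iff {α : Type} {p : α → Bool} {L : List α} : allList p L = true ↔ ∀ x ∈ L, p x = true := by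
  induction L with
  | nil => simp [allList]
  | cons x l ih =>
      have h : allList p (x :: l) = cond (p x) (allList p l) false := rfl
      rw [h, List.forall_mem_cons, ← ih]
      cases p x <;> simp

theorem allIdx_iff {α : Type} {p : ℕ → α → Bool} {L : List α} {k : ℕ} :
    allIdx p L k = true ↔ ∀ (i : ℕ) (x : α), L[i]? = some x → p (k + i) x = true := by
  induction L generalizing k with
  | nil => simp [allIdx]
  | cons a l ih =>
      have h : allIdx p (a :: l) k = cond (p k a) (allIdx p l (k + 1)) false := rfl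
      rw [h]
      constructor
      · intro H i x hx
        cases hp : p k a <;> rw [hp] at H <;> simp at H
        cases i with
        | zero => simp at hx; subst hx; simpa using hp
        | succ j => simp at hx; have := ih.1 H j x hx; rwa [show k + (j + 1) = k + 1 + j by omega]
      · intro H
        have h0 := H 0 a rfl
        simp at h0; rw [h0]
        refine ih.2 fun i x hx => ?_
        have := H (i + 1) x (by simpa using hx)
        rwa [show k + 1 + i = k + (i + 1) by omega]

/-- field `c` of a packed row (fields of 12 bits) -/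
noncomputable def field (row c : ℕ) : ℕ := Nat.land (Nat.shiftRight row (Nat.mul 12 c)) 4095

/-- pack the pairs (column, code) into one number -/
noncomputable def pack (L : List (ℕ × ℕ)) : ℕ :=
  List.rec (motive := fun _ => ℕ) 0 (fun p _ ih => Nat.lor (Nat.shiftLeft p.2 (Nat.mul 12 p.1)) ih) L

theorem field_eq (row c : ℕ) : field row c = (row >>> (12 * c)) % 2 ^ 12 := by
  show Nat.land _ (2 ^ 12 - 1) = _
  exact Nat.and_two_pow_sub_one_eq_mod _ 12

theorem field_zero (c : ℕ) : field 0 c = 0 := by simp [field_eq]

theorem field_lor (a b c : ℕ) : field (a ||| b) c = field a c ||| field b c := by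
  simp only [field_eq, Nat.shiftRight_or_distrib, Nat.or_mod_two_pow]

theorem field_shiftLeft {v : ℕ} (hv : v < 4096) (a c : ℕ) :
    field (v <<< (12 * a)) c = if a = c then v else 0 := by
  rw [field_eq]
  rcases lt_trichotomy a c with h | h | h
  · rw [if_neg h.ne]
    have : 12 * c = 12 * a + 12 * (c - a) := by omega
    rw [this, Nat.shiftRight_add, Nat.shiftLeft_shiftRight, Nat.shiftRight_eq_div_pow, Nat.div_eq_of_lt, Nat.zero_mod]
    calc v < 2 ^ 12 := by simpa using hv
      _ ≤ 2 ^ (12 * (c - a)) := Nat.pow_le_pow_right (by norm_num) (by omega)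
  · subst h; simp [Nat.shiftLeft_shiftRight, Nat.mod_eq_of_lt hv]
  · rw [if_neg h.ne']
    have : 12 * a = 12 * c + 12 * (a - c) := by omega
    rw [this, Nat.add_comm, Nat.shiftLeft_add, Nat.shiftLeft_shiftRight]
    rw [show 12 * (a - c) = 12 * (a - c - 1) + 12 by omega, Nat.shiftLeft_add, Nat.shiftLeft_eq _ 12]
    simp

theorem field_pack_of_not_mem {L : List (ℕ × ℕ)} {c : ℕ} (hL : ∀ p ∈ L, p.2 < 4096) (h : ∀ p ∈ L, p.1 ≠ c) :
    field (pack L) c = 0 := by
  induction L with
  | nil => exact field_zero c
  | cons p l ih =>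
      rw [List.forall_mem_cons] at hL h
      show field (p.2 <<< (12 * p.1) ||| pack l) c = 0
      rw [field_lor, field_shiftLeft hL.1, if_neg h.1, ih hL.2 h.2]; rfl

theorem field_pack {L : List (ℕ × ℕ)} {p : ℕ × ℕ} (hL : ∀ q ∈ L, q.2 < 4096)
    (hnd : (L.map Prod.fst).Nodup) (hp : p ∈ L) : field (pack L) p.1 = p.2 := by
  induction L with
  | nil => simp at hp
  | cons q l ih =>
      rw [List.forall_mem_cons] at hL
      rw [List.map_cons, List.nodup_cons] at hnd
      show field (q.2 <<< (12 * q.1) ||| pack l) p.1 = p.2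
      rw [field_lor, field_shiftLeft hL.1]
      rcases List.mem_cons.1 hp with rfl | hp
      · rw [if_pos rfl, field_pack_of_not_mem hL.2]
        · simp
        · intro r hr he; exact hnd.1 (List.mem_map.2 ⟨r, hr, he⟩)
      · have : q.1 ≠ p.1 := fun he => hnd.1 (List.mem_map.2 ⟨p, hp, he.symm⟩)
        rw [if_neg this, ih hL.2 hnd.2 hp]; simp

/-- the coefficient of index `j` in a sparse vector -/
noncomputable def coeffAt (L : List (ℕ × ℤ)) (j : ℕ) : ℤ :=
  List.rec (motive := fun _ => ℤ) 0 (fun p _ ih => cond (Nat.beq p.1 j) (Int.add p.2 ih) ih) L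

/-- concatenation, by raw recursion -/
noncomputable def cat (L M : List (ℕ × ℤ)) : List (ℕ × ℤ) :=
  List.rec (motive := fun _ => List (ℕ × ℤ)) M (fun p _ ih => p :: ih) L

/-- scaling of a sparse vector -/
noncomputable def scaleVec (x : ℤ) (L : List (ℕ × ℤ)) : List (ℕ × ℤ) :=
  List.rec (motive := fun _ => List (ℕ × ℤ)) [] (fun p _ ih => (p.1, Int.mul x p.2) :: ih) L

/-- all indices of a sparse vector are less than `N` -/
def Below (N : ℕ) (L : List (ℕ × ℤ)) : Prop := ∀ p ∈ L, p.1 < N

@[simp] theorem coeffAt_nil (j : ℕ) : coeffAt [] j = 0 := rfl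

theorem coeffAt_cons (p : ℕ × ℤ) (L : List (ℕ × ℤ)) (j : ℕ) :
    coeffAt (p :: L) j = (if p.1 = j then p.2 else 0) + coeffAt L j := by
  show cond (Nat.beq p.1 j) (Int.add p.2 (coeffAt L j)) (coeffAt L j) = _
  by_cases h : p.1 = j
  · rw [if_pos h, show Nat.beq p.1 j = true from by simp [h]]; rfl
  · rw [if_neg h]
    cases hb : Nat.beq p.1 j
    · exact (zero_add _).symm
    · exact absurd (Nat.eq_of_beq_eq_true hb) h

@[simp] theorem coeffAt_cat (L M : List (ℕ × ℤ)) (j : ℕ) : coeffAt (cat L M) j = coeffAt L j + coeffAt M j := by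
  induction L with
  | nil => simp [cat]
  | cons p l ih =>
      show coeffAt (p :: cat l M) j = _
      rw [coeffAt_cons, coeffAt_cons, ih, add_assoc]

@[simp] theorem coeffAt_scaleVec (x : ℤ) (L : List (ℕ × ℤ)) (j : ℕ) :
    coeffAt (scaleVec x L) j = x * coeffAt L j := by
  induction L with
  | nil => simp [scaleVec]
  | cons p l ih =>
      show coeffAt ((p.1, x * p.2) :: scaleVec x l) j = _
      rw [coeffAt_cons, coeffAt_cons, ih, mul_add, mul_ite, mul_zero]

theorem coeffAt_eq_zero_of_forall_ne {L : List (ℕ × ℤ)} {j : ℕ} (h : ∀ p ∈ L, p.1 ≠ j) : coeffAt L j = 0 := by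
  induction L with
  | nil => rfl
  | cons p l ih =>
      rw [List.forall_mem_cons] at h
      rw [coeffAt_cons, if_neg h.1, ih h.2, add_zero]

theorem mem_cat {p : ℕ × ℤ} {L M : List (ℕ × ℤ)} : p ∈ cat L M ↔ p ∈ L ∨ p ∈ M := by
  induction L with
  | nil => simp [cat]
  | cons q l ih => show p ∈ q :: cat l M ↔ _; simp [ih, or_assoc]

/-- a sparse vector is zero -/
noncomputable def isZeroVec (L : List (ℕ × ℤ)) : Bool :=
  allList (fun p => decide (coeffAt L p.1 = 0)) L

theorem coeffAt_of_isZeroVec {L : List (ℕ × ℤ)} (h : isZeroVec L = true) (j : ℕ) : coeffAt L j = 0 := by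
  by_cases hj : ∃ p ∈ L, p.1 = j
  · obtain ⟨p, hp, rfl⟩ := hj; simpa using allList_iff.1 h p hp
  · push Not at hj; exact coeffAt_eq_zero_of_forall_ne hj

/-- the sparse vector as a linear combination: `Σ x·f(u)` over the entries `(u, x)` -/
def evalVec {M : Type*} [AddCommGroup M] (f : ℕ → M) (L : List (ℕ × ℤ)) : M :=
  (L.map fun p => p.2 • f p.1).sum

theorem sum_coeffAt_smul {ι M : Type*} [Fintype ι] [DecidableEq ι] [AddCommGroup M] (e : ι → ℕ) (he : Function.Injective e)
    (f : ℕ → M) {L : List (ℕ × ℤ)} (h : ∀ p ∈ L, ∃ i, e i = p.1) :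
    ∑ i, coeffAt L (e i) • f (e i) = evalVec f L := by
  induction L with
  | nil => simp [evalVec]
  | cons p l ih =>
      rw [List.forall_mem_cons] at h
      obtain ⟨i0, hi0⟩ := h.1
      simp only [coeffAt_cons, add_smul, Finset.sum_add_distrib, ih h.2, ite_smul, zero_smul]
      have hs : (∑ x, if p.1 = e x then p.2 • f (e x) else 0) = p.2 • f p.1 := by
        rw [Finset.sum_eq_single i0]
        · simp [hi0]
        · intro b _ hb; rw [if_neg]; rw [← hi0]; exact fun h => hb (he h).symm
        · simp
      rw [hs]; simp [evalVec]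

end CfsgLib.Chev
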