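import Cfsg.Agent.Lib.Chev.Homog
import Cfsg.Agent.Lib.Chev.All
import Cfsg.Agent.Lib.Chev.Gen.CommG2
import Cfsg.Agent.Lib.Chev.Gen.CommB2
import Cfsg.Agent.Lib.Chev.Gen.CommD4
import Cfsg.Agent.Lib.Chev.Gen.CommF4
import Cfsg.Agent.Lib.Chev.Gen.CommE6
import Cfsg.Agent.Lib.Chev.Gen.CommE7
import Cfsg.Agent.Lib.Chev.Gen.CommE8
/-
Chevalley's commutator formula for the seven tabulated data.
-/
set_option autoImplicit false
set_option linter.unusedSectionVars false
set_option linter.unusedSimpArgs false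

namespace CfsgLib.Chev

open Cfsg.Lie
open scoped Matrix

variable {D : ChevalleyDatum} {T : Tabs}

/-- the commutator formula at t = u = 1 -/
def CommOne (D : ChevalleyDatum) (T : Tabs) : Prop :=
  ∀ r s, r < D.nroots → s < D.nroots → s ≠ r → s ≠ D.neg r →
    xTab D T ℤ s 1 * xTab D T ℤ r 1 = xTab D T ℤ r 1 * xTab D T ℤ s 1 * wordTab D T ℤ (commInt D r s)

section
variable (hc : Checked D T)
include hc

theorem term_col {r s : ℕ} (hr : r < D.nroots) (hs : s < D.nroots) (hneg : s ≠ D.neg r) {k : ℕ}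
    (hk : k = 1 ∨ k = 2 ∨ k = 3) :
    tabMat D T k r *ᵥ eVec D s = ((D.chainEntry r s)[k - 1]?).elim 0 (fun q => q.2 • eVec D q.1) := by
  funext x
  rw [show s = ((⟨s, hs⟩ : Fin D.nroots) : ℕ) from rfl, eVec_eq, Matrix.mulVec_single_one, Matrix.col_apply,
    tabMat_apply, cd_inr]
  have e : field ((tabK T k).get r) s = optCode ((D.chainEntry r s)[k - 1]?) := by
    rcases hk with rfl | rfl | rfl
    · rw [tabK_one, field_t1 hc hr hs, if_neg hneg]
    · rw [tabK_two, field_t2 hc hr, if_neg hneg]
    · rw [tabK_three, field_t3 hc hr]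
  rw [e]
  cases h : (D.chainEntry r s)[k - 1]? with
  | none => simp [optCode]
  | some q =>
      obtain ⟨-, -, q3, q4, -⟩ := chainEntry_get hc hr (h ▸ rfl : q ∈ (D.chainEntry r s)[k - 1]?)
      simp [optCode, decCode_encNZ q3 q4, eVec, coeffAt_cons, eq_comm]

theorem chain_weight {r s : ℕ} (hr : r < D.nroots) {k : ℕ} (hk : k = 1 ∨ k = 2 ∨ k = 3) {q : ℕ × ℤ}
    (h : (D.chainEntry r s)[k - 1]? = some q) :
    q.1 < D.nroots ∧ s < D.nroots ∧ rv D T q.1 = (k : ℤ) • rv D T r + rv D T s := by
  obtain ⟨q1, q2, -, -, hs, -, hneg⟩ := chainEntry_get hc hr (h ▸ rfl : q ∈ (D.chainEntry r s)[k - 1]?)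
  refine ⟨q1, hs, ?_⟩
  have hcol := congrFun (term_col hc hr hs hneg hk) (Sum.inr ⟨q.1, q1⟩)
  rw [h] at hcol
  simp only [Option.elim_some, Pi.smul_apply, eVec, cd_inr, if_true, smul_eq_mul, mul_one] at hcol
  rw [show s = ((⟨s, hs⟩ : Fin D.nroots) : ℕ) from rfl, eVec_eq, Matrix.mulVec_single_one, Matrix.col_apply] at hcol
  have := weight_spec hc hk (by omega) (show tabMat D T k r (Sum.inr ⟨q.1, q1⟩) (Sum.inr ⟨s, hs⟩) ≠ 0 by rw [hcol]; exact q2)
  simp only [wI_inr] at this
  rw [this]; abel

theorem chainRoot_weight {r s k v : ℕ} (hr : r < D.nroots) (hk : k = 1 ∨ k = 2 ∨ k = 3)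
    (h : D.chainRoot r s k = some v) :
    v < D.nroots ∧ s < D.nroots ∧ rv D T v = (k : ℤ) • rv D T r + rv D T s := by
  simp only [ChevalleyDatum.chainRoot, Option.map_eq_some_iff] at h
  obtain ⟨q, hq, rfl⟩ := h
  exact chain_weight hc hr hk hq

theorem commTerms_weight {r s : ℕ} (hr : r < D.nroots) (hs : s < D.nroots) :
    ∀ q ∈ D.commTerms r s, q.1 < D.nroots ∧ 0 < q.2.2.1 ∧ 0 < q.2.2.2 ∧
      rv D T q.1 = (q.2.2.1 : ℤ) • rv D T r + (q.2.2.2 : ℤ) • rv D T s := by
  intro q hq
  simp only [ChevalleyDatum.commTerms, List.mem_filterMap, List.mem_cons, List.not_mem_nil, or_false,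
    Option.map_eq_some_iff] at hq
  obtain ⟨c, hcases, k, hk, rfl⟩ := hq
  rcases hcases with rfl | rfl | rfl | rfl | rfl | rfl | rfl <;> simp only [] at hk ⊢
  · obtain ⟨h1, -, h3⟩ := chainRoot_weight hc hr (k := 1) (by omega) hk
    exact ⟨h1, by omega, by omega, by rw [h3]; simp⟩
  · obtain ⟨h1, -, h3⟩ := chainRoot_weight hc hr (k := 2) (by omega) hk
    exact ⟨h1, by omega, by omega, by rw [h3]; simp⟩
  · obtain ⟨h1, -, h3⟩ := chainRoot_weight hc hs (k := 2) (by omega) hk
    exact ⟨h1, by omega, by omega, by rw [h3]; simp; abel⟩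
  · obtain ⟨h1, -, h3⟩ := chainRoot_weight hc hr (k := 3) (by omega) hk
    exact ⟨h1, by omega, by omega, by rw [h3]; simp⟩
  · obtain ⟨h1, -, h3⟩ := chainRoot_weight hc hs (k := 3) (by omega) hk
    exact ⟨h1, by omega, by omega, by rw [h3]; simp; abel⟩
  · rw [Option.bind_eq_some_iff] at hk
    obtain ⟨a, ha, hk⟩ := hk
    obtain ⟨g1, -, g3⟩ := chainRoot_weight hc hr (k := 3) (by omega) ha
    obtain ⟨h1, -, h3⟩ := chainRoot_weight hc g1 (k := 1) (by omega) hk
    refine ⟨h1, by omega, by omega, ?_⟩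
    rw [h3, g3]; push_cast; module
  · rw [Option.bind_eq_some_iff] at hk
    obtain ⟨a, ha, hk⟩ := hk
    obtain ⟨g1, -, g3⟩ := chainRoot_weight hc hs (k := 3) (by omega) ha
    obtain ⟨h1, -, h3⟩ := chainRoot_weight hc g1 (k := 1) (by omega) hk
    refine ⟨h1, by omega, by omega, ?_⟩
    rw [h3, g3]; push_cast; module

/-! ### the two kinds of checks give `CommOne` -/

theorem vecOf_applyWord {w : List (ℕ × ℤ)} (hw : ∀ p ∈ w, p.1 < D.nroots) {L : List (ℕ × ℤ)} (hL : Good D L) :
    Good D (applyWord D T w L) ∧ vecOf D (applyWord D T w L) = wordTab D T ℤ w *ᵥ vecOf D L := by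
  induction w with
  | nil => exact ⟨hL, by simp [wordTab, applyWord]⟩
  | cons p l ih =>
      rw [List.forall_mem_cons] at hw
      obtain ⟨g, e⟩ := ih hw.2
      refine ⟨good_xApplyC hc hw.1 _ g, ?_⟩
      show vecOf D (xApplyC D T p.1 p.2 (applyWord D T l L)) = _
      rw [vecOf_xApplyC _ g, e, Matrix.mulVec_mulVec]; rfl

theorem commOne_of_wordCheck (h : wordCheck D T = true) : CommOne D T := by
  intro r s hr hs hrs hneg
  have h1 := allNat_iff.1 (allNat_iff.1 h r hr) s hs
  rw [cond_beq, if_neg hrs, cond_beq, negN_eq hc hr, if_neg hneg, allNat_iff] at h1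
  have hw : ∀ p ∈ ((r, 1) :: (s, 1) :: commInt D r s : List (ℕ × ℤ)), p.1 < D.nroots := by
    intro p hp
    simp only [List.mem_cons, commInt, List.mem_map] at hp
    rcases hp with rfl | rfl | ⟨q, hq, rfl⟩
    · exact hr
    · exact hs
    · exact (commTerms_weight hc hr hs q hq).1
  apply Matrix.ext
  intro x y
  have hy := coeffAt_of_isZeroVec (h1 (cd D y) (cd_lt y)) (cd D x)
  have g0 : Good D [(cd D y, (1 : ℤ))] := fun q hq => by simp at hq; subst hq; exact cd_lt y
  rw [coeffAt_cat, coeffAt_scaleVec] at hy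
  have e1 := congrFun (vecOf_applyWord hc (w := [(s, 1), (r, 1)]) (by simp [hr, hs]) g0).2 x
  have e2 := congrFun (vecOf_applyWord hc hw g0).2 x
  rw [vecOf_single, Matrix.mulVec_single_one, Matrix.col_apply] at e1 e2
  simp only [vecOf] at e1 e2
  rw [e1, e2] at hy
  simp only [wordTab, List.map_cons, List.prod_cons, List.map_nil, List.prod_nil, mul_one, ← Matrix.mul_assoc] at hy
  simp only [wordTab] at hy ⊢
  omega

theorem adQ_pow {r : ℕ} (hr : r < D.nroots) :
    ((tabMat D T 1 r).map (Int.castRingHom ℚ)) ^ 2 = (2 : ℚ) • (tabMat D T 2 r).map (Int.castRingHom ℚ) ∧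
    ((tabMat D T 1 r).map (Int.castRingHom ℚ)) ^ 3 = (6 : ℚ) • (tabMat D T 3 r).map (Int.castRingHom ℚ) ∧
    ((tabMat D T 1 r).map (Int.castRingHom ℚ)) ^ 4 = 0 := by
  obtain ⟨h1, h2, h3, h4⟩ := pow_spec hc hr
  have cast : ∀ (A : Matrix D.Idx D.Idx ℤ) (c : ℤ),
      (c • A).map (Int.castRingHom ℚ) = (c : ℚ) • A.map (Int.castRingHom ℚ) := fun A c => by
    ext i j; simp only [Matrix.map_apply, Matrix.smul_apply, smul_eq_mul, Int.coe_castRingHom, Int.cast_mul]
  have e2 : ((tabMat D T 1 r).map (Int.castRingHom ℚ)) ^ 2 = (2 : ℚ) • (tabMat D T 2 r).map (Int.castRingHom ℚ) := by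
    rw [pow_two, ← Matrix.map_mul, h1, cast]; norm_num
  refine ⟨e2, ?_, ?_⟩
  · rw [pow_succ, e2, Matrix.smul_mul, ← Matrix.map_mul, h3, cast, smul_smul]; norm_num
  · rw [show (4 : ℕ) = 2 + 2 from rfl, pow_add, e2, Matrix.smul_mul, Matrix.mul_smul, ← Matrix.map_mul,
      (pow_zero_spec hc hr).2.1, show (0 : Matrix D.Idx D.Idx ℤ).map (Int.castRingHom ℚ) = 0 by ext; simp, smul_zero,
      smul_zero]

theorem isNilp {r : ℕ} (hr : r < D.nroots) (c : ℚ) :
    IsNilpotent (c • (tabMat D T 1 r).map (Int.castRingHom ℚ)) :=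
  ⟨4, by rw [smul_pow, (adQ_pow hc hr).2.2, smul_zero]⟩

theorem exp_root {r : ℕ} (hr : r < D.nroots) (c : ℚ) :
    IsNilpotent.exp (c • (tabMat D T 1 r).map (Int.castRingHom ℚ)) = xTab D T ℚ r c := by
  obtain ⟨e2, e3, e4⟩ := adQ_pow hc hr
  rw [IsNilpotent.exp_eq_sum (k := 4) (by rw [smul_pow, e4, smul_zero])]
  simp only [Finset.sum_range_succ, Finset.sum_range_zero, smul_pow, pow_zero, pow_one, e2, e3, smul_smul, xTab]
  norm_num [Nat.factorial]
  congr 1
  · congr 1; ring_nf
  · ring_nf

omit hc in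
theorem exp_conj {g g' A : Matrix D.Idx D.Idx ℚ} (h : g' * g = 1) (h' : g * g' = 1) (hA : IsNilpotent A) :
    g * IsNilpotent.exp A * g' = IsNilpotent.exp (g * A * g') := by
  obtain ⟨k, hk⟩ := hA
  have hpow : ∀ n, (g * A * g') ^ n = g * A ^ n * g' := by
    intro n
    induction n with
    | zero => simp [h']
    | succ m ih =>
        rw [pow_succ, ih, pow_succ]
        simp only [Matrix.mul_assoc]
        rw [← Matrix.mul_assoc g' g, h, Matrix.one_mul]
  rw [IsNilpotent.exp_eq_sum hk, IsNilpotent.exp_eq_sum (k := k) (by rw [hpow, hk, Matrix.mul_zero, Matrix.zero_mul]),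
    Finset.mul_sum, Finset.sum_mul]
  exact Finset.sum_congr rfl fun n _ => by rw [hpow, Matrix.mul_smul, Matrix.smul_mul]

theorem commute_of_field {a b : ℕ} (ha : a < D.nroots) (hb : b < D.nroots) (h : field (T.t1.get a) b = 0) :
    Commute ((tabMat D T 1 a).map (Int.castRingHom ℚ)) ((tabMat D T 1 b).map (Int.castRingHom ℚ)) := by
  have hv : tabMat D T 1 a *ᵥ eVec D b = 0 := by
    funext x
    rw [show b = ((⟨b, hb⟩ : Fin D.nroots) : ℕ) from rfl, eVec_eq, Matrix.mulVec_single_one, Matrix.col_apply,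
      tabMat_apply, tabK_one, cd_inr, h]
    simp
  have hd := isDer_adB hc (Sum.inr ⟨a, ha⟩) (eVec D b)
  change tabMat D T 1 a * adV D T (eVec D b) - adV D T (eVec D b) * tabMat D T 1 a =
    adV D T (tabMat D T 1 a *ᵥ eVec D b) at hd
  rw [adV_eVec hb, hv, map_zero, sub_eq_zero] at hd
  show _ * _ = _ * _
  rw [← Matrix.map_mul, ← Matrix.map_mul, hd]

/-- `[e_a, e_b] = -[e_b, e_a]` for non-opposite roots -/
theorem first_antisymm {r s : ℕ} (hr : r < D.nroots) (hs : s < D.nroots) (hneg : s ≠ D.neg r) :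
    (D.chainEntry s r)[0]? = ((D.chainEntry r s)[0]?).map (fun q => (q.1, -q.2)) := by
  have hneg' : r ≠ D.neg s := fun h => hneg (by rw [h, neg_neg_root hc hs])
  set w := tabMat D T 1 r *ᵥ eVec D s + tabMat D T 1 s *ᵥ eVec D r with hw
  have hzero : adV D T w = 0 := by
    have h1 := isDer_adB hc (Sum.inr ⟨r, hr⟩) (eVec D s)
    have h2 := isDer_adB hc (Sum.inr ⟨s, hs⟩) (eVec D r)
    change tabMat D T 1 r * adV D T (eVec D s) - adV D T (eVec D s) * tabMat D T 1 r = _ at h1
    change tabMat D T 1 s * adV D T (eVec D r) - adV D T (eVec D r) * tabMat D T 1 s = _ at h2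
    rw [adV_eVec hs] at h1
    rw [adV_eVec hr] at h2
    rw [hw, map_add]
    exact (congrArg₂ (· + ·) h1.symm h2.symm).trans (by abel)
  have hroot : ∀ v : Fin D.nroots, w (Sum.inr v) = 0 := by
    intro v
    obtain ⟨j, hj⟩ : ∃ j : Fin D.rank, D.cartan j v ≠ 0 := by
      by_contra hh
      push Not at hh
      have := coroot_pair_self hc v.2
      simp [hh] at this
    have := congrFun (congrFun hzero (Sum.inr v)) (Sum.inl j)
    rw [adV_apply, Matrix.sum_apply, Matrix.zero_apply, Finset.sum_eq_single (Sum.inr v)] at this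
    · obtain ⟨c1, c2, -, c4⟩ := (cartan' hc j.2).2 v v.2
      rw [Matrix.smul_apply, adB, tabMat_apply, tabK_one, cd_inr, cd_inl, c4,
        coeffAt_decCode_encZ (by omega) (by omega), if_pos rfl, smul_eq_mul] at this
      rcases mul_eq_zero.1 this with h | h
      · exact h
      · exact absurd (neg_eq_zero.1 h) hj
    · intro x _ hx
      rw [Matrix.smul_apply, adB, tabMat_apply, tabK_one, cd_inl]
      rcases x with i | u
      · rw [cd_inl, (cartan' hc i.2).1 j j.2]; simp
      · obtain ⟨c1, c2, -, c4⟩ := (cartan' hc j.2).2 u u.2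
        rw [cd_inr, c4, coeffAt_decCode_encZ (by omega) (by omega), cd_inr,
          if_neg (fun h => hx (by rw [Fin.ext h]))]
        simp
    · simp
  have t1 := term_col hc hr hs hneg (k := 1) (Or.inl rfl)
  have t2 := term_col hc hs hr hneg' (k := 1) (Or.inl rfl)
  rw [Nat.sub_self] at t1 t2
  rw [hw, t1, t2] at hroot
  cases hq : (D.chainEntry r s)[0]? with
  | none =>
      rw [hq] at hroot
      cases hq' : (D.chainEntry s r)[0]? with
      | none => rfl
      | some q' =>
          rw [hq'] at hroot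
          obtain ⟨g1, g2, -⟩ := chainEntry_get hc hs (hq' ▸ rfl : q' ∈ (D.chainEntry s r)[0]?)
          have := hroot ⟨q'.1, g1⟩
          simp [eVec, g2] at this
  | some q =>
      rw [hq] at hroot
      obtain ⟨k1, k2, -⟩ := chainEntry_get hc hr (hq ▸ rfl : q ∈ (D.chainEntry r s)[0]?)
      cases hq' : (D.chainEntry s r)[0]? with
      | none =>
          rw [hq'] at hroot
          have := hroot ⟨q.1, k1⟩
          simp [eVec, k2] at this
      | some q' =>
          rw [hq'] at hroot
          have := hroot ⟨q.1, k1⟩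
          simp [eVec] at this
          by_cases he : q.1 = q'.1
          · simp [he] at this
            exact congrArg some (Prod.ext he.symm (show q'.2 = -q.2 by omega))
          · simp [he] at this
            exact absurd (by omega) k2

/-- a second chain entry needs a non-commuting pair -/
theorem second_needs {r s : ℕ} (hr : r < D.nroots) (hs : s < D.nroots) (hneg : s ≠ D.neg r) {q : ℕ × ℤ}
    (h : (D.chainEntry r s)[1]? = some q) :
    ∃ p, (D.chainEntry r s)[0]? = some p ∧ field (T.t1.get r) p.1 ≠ 0 := by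
  obtain ⟨q1, q2, -⟩ := chainEntry_get hc hr (h ▸ rfl : q ∈ (D.chainEntry r s)[1]?)
  cases hp : (D.chainEntry r s)[0]? with
  | none =>
      rw [List.getElem?_eq_none_iff] at hp
      rw [List.getElem?_eq_some_iff] at h
      obtain ⟨hl, -⟩ := h; omega
  | some p =>
      refine ⟨p, rfl, fun h0 => ?_⟩
      obtain ⟨p1, -⟩ := chainEntry_get hc hr (hp ▸ rfl : p ∈ (D.chainEntry r s)[0]?)
      have e := congrArg (· *ᵥ eVec D s) (pow_spec hc hr).1
      simp only [← Matrix.mulVec_mulVec, Matrix.smul_mulVec] at e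
      rw [term_col hc hr hs hneg (k := 1) (Or.inl rfl), term_col hc hr hs hneg (k := 2) (Or.inr (Or.inl rfl)), hp, h,
        Option.elim_some, Option.elim_some, Matrix.mulVec_smul] at e
      have hcol : tabMat D T 1 r *ᵥ eVec D p.1 = 0 := by
        funext x
        rw [show p.1 = ((⟨p.1, p1⟩ : Fin D.nroots) : ℕ) from rfl, eVec_eq, Matrix.mulVec_single_one, Matrix.col_apply,
          tabMat_apply, tabK_one, cd_inr, h0]
        simp
      rw [hcol, smul_zero] at e
      have := congrFun e (Sum.inr ⟨q.1, q1⟩)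
      simp [eVec, q2] at this

theorem okPair_spec {r s : ℕ} (hr : r < D.nroots) (hs : s < D.nroots) (hneg : s ≠ D.neg r) (h : okPair T r s = true) :
    (∀ p, (D.chainEntry r s)[0]? = some p → field (T.t1.get s) p.1 = 0) ∧
    ∀ p q, (D.chainEntry r s)[0]? = some p → (D.chainEntry r s)[1]? = some q →
      field (T.t1.get s) q.1 = 0 ∧ field (T.t1.get p.1) q.1 = 0 := by
  unfold okPair at h
  simp only [cond_false_iff, cond_true_iff, nat_beq_iff] at h
  rw [field_t1 hc hr hs, if_neg hneg, field_t2 hc hr, if_neg hneg] at h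
  obtain ⟨h1, h2, -⟩ := h
  refine ⟨fun p hp => ?_, fun p q hp hq => ?_⟩
  · obtain ⟨-, -, p3, p4, -⟩ := chainEntry_get hc hr (hp ▸ rfl : p ∈ (D.chainEntry r s)[0]?)
    simp only [hp, optCode, Option.elim_some, codeIdx_encNZ p3 p4] at h1
    rcases h1 with h1 | h1
    · exact absurd h1 (encNZ_parts p3 p4).1
    · exact h1
  · obtain ⟨-, -, p3, p4, -⟩ := chainEntry_get hc hr (hp ▸ rfl : p ∈ (D.chainEntry r s)[0]?)
    obtain ⟨-, -, q3, q4, -⟩ := chainEntry_get hc hr (hq ▸ rfl : q ∈ (D.chainEntry r s)[1]?)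
    simp only [hp, hq, optCode, Option.elim_some, codeIdx_encNZ p3 p4, codeIdx_encNZ q3 q4] at h2
    rcases h2 with h2 | h2
    · exact absurd h2 (encNZ_parts q3 q4).1
    · exact h2

/-- conjugating x_s(c) by x_r(e) when the r-chain through s is commutative of length at most three -/
theorem conj_chain {r s : ℕ} (hr : r < D.nroots) (hs : s < D.nroots) (hneg : s ≠ D.neg r)
    (hshort : (D.chainEntry r s)[2]? = none) (hok : okPair T r s = true) (c : ℚ) {e : ℤ} (he : e * e = 1) :
    xTab D T ℚ r (e : ℚ) * xTab D T ℚ s c * xTab D T ℚ r (-(e : ℚ)) =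
      xTab D T ℚ s c * ((D.chainEntry r s)[0]?).elim 1 (fun q => xTab D T ℚ q.1 (c * e * q.2)) *
        ((D.chainEntry r s)[1]?).elim 1 (fun q => xTab D T ℚ q.1 (c * q.2)) := by
  obtain ⟨ok1, ok2⟩ := okPair_spec hc hr hs hneg hok
  set F := fun M : Matrix D.Idx D.Idx ℤ => M.map (Int.castRingHom ℚ) with hF
  have hxmap : ∀ (k : ℕ) (z : ℤ), F (xTab D T ℤ k z) = xTab D T ℚ k (z : ℚ) := by
    intro k z
    ext a b
    simp only [hF, xTab, Matrix.map_apply, Matrix.add_apply, Matrix.smul_apply, smul_eq_mul, map_add, map_mul, map_pow,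
      Matrix.one_apply, apply_ite (Int.castRingHom ℚ), map_one, map_zero, eq_intCast, Int.cast_id]
  have aut := xTab_aut hc hr he (eVec D s)
  rw [adV_eVec hs] at aut
  set A1 := tabMat D T 1 r
  have hvec : xTab D T ℤ r e *ᵥ eVec D s = eVec D s + e • ((D.chainEntry r s)[0]?).elim 0 (fun q => q.2 • eVec D q.1)
      + ((D.chainEntry r s)[1]?).elim 0 (fun q => q.2 • eVec D q.1) := by
    simp only [xTab, map_id_int, Matrix.add_mulVec, Matrix.one_mulVec, Matrix.smul_mulVec, A1,
      term_col hc hr hs hneg (Or.inl rfl : 1 = 1 ∨ _ ∨ _), term_col hc hr hs hneg (k := 2) (Or.inr (Or.inl rfl)),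
      term_col hc hr hs hneg (k := 3) (Or.inr (Or.inr rfl)), hshort, Option.elim_none, smul_zero, add_zero,
      Nat.sub_self, show e ^ 2 = 1 by rw [pow_two, he], one_smul]
  rw [hvec, map_add, map_add, map_smul, adV_eVec hs] at aut
  have autQ := congrArg F aut
  simp only [hF, Matrix.map_mul] at autQ
  change F (xTab D T ℤ r e) * F (tabMat D T 1 s) = F _ * F (xTab D T ℤ r e) at autQ
  rw [hxmap] at autQ
  have hgg : xTab D T ℚ r (e : ℚ) * xTab D T ℚ r (-(e : ℚ)) = 1 := by
    rw [xTab_add hc ℚ hr, add_neg_cancel, xTab_zero]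
  have hgg' : xTab D T ℚ r (-(e : ℚ)) * xTab D T ℚ r (e : ℚ) = 1 := by
    rw [xTab_add hc ℚ hr, neg_add_cancel, xTab_zero]
  rw [← exp_root hc hs c, exp_conj hgg' hgg (isNilp hc hs c), Matrix.mul_smul, Matrix.smul_mul, autQ, Matrix.mul_assoc,
    hgg, Matrix.mul_one]
  have fadd : ∀ A B : Matrix D.Idx D.Idx ℤ, F (A + B) = F A + F B := fun A B => by ext i j; simp [hF]
  have fsmul : ∀ (z : ℤ) (A : Matrix D.Idx D.Idx ℤ), F (z • A) = (z : ℚ) • F A := fun z A => by
    ext i j; simp only [hF, Matrix.map_apply, Matrix.smul_apply, smul_eq_mul, Int.coe_castRingHom, Int.cast_mul]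
  have fzero : F 0 = 0 := by ext i j; simp [hF]
  cases h1 : (D.chainEntry r s)[0]? with
  | none =>
      cases h2 : (D.chainEntry r s)[1]? with
      | none => simp [fadd, fsmul, fzero, map_zero, hF]
      | some q => obtain ⟨p, hp, -⟩ := second_needs hc hr hs hneg h2; rw [h1] at hp; simp at hp
  | some p =>
      obtain ⟨p1, -⟩ := chainEntry_get hc hr (h1 ▸ rfl : p ∈ (D.chainEntry r s)[0]?)
      have c1 := (commute_of_field hc hs p1 (ok1 p h1))
      cases h2 : (D.chainEntry r s)[1]? with
      | none =>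
          simp only [Option.elim_some, Option.elim_none, map_zero, add_zero, map_smul, adV_eVec p1, fadd, fsmul,
            smul_add, smul_smul, Matrix.mul_one, Int.cast_mul]
          rw [← exp_root hc p1, ← IsNilpotent.exp_add_of_commute ((c1.smul_left c).smul_right _) (isNilp hc hs c) (isNilp hc p1 _),
            mul_assoc]
      | some q =>
          obtain ⟨q1, -⟩ := chainEntry_get hc hr (h2 ▸ rfl : q ∈ (D.chainEntry r s)[1]?)
          obtain ⟨o1, o2⟩ := ok2 p q h1 h2
          have c2 := commute_of_field hc hs q1 o1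
          have c3 := commute_of_field hc p1 q1 o2
          simp only [Option.elim_some, map_smul, adV_eVec p1, adV_eVec q1, fadd, fsmul, smul_add, smul_smul, Int.cast_mul]
          rw [← exp_root hc p1, ← exp_root hc q1, ← IsNilpotent.exp_add_of_commute ((c1.smul_left c).smul_right _)
              (isNilp hc hs c) (isNilp hc p1 _),
            ← IsNilpotent.exp_add_of_commute (((c2.smul_left c).smul_right _).add_left ((c3.smul_left _).smul_right _))
              (((c1.smul_left c).smul_right _).isNilpotent_add (isNilp hc hs c) (isNilp hc p1 _)) (isNilp hc q1 _),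
            mul_assoc]

theorem xTab_commute {a b : ℕ} (ha : a < D.nroots) (hb : b < D.nroots) (h : field (T.t1.get a) b = 0) (x y : ℚ) :
    Commute (xTab D T ℚ a x) (xTab D T ℚ b y) := by
  have hc1 := ((commute_of_field hc ha hb h).smul_left x).smul_right y
  rw [← exp_root hc ha, ← exp_root hc hb]
  show _ * _ = _ * _
  rw [← IsNilpotent.exp_add_of_commute hc1 (isNilp hc ha x) (isNilp hc hb y), add_comm,
    IsNilpotent.exp_add_of_commute hc1.symm (isNilp hc hb y) (isNilp hc ha x)]

theorem commute_symm_field {a b : ℕ} (ha : a < D.nroots) (hb : b < D.nroots) (hab : b ≠ D.neg a)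
    (h : field (T.t1.get a) b = 0) : field (T.t1.get b) a = 0 := by
  rw [field_t1 hc ha hb, if_neg hab] at h
  rw [field_t1 hc hb ha, if_neg (fun e => hab (by rw [e, neg_neg_root hc hb])), first_antisymm hc ha hb hab]
  cases hq : (D.chainEntry a b)[0]? with
  | none => rfl
  | some q =>
      obtain ⟨-, -, q3, q4, -⟩ := chainEntry_get hc ha (hq ▸ rfl : q ∈ (D.chainEntry a b)[0]?)
      rw [hq] at h
      exact absurd h (encNZ_parts q3 q4).1

theorem commOne_of_commCheck (h : commCheck D T = true)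
    (h3 : (allNat D.nroots fun a => Nat.beq (T.t3.get a) 0) = true) : CommOne D T := by
  have short : ∀ a b, a < D.nroots → (D.chainEntry a b)[2]? = none := by
    intro a b ha
    cases hq : (D.chainEntry a b)[2]? with
    | none => rfl
    | some q =>
        obtain ⟨-, -, q3, q4, -⟩ := chainEntry_get hc ha (hq ▸ rfl : q ∈ (D.chainEntry a b)[2]?)
        have := field_t3 hc (c := b) ha
        rw [nat_beq_iff.1 (allNat_iff.1 h3 a ha), field_zero, hq] at this
        exact absurd this.symm (encNZ_parts q3 q4).1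
  intro r s hr hs hrs hneg
  have hneg' : r ≠ D.neg s := fun e => hneg (by rw [e, neg_neg_root hc hs])
  have inj : Function.Injective (fun M : Matrix D.Idx D.Idx ℤ => M.map (Int.castRingHom ℚ)) :=
    Matrix.map_injective (fun a b hab => by simpa using hab)
  apply inj
  have hxmap : ∀ (k : ℕ) (z : ℤ), (xTab D T ℤ k z).map (Int.castRingHom ℚ) = xTab D T ℚ k (z : ℚ) := by
    intro k z
    ext a b
    simp only [xTab, Matrix.map_apply, Matrix.add_apply, Matrix.smul_apply, smul_eq_mul, map_add, map_mul, map_pow,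
      Matrix.one_apply, apply_ite (Int.castRingHom ℚ), map_one, map_zero, eq_intCast, Int.cast_id]
  have hwmap : ∀ w : List (ℕ × ℤ), (wordTab D T ℤ w).map (Int.castRingHom ℚ) =
      wordTab D T ℚ (w.map fun p => (p.1, (p.2 : ℚ))) := by
    intro w
    induction w with
    | nil => ext a b; simp [wordTab, Matrix.one_apply, apply_ite (Int.castRingHom ℚ)]
    | cons p l ih =>
        simp only [wordTab, List.map_cons, List.prod_cons] at ih ⊢
        rw [Matrix.map_mul, hxmap, ih]
  show (xTab D T ℤ s 1 * xTab D T ℤ r 1).map _ = (xTab D T ℤ r 1 * xTab D T ℤ s 1 * _).map _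
  rw [Matrix.map_mul, Matrix.map_mul, Matrix.map_mul, hxmap, hxmap, hwmap, Int.cast_one]
  have inv : ∀ {k : ℕ}, k < D.nroots → ∀ x : ℚ, xTab D T ℚ k x * xTab D T ℚ k (-x) = 1 ∧
      xTab D T ℚ k (-x) * xTab D T ℚ k x = 1 := fun {k} hk x =>
    ⟨by rw [xTab_add hc ℚ hk, add_neg_cancel, xTab_zero], by rw [xTab_add hc ℚ hk, neg_add_cancel, xTab_zero]⟩
  have hsym := first_antisymm hc hr hs hneg
  -- the first entries
  cases hp : (D.chainEntry r s)[0]? with
  | none =>
      rw [hp, Option.map_none] at hsym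
      have e1 : D.chainEntry r s = [] := by rw [List.getElem?_eq_none_iff] at hp; exact List.eq_nil_of_length_eq_zero (by omega)
      have e2 : D.chainEntry s r = [] := by rw [List.getElem?_eq_none_iff] at hsym; exact List.eq_nil_of_length_eq_zero (by omega)
      have hW : commInt D r s = [] := by
        simp [commInt, ChevalleyDatum.commTerms, ChevalleyDatum.chainRoot, e1, e2]
      have hcm : field (T.t1.get r) s = 0 := by
        rw [field_t1 hc hr hs, if_neg hneg, hp]; rfl
      rw [hW]
      simp only [List.map_nil, wordTab, List.prod_nil, Matrix.mul_one]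
      exact ((xTab_commute hc hr hs hcm 1 1).eq).symm
  | some p =>
      rw [hp, Option.map_some] at hsym
      obtain ⟨hp1, -⟩ := chainEntry_get hc hr (hp ▸ rfl : p ∈ (D.chainEntry r s)[0]?)
      have hok := allNat_iff.1 (allNat_iff.1 h r hr) s hs
      rw [cond_beq, cond_beq, negN_eq hc hr, if_neg hneg] at hok
      rw [field_t1 hc hr hs, if_neg hneg, hp] at hok
      rw [if_neg (show optCode (some p) ≠ 0 from (encNZ_parts (chainEntry_get hc hr (hp ▸ rfl : p ∈ (D.chainEntry r s)[0]?)).2.2.1
        (chainEntry_get hc hr (hp ▸ rfl : p ∈ (D.chainEntry r s)[0]?)).2.2.2.1).1), cond_true_iff] at hok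
      have r3 : D.chainRoot r s 3 = none := by simp [ChevalleyDatum.chainRoot, short r s hr]
      have s3 : D.chainRoot s r 3 = none := by simp [ChevalleyDatum.chainRoot, short s r hs]
      rcases hok with hok | hok
      · -- the r-chain through s commutes
        have hsr2 : (D.chainEntry s r)[1]? = none := by
          cases hq : (D.chainEntry s r)[1]? with
          | none => rfl
          | some q =>
              obtain ⟨p', hp', hne⟩ := second_needs hc hs hr hneg' hq
              rw [hsym] at hp'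
              obtain rfl := Option.some.inj hp'
              exact absurd ((okPair_spec hc hr hs hneg hok).1 p hp) hne
        have key := conj_chain hc hr hs hneg (short r s hr) hok 1 (e := -1) (by norm_num)
        rw [Int.cast_neg, Int.cast_one, neg_neg] at key
        have hW : xTab D T ℚ s 1 * wordTab D T ℚ ((commInt D r s).map fun p => (p.1, (p.2 : ℚ))) =
            xTab D T ℚ r (-1) * xTab D T ℚ s 1 * xTab D T ℚ r 1 := by
          rw [key]
          cases hq : (D.chainEntry r s)[1]? with
          | none =>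
              have s2 : D.chainRoot s r 2 = none := by simp [ChevalleyDatum.chainRoot, hsr2]
              have r2 : D.chainRoot r s 2 = none := by simp [ChevalleyDatum.chainRoot, hq]
              simp [commInt, ChevalleyDatum.commTerms, r2, r3, s2, s3, hp, wordTab, ChevalleyDatum.chainRoot,
                ChevalleyDatum.chainM, hq, hsr2, short r s hr, short s r hs]
          | some q =>
              simp [commInt, ChevalleyDatum.commTerms, wordTab, ChevalleyDatum.chainRoot, ChevalleyDatum.chainM, hp, hq,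
                hsr2, short r s hr, short s r hs, Matrix.mul_assoc]
        rw [Matrix.mul_assoc, hW, ← Matrix.mul_assoc, ← Matrix.mul_assoc, (inv hr 1).1, Matrix.one_mul]
      · -- the s-chain through r commutes
        have hrs2 : (D.chainEntry r s)[1]? = none := by
          cases hq : (D.chainEntry r s)[1]? with
          | none => rfl
          | some q =>
              obtain ⟨p', hp', hne⟩ := second_needs hc hr hs hneg hq
              rw [hp] at hp'
              obtain rfl := Option.some.inj hp'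
              exact absurd ((okPair_spec hc hs hr hneg' hok).1 _ hsym) hne
        have key := conj_chain hc hs hr hneg' (short s r hs) hok (-1) (e := -1) (by norm_num)
        rw [Int.cast_neg, Int.cast_one, neg_neg] at key
        obtain ⟨o1, o2⟩ := okPair_spec hc hs hr hneg' hok
        have hu : p.1 ≠ D.neg r := by
          intro e
          have hw := (chain_weight hc hr (k := 1) (by omega) hp).2.2
          rw [e, rv_neg hc hr] at hw
          have h2 : (2 : ℤ) • rv D T r + (1 : ℤ) • rv D T s = 0 := by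
            rw [one_smul, show rv D T s = -rv D T r - ((1 : ℕ) : ℤ) • rv D T r by rw [hw]; abel]; module
          rcases eq_or_eq_neg_of_prop hc hr s hs 2 1 (by norm_num) h2 with e' | e'
          · exact hrs e'
          · exact hneg e'
        have cr : Commute (xTab D T ℚ r 1) (xTab D T ℚ p.1 (-p.2)) :=
          xTab_commute hc hr hp1 (o1 (p.1, -p.2) hsym) _ _
        have hW : xTab D T ℚ r 1 * xTab D T ℚ s 1 * wordTab D T ℚ ((commInt D r s).map fun p => (p.1, (p.2 : ℚ))) =
            xTab D T ℚ s 1 * xTab D T ℚ r 1 := by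
          have e : wordTab D T ℚ ((commInt D r s).map fun p => (p.1, (p.2 : ℚ))) =
              xTab D T ℚ s (-1) * xTab D T ℚ r (-1) * xTab D T ℚ s 1 * xTab D T ℚ r 1 := by
            rw [key]
            cases hq : (D.chainEntry s r)[1]? with
            | none =>
                simp [commInt, ChevalleyDatum.commTerms, wordTab, ChevalleyDatum.chainRoot, ChevalleyDatum.chainM, hp,
                  hrs2, hq, hsym, short r s hr, short s r hs]
                rw [Matrix.mul_assoc, ← cr.eq, ← Matrix.mul_assoc, (inv hr 1).2, Matrix.one_mul]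
            | some q =>
                obtain ⟨q1, -⟩ := chainEntry_get hc hs (hq ▸ rfl : q ∈ (D.chainEntry s r)[1]?)
                simp [commInt, ChevalleyDatum.commTerms, wordTab, ChevalleyDatum.chainRoot, ChevalleyDatum.chainM, hp,
                  hrs2, hq, hsym, short r s hr, short s r hs]
                have cq : Commute (xTab D T ℚ r 1) (xTab D T ℚ q.1 (-q.2)) :=
                  xTab_commute hc hr q1 (o2 (p.1, -p.2) q hsym hq).1 _ _
                rw [Matrix.mul_assoc, Matrix.mul_assoc, ← cq.eq, ← Matrix.mul_assoc (xTab D T ℚ p.1 _), ← cr.eq,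
                  ← Matrix.mul_assoc, ← Matrix.mul_assoc, (inv hr 1).2, Matrix.one_mul]
          rw [e]
          simp only [← Matrix.mul_assoc]
          rw [Matrix.mul_assoc (xTab D T ℚ r 1) (xTab D T ℚ s 1) (xTab D T ℚ s (-1)), (inv hs 1).1, Matrix.mul_one,
            (inv hr 1).1, Matrix.one_mul]
        exact hW.symm

end

/-- the checks, together with the commutator formula at t = u = 1 -/
theorem exists_checked' {D : ChevalleyDatum}
    (hD : D ∈ [chevG2, chevB2, chevD4, chevF4, chevE6, chevE7, chevE8]) : ∃ T, Checked D T ∧ CommOne D T := by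
  simp only [List.mem_cons, List.not_mem_nil, or_false] at hD
  rcases hD with rfl | rfl | rfl | rfl | rfl | rfl | rfl
  · exact ⟨_, G2.checked, commOne_of_wordCheck G2.checked G2.comm_ok⟩
  · exact ⟨_, B2.checked, commOne_of_commCheck B2.checked B2.comm_ok B2.short_ok⟩
  · exact ⟨_, D4.checked, commOne_of_commCheck D4.checked D4.comm_ok D4.short_ok⟩
  · exact ⟨_, F4.checked, commOne_of_commCheck F4.checked F4.comm_ok F4.short_ok⟩
  · exact ⟨_, E6.checked, commOne_of_commCheck E6.checked E6.comm_ok E6.short_ok⟩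
  · exact ⟨_, E7.checked, commOne_of_commCheck E7.checked E7.comm_ok E7.short_ok⟩
  · exact ⟨_, E8.checked, commOne_of_commCheck E8.checked E8.comm_ok E8.short_ok⟩

/-- Chevalley's commutator formula -/
theorem x_comm (hc : Checked D T) (hcomm : CommOne D T) (F : Type*) [Field F] {r s : ℕ} (hr : r < D.nroots)
    (hs : s < D.nroots) (hrs : s ≠ r) (hneg : s ≠ D.neg r) (t u : F) :
    D.x F s u * D.x F r t = D.x F r t * D.x F s u * D.wordMat F (D.commWord F r s t u) := by
  have hterms := commTerms_weight hc hr hs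
  have hr1 : rv D T r = ((1 : ℕ) : ℤ) • rv D T r + ((0 : ℕ) : ℤ) • rv D T s := by simp
  have hs1 : rv D T s = ((0 : ℕ) : ℤ) • rv D T r + ((1 : ℕ) : ℤ) • rv D T s := by simp
  let w : List (ℕ × ℤ × ℕ × ℕ) := (D.commTerms r s).map fun c => (c.1, c.2.1 * (-1) ^ c.2.2.1, c.2.2.1, c.2.2.2)
  have hw : ∀ q ∈ w, q.1 < D.nroots ∧
      rv D T q.1 = (q.2.2.1 : ℤ) • rv D T r + (q.2.2.2 : ℤ) • rv D T s := by
    intro q hq
    obtain ⟨c, hcm, rfl⟩ := List.mem_map.1 hq
    exact ⟨(hterms c hcm).1, (hterms c hcm).2.2.2⟩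
  have L := (homog_xTab hc hr hs hrs hneg t u hs 1 hs1).mul hc hr hs hrs hneg
    (homog_xTab hc hr hs hrs hneg t u hr 1 hr1)
  have R := (((homog_xTab hc hr hs hrs hneg t u hr 1 hr1).mul hc hr hs hrs hneg
    (homog_xTab hc hr hs hrs hneg t u hs 1 hs1))).mul hc hr hs hrs hneg
    (homog_wordTab hc hr hs hrs hneg t u w hw)
  have e1 : w.map (fun q => (q.1, q.2.1)) = commInt D r s := by simp [w, commInt, Function.comp_def]
  rw [e1, ← hcomm r s hr hs hrs hneg] at R
  have key := Homog.unique L R
  simp only [pow_zero, pow_one, Int.cast_one, one_mul, mul_one] at key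
  rw [xMat_eq hc F hs, xMat_eq hc F hr, key]
  congr 1
  simp only [ChevalleyDatum.wordMat, wordTab, ChevalleyDatum.commWord, w, List.map_map]
  congr 1
  refine List.map_congr_left fun c hcm => ?_
  simp only [Function.comp_apply]
  rw [xMat_eq hc F (hterms c hcm).1]
  congr 1
  rw [neg_pow t]; push_cast; ring

end CfsgLib.Chev
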