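import Cfsg.Agent.Lib.Chev.Auto
/-
Boolean check of the commutator formula at t = u = 1, used for G₂.
-/
set_option autoImplicit false

namespace CfsgLib.Chev

open Cfsg.Lie

/-- apply the product of a word of (root, integer) pairs to a sparse vector -/
noncomputable def applyWord (D : ChevalleyDatum) (T : Tabs) (w : List (ℕ × ℤ)) (L : List (ℕ × ℤ)) : List (ℕ × ℤ) :=
  List.rec (motive := fun _ => List (ℕ × ℤ)) L (fun p _ ih => xApplyC D T p.1 p.2 ih) w

/-- the commutator word at t = u = 1 -/
def commInt (D : ChevalleyDatum) (r s : ℕ) : List (ℕ × ℤ) :=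
  (D.commTerms r s).map fun c => (c.1, c.2.1 * (-1) ^ c.2.2.1)

/-- the commutator formula at t = u = 1 for all pairs of roots -/
noncomputable def wordCheck (D : ChevalleyDatum) (T : Tabs) : Bool :=
  allNat D.nroots fun r => allNat D.nroots fun s =>
    cond (Nat.beq s r) true (cond (Nat.beq s (negN D r)) true
      (allNat (dimN D) fun a =>
        isZeroVec (cat (applyWord D T [(s, 1), (r, 1)] [(a, 1)])
          (scaleVec (-1) (applyWord D T ((r, 1) :: (s, 1) :: commInt D r s) [(a, 1)])))))

end CfsgLib.Chev
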