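import Cfsg.Agent.Lib.Chev.DefectZero
import Cfsg.Agent.Lib.Chev.RadicalCentralizer
import Cfsg.Agent.Lib.Blocks.Green
import Cfsg.Agent.Lib.Blocks.SylowDefect
import Cfsg.Agent.Lib.Blk83.Weight
import Cfsg.Agent.S0914
import Cfsg.Agent.S4733

/-!
The defect groups of the blocks of a tabulated Chevalley group with connected diagram in its own
characteristic are trivial or Sylow, and there are exactly two blocks.
-/

set_option autoImplicit false

open CfsgLib.Blocks

namespace CfsgLib.Chev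

open Cfsg.Lie
open scoped Matrix

variable {D : ChevalleyDatum} {T : Tabs} {F : Type*} [Field F]

/-- the positive roots of the subsystem of `J` -/
def SubRoot (D : ChevalleyDatum) (J : Set ℕ) (r : ℕ) : Prop := D.nroots / 2 ≤ r ∧ D.InRootSub J r

/-- the unipotent part of a standard Levi subgroup, inside the group -/
abbrev Usub (D : ChevalleyDatum) (F : Type*) [Field F] (J : Set ℕ) : Subgroup ↥(D.group F) :=
  (uGen D F (SubRoot D J)).subgroupOf (D.group F)

theorem mem_map_conj {G : Type*} [Group G] {H : Subgroup G} {x y : G} :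
    y ∈ H.map (MulAut.conj x).toMonoidHom ↔ x⁻¹ * y * x ∈ H := by
  rw [Subgroup.mem_map]
  constructor
  · rintro ⟨z, hz, rfl⟩
    simpa [mul_assoc] using hz
  · intro h
    exact ⟨_, h, by simp [mul_assoc]⟩

variable (hc : Checked D T)
include hc

theorem closedPos_sub (J : Set ℕ) : ClosedPos D T (SubRoot D J) := by
  refine ⟨fun r _ h => h.1, fun r s v hr hs h1 h2 hv =>
    ⟨(closedPos_pos hc).2 r s v hr hs h1.1 h2.1 hv, ?_⟩⟩
  obtain ⟨hvn, a, b, -, -, e⟩ := hv
  rw [inRootSub_iff hc]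
  refine ⟨hvn, fun j hj => ?_⟩
  rw [e, Pi.add_apply, Pi.smul_apply, Pi.smul_apply, ((inRootSub_iff hc).1 h1.2).2 j hj,
    ((inRootSub_iff hc).1 h2.2).2 j hj]
  simp

/-- a leading root of an element of a closed subgroup is a root of it -/
theorem root_of_lead (hcomm : CommOne D T) {P : ℕ → Prop} (hP : ClosedPos D T P) {r : ℕ}
    (hr : r < D.nroots) (hrp : D.nroots / 2 ≤ r) {c : F} (hne : c ≠ 0) {k : GL D.Idx F}
    (hk : k ∈ uGen D F (fun s => r < s)) (hg : elX D F r c * k ∈ uGen D F P) : P r := by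
  obtain ⟨t, ht⟩ := uGen_exists hc hcomm hP hg
  obtain ⟨j, hj⟩ := exists_cv_ne_zero hc F hr
  have hhead : ((elX D F r c * k : GL D.Idx F) : Matrix D.Idx D.Idx F) (Sum.inl j)
      (Sum.inr ⟨D.neg r, neg_lt hc hr⟩) = (cv T r j : F) * c := coord_eq hc hr hrp c hk j
  suffices key : ∀ d l, r - l = d → l ≤ r → elX D F r c * k = uProd D F (rootsFrom D P l) t → P r
    from key _ 0 rfl (Nat.zero_le _) ht
  intro d
  induction d with
  | zero =>
      intro l hl hlr e
      obtain rfl : l = r := le_antisymm hlr (by omega)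
      by_contra hPl
      rw [rootsFrom_eq_skip hr hPl] at e
      have h0 := coord_eq hc hr hrp (0 : F)
        (uGen_mono (fun s _ (hs : P s ∧ l + 1 ≤ s) => (hs.2 : l < s))
          (uProd_mem hc (P := P) (l + 1) t)) j
      rw [elX_zero hc F hr, one_mul, ← e, hhead, mul_zero] at h0
      exact mul_ne_zero hj hne h0
  | succ d ih =>
      intro l hl hlr e
      have hlr' : l < r := by omega
      have hln : l < D.nroots := by omega
      by_cases hPl : P l
      · rw [rootsFrom_eq_cons hln hPl] at e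
        rw [uProd, List.map_cons, List.prod_cons] at e
        have hlp := hP.1 l hln hPl
        obtain ⟨i, hi⟩ := exists_cv_ne_zero hc F hln
        have h1 := coord_eq hc hln hlp (0 : F) (show elX D F r c * k ∈ uGen D F (fun s => l < s) from
          mul_mem (elX_mem_uGen hr (P := fun s => l < s) hlr' c)
            (uGen_mono (fun s _ (hs : r < s) => (show l < s by omega)) hk)) i
        have hmem : uProd D F (rootsFrom D P (l + 1)) t ∈ uGen D F (fun s => l < s) :=
          uGen_mono (fun s _ hs => hs.2) (uProd_mem hc (P := P) (l + 1) t)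
        have h2 := coord_eq hc hln hlp (t l) hmem i
        have e' : elX D F l (t l) * uProd D F (rootsFrom D P (l + 1)) t = elX D F r c * k := e.symm
        rw [elX_zero hc F hln, one_mul, mul_zero] at h1
        rw [e', h1] at h2
        have ht0 : t l = 0 := (mul_eq_zero.1 h2.symm).resolve_left hi
        refine ih (l + 1) (by omega) (by omega) ?_
        rw [← e', ht0, elX_zero hc F hln, one_mul]
      · rw [rootsFrom_eq_skip hln hPl] at e
        exact ih (l + 1) (by omega) (by omega) e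

variable (hcomm : CommOne D T)
include hcomm

variable [Finite F] {p : ℕ} [Fact p.Prime] [CharP F p] {M : Ideal Cfsg.AlgInt} [M.IsMaximal]

/-- A defect group inside `U` is conjugate under `U` to the unipotent part of a Levi subgroup. -/
theorem defect_in_ug (hM : Cfsg.IsPModular p M) {B : Set (Cfsg.IrrCharacter ↥(D.group F))}
    (hB : Cfsg.IsPBlock M B) {E : Subgroup ↥(D.group F)} (hE : Cfsg.IsDefectGroup p M B E)
    (hEU : E ≤ Ug D F) :
    ∃ J : Set ℕ, ∃ u ∈ Ug D F, ∀ y, y ∈ E ↔ u⁻¹ * y * u ∈ Usub D F J := by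
  classical
  obtain ⟨S, hS⟩ := ChevAut.sylow_pos hc hcomm (F := F) p
  obtain ⟨x, -, hcs, hint⟩ := green hM hB hE S (by rw [hS]; exact hEU)
  obtain ⟨L, u, t, v, hu, ht, hv, hxe⟩ := ChevField.exists_bruhat hc hcomm x.2
  have hvU : v ∈ uGen D F (fun r => D.nroots / 2 ≤ r) := uGen_mono (fun r _ h => h.1) hv
  let ug : ↥(D.group F) := ⟨u, pos_le_group hc hu⟩
  set m := nProd D F L with hm
  let J : Set ℕ := {i | ∃ h : i < D.rank,
    D.nroots / 2 ≤ sigs D T L.reverse (D.simple (⟨i, h⟩ : Fin D.rank).val)}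
  refine ⟨J, ug, hu, ?_⟩
  -- membership in the defect group
  have hEmem : ∀ y : ↥(D.group F), y ∈ E ↔
      (u⁻¹ * (y : GL D.Idx F) * u ∈ uGen D F (fun r => D.nroots / 2 ≤ r) ∧
        m⁻¹ * (u⁻¹ * (y : GL D.Idx F) * u) * m ∈ uGen D F (fun r => D.nroots / 2 ≤ r)) := by
    intro y
    rw [← hint, mem_inf_map_conj_iff, hS, Subgroup.mem_subgroupOf, Subgroup.mem_subgroupOf]
    simp only [Subgroup.coe_mul, InvMemClass.coe_inv]
    refine and_congr ⟨fun h => ?_, fun h => ?_⟩ ⟨fun h => ?_, fun h => ?_⟩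
    · exact mul_mem (mul_mem (inv_mem hu) h) hu
    · have := mul_mem (mul_mem hu h) (inv_mem hu)
      convert this using 1; group
    · rw [hxe] at h
      have h1 := mul_mem (mul_mem hvU h) (inv_mem hvU)
      obtain ⟨t', ht', et⟩ : ∃ t' ∈ D.diagonalSubgroup F, t * m = m * t' :=
        ⟨m⁻¹ * t * m, by
          simpa using monomial_conj_diagonal hc (inv_mem (nProd_mem_monomial hc (F := F) L)) ht, by group⟩
      have h2 : v * ((u * t * m * v)⁻¹ * (y : GL D.Idx F) * (u * t * m * v)) * v⁻¹ =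
          t'⁻¹ * (m⁻¹ * (u⁻¹ * (y : GL D.Idx F) * u) * m) * t' := by
        rw [show u * t * m * v = u * (t * m) * v by group, et]; group
      rw [h2] at h1
      have h3 := diag_conj_mem hc (fun r => D.nroots / 2 ≤ r) ht' h1
      convert h3 using 1; group
    · rw [hxe]
      obtain ⟨t', ht', et⟩ : ∃ t' ∈ D.diagonalSubgroup F, t * m = m * t' :=
        ⟨m⁻¹ * t * m, by
          simpa using monomial_conj_diagonal hc (inv_mem (nProd_mem_monomial hc (F := F) L)) ht, by group⟩
      have h1 := mul_mem (mul_mem (inv_mem hvU) (diag_conj_mem' hc (fun r => D.nroots / 2 ≤ r) ht' h)) hvU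
      rw [show u * t * nProd D F L * v = u * (t * m) * v by rw [hm]; group, et]
      convert h1 using 1; group
  -- conjugation of root elements
  have hconj : ∀ r, r < D.nroots → ∃ c : F, c ≠ 0 ∧ ∀ a : F,
      m⁻¹ * elX D F r a * m = elX D F (sigs D T L.reverse r) (c * a) := by
    intro r hr
    obtain ⟨c, -, hcx⟩ := nProd_conj_elX hc (F := F) L (sigs_lt hc L.reverse hr)
    have hLr : sigs D T L (sigs D T L.reverse r) = r := by
      have := sigs_reverse hc L.reverse hr
      rwa [List.reverse_reverse] at this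
    refine ⟨(c : F)⁻¹, inv_ne_zero c.ne_zero, fun a => ?_⟩
    have h := hcx ((c : F)⁻¹ * a)
    rw [mul_inv_cancel_left₀ c.ne_zero, hLr] at h
    rw [← h, hm]
    group
  -- roots kept positive are fixed
  have hfix : ∀ r, r < D.nroots → D.nroots / 2 ≤ r → D.nroots / 2 ≤ sigs D T L.reverse r →
      sigs D T L.reverse r = r := by
    intro r hr hrp hpos
    obtain ⟨c, hc0, hcx⟩ := hconj r hr
    let y : ↥(D.group F) := ⟨u * elX D F r 1 * u⁻¹,
      mul_mem (mul_mem (pos_le_group hc hu) (elX_mem_group hc hr 1)) (inv_mem (pos_le_group hc hu))⟩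
    have hey : u⁻¹ * (u * elX D F r 1 * u⁻¹) * u = elX D F r 1 := by group
    have hyE : y ∈ E := (hEmem y).2 ⟨by
      show u⁻¹ * (u * elX D F r 1 * u⁻¹) * u ∈ _
      rw [hey]; exact elX_mem_uGen hr (P := fun r => D.nroots / 2 ≤ r) hrp 1, by
      show m⁻¹ * (u⁻¹ * (u * elX D F r 1 * u⁻¹) * u) * m ∈ _
      rw [hey, hcx]; exact elX_mem_uGen (sigs_lt hc _ hr) (P := fun r => D.nroots / 2 ≤ r) hpos _⟩
    have hxy := congrArg Subtype.val (Subgroup.mem_centralizer_iff.1 hcs.mem_centralizer y hyE)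
    simp only [Subgroup.coe_mul, y, hxe] at hxy
    obtain ⟨χ, hχ⟩ := (mem_diagonal hc).1 ht
    have h1 : t * (m * (v * u) * elX D F r 1 * (v * u)⁻¹ * m⁻¹) * t⁻¹ = elX D F r 1 := by
      calc t * (m * (v * u) * elX D F r 1 * (v * u)⁻¹ * m⁻¹) * t⁻¹
          = u⁻¹ * ((u * t * m * v) * (u * elX D F r 1 * u⁻¹)) * (u * t * m * v)⁻¹ * u := by group
        _ = u⁻¹ * ((u * elX D F r 1 * u⁻¹) * (u * t * m * v)) * (u * t * m * v)⁻¹ * u := by rw [hm, hxy]
        _ = _ := by group
    have h2 := torus_conj_elX hc (hPar D F χ)⁻¹ hr (1 : F)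
    rw [map_inv, hχ, inv_inv] at h2
    have h3 : elX D F (sigs D T L.reverse r)
        (c * (((chi (hPar D F χ)⁻¹ (rv D T r) : Fˣ) : F) * 1)) =
        elX D F r 1 * ((elX D F r 1)⁻¹ * ((v * u) * elX D F r 1 * (v * u)⁻¹)) := by
      rw [← hcx, ← h2]
      conv_lhs => rw [← h1]
      group
    exact (eq_of_lead hc hr hrp (sigs_lt hc _ hr) one_ne_zero
      (mul_ne_zero hc0 (mul_ne_zero (Units.ne_zero _) one_ne_zero))
      (pos_conj_lead hc hcomm hr hrp (mul_mem hvU hu) 1) h3).1
  have hJpos : ∀ j : Fin D.rank, (j : ℕ) ∈ J ↔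
      D.nroots / 2 ≤ sigs D T L.reverse (D.simple j.val) :=
    fun j => ⟨fun ⟨_, h⟩ => h, fun h => ⟨j.2, h⟩⟩
  have hJfix : ∀ j : Fin D.rank, (j : ℕ) ∈ J →
      refls D L.reverse (Pi.single j 1) = (Pi.single j 1 : Fin D.rank → ℤ) := by
    intro j hj
    have hp := simple_lt hc j.2
    have h1 := congrArg (rv D T) (hfix _ hp (half_le_simple hc j.2) ((hJpos j).1 hj))
    rwa [rv_sigs hc _ hp, rv_simple hc] at h1
  have hJneg : ∀ j : Fin D.rank, (j : ℕ) ∉ J →
      keyLin D (refls D L.reverse (Pi.single j 1)) < keyLin D (Pi.single j 1) := by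
    intro j hj
    have hp := simple_lt hc j.2
    have h1 : sigs D T L.reverse (D.simple j.val) < D.nroots / 2 := by
      by_contra h; exact hj ((hJpos j).2 (by omega))
    have h2 := (key_neg_iff hc (sigs_lt hc _ hp)).2 h1
    have h3 := (key_pos_iff hc hp).2 (half_le_simple hc j.2)
    rw [rv_sigs hc _ hp, rv_simple hc] at h2
    rw [rv_simple hc] at h3
    omega
  -- the roots kept positive are those of the subsystem
  have hroot : ∀ r, r < D.nroots → D.nroots / 2 ≤ r →
      (D.nroots / 2 ≤ sigs D T L.reverse r ↔ D.InRootSub J r) := by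
    intro r hr hrp
    have hkey : keyLin D (rv D T (sigs D T L.reverse r)) =
        ∑ j, rv D T r j * keyLin D (refls D L.reverse (Pi.single j 1)) := by
      rw [rv_sigs hc _ hr, keyLin_refls]
    have hkey0 : keyLin D (rv D T r) = ∑ j, rv D T r j * keyLin D (Pi.single j 1) :=
      keyLin_refls (D := D) [] (rv D T r)
    constructor
    · intro h
      rw [hfix r hr hrp h, hkey0] at hkey
      rw [inRootSub_iff hc]
      refine ⟨hr, fun j hj => ?_⟩
      by_contra hne
      have hle : ∀ i, rv D T r i * keyLin D (refls D L.reverse (Pi.single i 1)) ≤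
          rv D T r i * keyLin D (Pi.single i 1) := by
        intro i
        refine mul_le_mul_of_nonneg_left ?_ (rv_nonneg hc hr hrp i)
        by_cases hi : (i : ℕ) ∈ J
        · rw [hJfix i hi]
        · exact (hJneg i hi).le
      exact (Finset.sum_lt_sum (fun i _ => hle i) ⟨j, Finset.mem_univ _,
        mul_lt_mul_of_pos_left (hJneg j hj)
          (lt_of_le_of_ne (rv_nonneg hc hr hrp j) (Ne.symm hne))⟩).ne' hkey
    · intro h
      rw [inRootSub_iff hc] at h
      refine (key_pos_iff hc (sigs_lt hc _ hr)).1 ?_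
      have hk : keyLin D (rv D T (sigs D T L.reverse r)) = keyLin D (rv D T r) := by
        rw [hkey, hkey0]
        refine Finset.sum_congr rfl fun j _ => ?_
        by_cases hj : (j : ℕ) ∈ J
        · rw [hJfix j hj]
        · rw [h.2 j hj, zero_mul, zero_mul]
      rw [hk]
      exact (key_pos_iff hc hr).2 hrp
  -- both inclusions
  intro y
  rw [hEmem, Subgroup.mem_subgroupOf]
  simp only [Subgroup.coe_mul, InvMemClass.coe_inv]
  show _ ↔ u⁻¹ * (y : GL D.Idx F) * u ∈ _
  have hsub : ∀ g ∈ uGen D F (SubRoot D J), g ∈ uGen D F (fun r => D.nroots / 2 ≤ r) ∧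
      m⁻¹ * g * m ∈ uGen D F (fun r => D.nroots / 2 ≤ r) := by
    intro g hg
    refine ⟨uGen_mono (fun r _ h => h.1) hg, ?_⟩
    have hle : uGen D F (SubRoot D J) ≤
        (uGen D F (fun r => D.nroots / 2 ≤ r)).comap (MulAut.conj m⁻¹).toMonoidHom := by
      rw [uGen_le_iff]
      intro r hr hP a
      obtain ⟨c, -, hcx⟩ := hconj r hr
      rw [Subgroup.mem_comap, MulEquiv.coe_toMonoidHom, MulAut.conj_apply, inv_inv, hcx]
      exact elX_mem_uGen (sigs_lt hc _ hr) (P := fun r => D.nroots / 2 ≤ r)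
        ((hroot r hr hP.1).2 hP.2) _
    have := hle hg
    rwa [Subgroup.mem_comap, MulEquiv.coe_toMonoidHom, MulAut.conj_apply, inv_inv] at this
  refine ⟨fun h => ?_, fun h => hsub _ h⟩
  obtain ⟨a, ha, b, hb, hab⟩ := uGen_split hc hcomm (closedPos_pos hc) (Q := OutRoot D J)
    (R := SubRoot D J)
    (fun r _ hp => by by_cases h : D.InRootSub J r; exacts [Or.inr ⟨hp, h⟩, Or.inl ⟨hp, h⟩]) h.1
  have hneg : m⁻¹ * a * m ∈ uGen D F (fun r => r < D.nroots / 2) := by
    have hle : uGen D F (OutRoot D J) ≤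
        (uGen D F (fun r => r < D.nroots / 2)).comap (MulAut.conj m⁻¹).toMonoidHom := by
      rw [uGen_le_iff]
      intro r hr hP a
      obtain ⟨c, -, hcx⟩ := hconj r hr
      rw [Subgroup.mem_comap, MulEquiv.coe_toMonoidHom, MulAut.conj_apply, inv_inv, hcx]
      refine elX_mem_uGen (sigs_lt hc _ hr) (P := fun r => r < D.nroots / 2) ?_ _
      by_contra hh
      exact hP.2 ((hroot r hr hP.1).1 (by omega))
    have := hle ha
    rwa [Subgroup.mem_comap, MulEquiv.coe_toMonoidHom, MulAut.conj_apply, inv_inv] at this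
  have hpos : m⁻¹ * a * m ∈ uGen D F (fun r => D.nroots / 2 ≤ r) := by
    have h1 := mul_mem h.2 (inv_mem (hsub b hb).2)
    convert h1 using 1
    rw [hab]; group
  have ha1 := ChevAut.pos_inf_neg hc hpos hneg
  have hae : a = 1 := by
    have := congrArg (fun z => m * z * m⁻¹) ha1
    simpa [mul_assoc] using this
  rw [hab, hae, one_mul]
  exact hb

/-- The unipotent part of a proper Levi subgroup is not a defect group. -/
theorem usub_not_defect (hM : Cfsg.IsPModular p M) {B : Set (Cfsg.IrrCharacter ↥(D.group F))}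
    (hB : Cfsg.IsPBlock M B) {J : Set ℕ} {i k : Fin D.rank} (hi : (i : ℕ) ∉ J)
    (hk : (k : ℕ) ∈ J) (hik : cm D i k ≠ 0) : ¬ Cfsg.IsDefectGroup p M B (Usub D F J) := by
  intro hE
  have hp := simple_lt hc i.2
  have hkp := simple_lt hc k.2
  have hne : k ≠ i := fun e => hi (e ▸ hk)
  have hcomp : ∀ g ∈ uGen D F (SubRoot D J), g ∈ uGen D F (CompRoot D i) := fun g hg =>
    uGen_mono (fun r hr h => ⟨h.1, fun e => by
      have h1 := ((inRootSub_iff hc).1 h.2).2 i hi
      rw [e, rv_simple hc, Pi.single_eq_same] at h1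
      exact one_ne_zero h1⟩) hg
  set n := nG hc i (1 : F) with hn
  have hE' := CfsgLib.Blocks.IsDefectGroup.conj' hE n
  have hE'comp : ∀ y ∈ (Usub D F J).map (MulAut.conj n).toMonoidHom,
      (y : GL D.Idx F) ∈ uGen D F (CompRoot D i) := by
    rintro y hy
    rw [mem_map_conj, Subgroup.mem_subgroupOf] at hy
    have h2 := nOne_conj_comp hc i (hcomp _ hy)
    simp only [Subgroup.coe_mul, InvMemClass.coe_inv, hn, nG] at h2
    convert h2 using 1
    group
  obtain ⟨J', u, hu, huE⟩ := defect_in_ug hc hcomm hM hB hE' fun y hy =>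
    Subgroup.mem_subgroupOf.2 (uGen_mono (fun r _ h => h.1) (hE'comp y hy))
  set s := sig D T i (D.simple k.val) with hsdef
  have hs := sig_lt hc i hkp
  have hsp := (sig_pos hc i hkp (half_le_simple hc k.2)
    (fun e => hne (Fin.ext (simple_inj hc k.2 i.2 e)))).1
  have hkJ : elX D F (D.simple k.val) 1 ∈ uGen D F (SubRoot D J) :=
    elX_mem_uGen hkp (P := SubRoot D J) ⟨half_le_simple hc k.2, (inRootSub_iff hc).2 ⟨hkp, fun j hj => by
      rw [rv_simple hc, Pi.single_eq_of_ne fun (e : j = k) => hj (by rw [e]; exact hk)]⟩⟩ 1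
  set e : F := (eta D T i (D.simple k.val) : F) with he
  have he0 : e ≠ 0 := by rcases eta_cast hc (F := F) i hkp with h | h <;> simp [he, h]
  let y : ↥(D.group F) := ⟨elX D F s e, elX_mem_group hc hs _⟩
  have hyE : y ∈ (Usub D F J).map (MulAut.conj n).toMonoidHom := by
    rw [mem_map_conj, Subgroup.mem_subgroupOf]
    show (elN D F (D.simple i.val) 1)⁻¹ * elX D F s e * elN D F (D.simple i.val) 1 ∈ _
    have h := nOne_conj_elX hc (F := F) i hkp 1
    rw [mul_one] at h
    rw [hsdef, he, ← h]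
    convert hkJ using 1
    group
  have hy1 : (u : GL D.Idx F)⁻¹ * elX D F s e * u ∈ uGen D F (SubRoot D J') :=
    Subgroup.mem_subgroupOf.1 ((huE y).1 hyE)
  have hsJ : SubRoot D J' s := by
    refine root_of_lead hc hcomm (closedPos_sub hc J') hs hsp he0
      (pos_conj_lead hc hcomm hs hsp (inv_mem (Subgroup.mem_subgroupOf.1 hu)) e) ?_
    rw [mul_inv_cancel_left, inv_inv]
    exact hy1
  have hiJ' : (i : ℕ) ∈ J' := by
    by_contra h
    have h1 := ((inRootSub_iff hc).1 hsJ.2).2 i h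
    rw [hsdef, rv_sig hc i hkp, rv_simple hc, refl, Pi.sub_apply, Pi.single_eq_same,
      Pi.single_eq_of_ne hne.symm, Finset.sum_eq_single k] at h1
    · rw [Pi.single_eq_same, mul_one] at h1
      exact hik (by omega)
    · intro j _ hj; rw [Pi.single_eq_of_ne hj, mul_zero]
    · simp
  let z : ↥(D.group F) := u * xG hc hp 1 * u⁻¹
  have hzE : z ∈ (Usub D F J).map (MulAut.conj n).toMonoidHom := by
    refine (huE z).2 ?_
    rw [show u⁻¹ * z * u = xG hc hp 1 by simp only [z]; group]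
    exact elX_mem_uGen hp (P := SubRoot D J') ⟨half_le_simple hc i.2,
      (inRootSub_iff hc).2 ⟨hp, fun j hj => by
        rw [rv_simple hc, Pi.single_eq_of_ne fun (e : j = i) => hj (by rw [e]; exact hiJ')]⟩⟩ 1
  refine (root_of_lead hc hcomm (closedPos_comp hc i) hp (half_le_simple hc i.2) one_ne_zero
    (pos_conj_lead hc hcomm hp (half_le_simple hc i.2) (Subgroup.mem_subgroupOf.1 hu) 1) ?_).2 rfl
  rw [mul_inv_cancel_left]
  exact hE'comp z hzE

/-- The defect groups: trivial, or all Sylow subgroups. -/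
theorem defect_cases (hadj : ∀ K : Finset (Fin D.rank), K.Nonempty → K ≠ Finset.univ →
      ∃ i ∉ K, ∃ k ∈ K, cm D i k ≠ 0)
    (hM : Cfsg.IsPModular p M) {B : Set (Cfsg.IrrCharacter ↥(D.group F))}
    (hB : Cfsg.IsPBlock M B) {E : Subgroup ↥(D.group F)} (hE : Cfsg.IsDefectGroup p M B E) :
    E = ⊥ ∨ ∀ P : Sylow p ↥(D.group F),
      Cfsg.IsDefectGroup p M B (P : Subgroup ↥(D.group F)) := by
  classical
  obtain ⟨S, hS⟩ := ChevAut.sylow_pos hc hcomm (F := F) p
  obtain ⟨P₀, hP₀⟩ := (isPGroup_defectGroup hE).exists_le_sylow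
  obtain ⟨g, hg⟩ := MulAction.exists_smul_eq ↥(D.group F) P₀ S
  have hE1 := CfsgLib.Blocks.IsDefectGroup.conj' hE g
  have hle : E.map (MulAut.conj g).toMonoidHom ≤ Ug D F := by
    refine le_trans (Subgroup.map_mono hP₀) (le_of_eq ?_)
    exact Eq.trans (congrArg (fun Q : Sylow p ↥(D.group F) => (Q : Subgroup ↥(D.group F))) hg) hS
  obtain ⟨J, u, hu, huE⟩ := defect_in_ug hc hcomm hM hB hE1 hle
  have hE2 := CfsgLib.Blocks.IsDefectGroup.conj' hE1 u⁻¹
  have hmap : (E.map (MulAut.conj g).toMonoidHom).map (MulAut.conj u⁻¹).toMonoidHom = Usub D F J := by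
    ext y
    rw [mem_map_conj, huE]
    rw [show u⁻¹ * (u⁻¹⁻¹ * y * u⁻¹) * u = y by group]
  rw [hmap] at hE2
  let K : Finset (Fin D.rank) := Finset.univ.filter fun i => (i : ℕ) ∈ J
  by_cases hK0 : K.Nonempty
  · refine Or.inr fun P => ?_
    have hKu : K = Finset.univ := by
      by_contra hKu
      obtain ⟨i, hi, k, hk, hik⟩ := hadj K hK0 hKu
      exact usub_not_defect hc hcomm hM hB (by simpa [K] using hi) (by simpa [K] using hk) hik hE2
    have hU : Usub D F J = (S : Subgroup ↥(D.group F)) := by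
      rw [hS]
      show (uGen D F (SubRoot D J)).subgroupOf _ = _
      rw [uGen_congr (Q := fun r => D.nroots / 2 ≤ r) fun r hr => ⟨fun h => h.1, fun h =>
        ⟨h, (inRootSub_iff hc).2 ⟨hr, fun j hj => absurd (show (j : ℕ) ∈ J by
          simpa [K] using (hKu ▸ Finset.mem_univ j : j ∈ K)) hj⟩⟩⟩]
    obtain ⟨y, hy⟩ := MulAction.exists_smul_eq ↥(D.group F) S P
    have h3 := CfsgLib.Blocks.IsDefectGroup.conj' hE2 y
    rw [hU] at h3
    rw [← hy]
    exact h3
  · refine Or.inl ?_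
    have hJ : Usub D F J = ⊥ := by
      rw [eq_bot_iff]
      intro y hy
      have hle' : uGen D F (SubRoot D J) ≤ (⊥ : Subgroup (GL D.Idx F)) := by
        rw [uGen_le_iff]
        intro r hr hP a
        exfalso
        refine rv_ne_zero hc hr (funext fun j => ((inRootSub_iff hc).1 hP.2).2 j fun hj => hK0 ⟨j, ?_⟩)
        simpa [K] using hj
      exact Subgroup.mem_bot.2 (Subtype.ext (Subgroup.mem_bot.1 (hle' hy)))
    rw [hJ] at hmap
    rwa [Subgroup.map_eq_bot_iff_of_injective _ (MulAut.conj u⁻¹).injective,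
      Subgroup.map_eq_bot_iff_of_injective _ (MulAut.conj g).injective] at hmap

omit [M.IsMaximal] in
/-- A regular element centralising a Sylow subgroup is trivial. -/
theorem eq_one_of_centralizes (htest : linkTest D = true) (hrank : 0 < D.rank)
    (S : Sylow p ↥(D.group F)) (hS : (S : Subgroup ↥(D.group F)) = Ug D F) {g : ↥(D.group F)}
    (hreg : ¬ p ∣ orderOf g)
    (hg : g ∈ Subgroup.centralizer ((S : Subgroup ↥(D.group F)) : Set ↥(D.group F))) : g = 1 := by
  have hgU : g ∈ Ug D F := by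
    refine Subgroup.mem_subgroupOf.2 (centralizer_radical_le_pos hc hcomm htest (J := ∅)
      ⟨0, hrank, Set.notMem_empty _⟩ g.2 fun x hx => ?_)
    have hxU := uGen_mono (Q := fun r => D.nroots / 2 ≤ r) (fun r _ h => h.1) hx
    have h := congrArg Subtype.val (Subgroup.mem_centralizer_iff.1 hg
      ⟨x, pos_le_group hc hxU⟩ (by rw [hS]; exact hxU))
    simp only [Subgroup.coe_mul] at h
    rw [← h, mul_inv_cancel_right]
  rw [← hS] at hgU
  obtain ⟨j, hj⟩ := IsPGroup.iff_orderOf.1 S.2 ⟨g, hgU⟩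
  rw [← Subgroup.orderOf_coe] at hj
  change orderOf g = p ^ j at hj
  rcases Nat.eq_zero_or_pos j with h | h
  · rw [h, pow_zero] at hj; exact orderOf_eq_one_iff.1 hj
  · exact absurd (hj ▸ dvd_pow_self p h.ne') hreg

/-- exactly one block of defect zero -/
theorem card_defect_bot (hM : Cfsg.IsPModular p M) :
    Nat.card {B : Set (Cfsg.IrrCharacter ↥(D.group F)) //
      Cfsg.IsPBlock M B ∧ Cfsg.IsDefectGroup p M B ⊥} = 1 := by
  classical
  obtain ⟨S, hS⟩ := ChevAut.sylow_pos hc hcomm (F := F) p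
  set χ : Cfsg.IrrCharacter ↥(D.group F) :=
    ⟨D.steinbergCharacter F, isIrrCharacter_steinberg hc hcomm⟩ with hχ
  set a := (Nat.card ↥(D.group F)).factorization p with ha
  have hdeg : Cfsg.charDegree (χ : ↥(D.group F) → ℂ) = p ^ a := by
    rw [hχ, charDegree_steinberg hc hcomm, factorization_posUnipotent hc hcomm p]
  have hsing : Cfsg.blockOf M (χ : ↥(D.group F) → ℂ) = {χ} :=
    (Cfsg.Agent.S0914.result p M hM χ).1 (by
      rw [hdeg]
      exact Nat.not_dvd_ordCompl Fact.out Nat.card_pos.ne')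
  have hzero : ∀ ψ : Cfsg.IrrCharacter ↥(D.group F),
      Cfsg.blockDefect p {ψ} = a - (Cfsg.charDegree (ψ : ↥(D.group F) → ℂ)).factorization p := fun ψ => by
    rw [Cfsg.blockDefect, Set.image_singleton, csInf_singleton]
  have hB : Cfsg.IsPBlock M (Cfsg.blockOf M (χ : ↥(D.group F) → ℂ)) := ⟨χ, rfl⟩
  obtain ⟨E, hE⟩ := exists_defectGroup hM hB
  have hE0 : E = ⊥ := Subgroup.eq_bot_of_card_eq E (by
    rw [card_defectGroup hM hB hE, hsing, hzero, hdeg, (Fact.out : p.Prime).factorization_pow,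
      Finsupp.single_eq_same, Nat.sub_self, pow_zero])
  rw [Nat.card_eq_one_iff_unique]
  refine ⟨⟨?_⟩, ⟨⟨_, hB, hE0 ▸ hE⟩⟩⟩
  suffices h : ∀ B : Set (Cfsg.IrrCharacter ↥(D.group F)),
      Cfsg.IsPBlock M B → Cfsg.IsDefectGroup p M B ⊥ → B = {χ} from
    fun B B' => Subtype.ext ((h _ B.2.1 B.2.2).trans (h _ B'.2.1 B'.2.2).symm)
  intro B hB' hbot
  have hd : Cfsg.blockDefect p B = 0 := by
    have h := card_defectGroup hM hB' hbot
    rw [Subgroup.card_bot, eq_comm, Nat.pow_eq_one] at h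
    exact h.resolve_left (Fact.out : p.Prime).ne_one
  obtain ⟨ψ, -, rfl⟩ := Cfsg.Agent.S4733.eq_singleton_of_defect_zero hM hB' hd
  rw [hzero] at hd
  have hfull : (Cfsg.charDegree (ψ : ↥(D.group F) → ℂ)).factorization p = a :=
    le_antisymm (CfsgLib.BlockReg.factorization_deg_le ψ) (by omega)
  refine congrArg (fun x => ({x} : Set _)) (Subtype.ext ?_)
  refine eq_steinberg_of_vanishing hc hcomm ψ.2 fun u hu hne =>
    CfsgLib.Blk83.vanish_of_defect_zero Fact.out ψ.2 hfull ?_
  have hu' : u ∈ (S : Subgroup ↥(D.group F)) := by rw [hS]; exact hu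
  obtain ⟨j, hj⟩ := IsPGroup.iff_orderOf.1 S.2 ⟨u, hu'⟩
  rw [← Subgroup.orderOf_coe] at hj
  change orderOf u = p ^ j at hj
  rw [hj]
  refine dvd_pow_self p fun h => hne ?_
  rwa [h, pow_zero, orderOf_eq_one_iff] at hj

/-- exactly two blocks -/
theorem card_blocks_two (htest : linkTest D = true) (hrank : 0 < D.rank)
    (hadj : ∀ K : Finset (Fin D.rank), K.Nonempty → K ≠ Finset.univ →
      ∃ i ∉ K, ∃ k ∈ K, cm D i k ≠ 0)
    (hM : Cfsg.IsPModular p M) :
    Nat.card {B : Set (Cfsg.IrrCharacter ↥(D.group F)) // Cfsg.IsPBlock M B} = 2 := by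
  classical
  obtain ⟨S, hS⟩ := ChevAut.sylow_pos hc hcomm (F := F) p
  have hS0 : (S : Subgroup ↥(D.group F)) ≠ ⊥ := by
    intro h
    have hp := simple_lt hc (i := 0) hrank
    have hmem : xG hc hp (1 : F) ∈ (S : Subgroup ↥(D.group F)) := by
      rw [hS]
      exact elX_mem_uGen hp (P := fun r => D.nroots / 2 ≤ r) (half_le_simple hc hrank) 1
    rw [h, Subgroup.mem_bot] at hmem
    exact one_ne_zero ((elX_eq_one_iff hc hp (1 : F)).1 (congrArg Subtype.val hmem))
  have e : Nat.card {B : Set (Cfsg.IrrCharacter ↥(D.group F)) // Cfsg.IsPBlock M B} =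
      Nat.card ({B : Set (Cfsg.IrrCharacter ↥(D.group F)) //
        Cfsg.IsPBlock M B ∧ Cfsg.IsDefectGroup p M B (S : Subgroup ↥(D.group F))} ⊕
      {B : Set (Cfsg.IrrCharacter ↥(D.group F)) //
        Cfsg.IsPBlock M B ∧ Cfsg.IsDefectGroup p M B ⊥}) := by
    refine (Nat.card_eq_of_bijective
      (Sum.elim (fun B => ⟨B.1, B.2.1⟩) (fun B => ⟨B.1, B.2.1⟩)) ⟨?_, ?_⟩).symm
    · have key : ∀ B : Set (Cfsg.IrrCharacter ↥(D.group F)),
          Cfsg.IsPBlock M B → Cfsg.IsDefectGroup p M B ⊥ →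
            ¬ Cfsg.IsDefectGroup p M B (S : Subgroup ↥(D.group F)) := fun B hB h1 h2 => by
        obtain ⟨x, hx⟩ := defectGroup_conj hM hB h1 h2
        exact hS0 (by rw [← hx, Subgroup.map_bot])
      rintro (⟨B, hB, hd⟩ | ⟨B, hB, hd⟩) (⟨B', hB', hd'⟩ | ⟨B', hB', hd'⟩) h <;>
        simp only [Sum.elim_inl, Sum.elim_inr, Subtype.mk.injEq] at h <;> subst h
      · rfl
      · exact absurd hd (key _ hB hd')
      · exact absurd hd' (key _ hB hd)
      · rfl
    · rintro ⟨B, hB⟩
      obtain ⟨E, hE⟩ := exists_defectGroup hM hB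
      rcases defect_cases hc hcomm hadj hM hB hE with rfl | h
      · exact ⟨Sum.inr ⟨B, hB, hE⟩, rfl⟩
      · exact ⟨Sum.inl ⟨B, hB, h S⟩, rfl⟩
  rw [e, Nat.card_sum, card_blocks_sylow_defect hM S, card_defect_bot hc hcomm hM]
  suffices h : Nat.card {C : ConjClasses (Subgroup.normalizer ((S : Subgroup ↥(D.group F)) : Set ↥(D.group F))) //
      ∀ x : Subgroup.normalizer ((S : Subgroup ↥(D.group F)) : Set ↥(D.group F)),
        ConjClasses.mk x = C → ¬ p ∣ orderOf x ∧
          (x : ↥(D.group F)) ∈ Subgroup.centralizer ((S : Subgroup ↥(D.group F)) : Set ↥(D.group F))} = 1 by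
    rw [h]
  rw [Nat.card_eq_one_iff_unique]
  refine ⟨⟨fun C C' => ?_⟩, ⟨⟨ConjClasses.mk 1, fun x hx => ?_⟩⟩⟩
  · have key : ∀ C : {C : ConjClasses (Subgroup.normalizer ((S : Subgroup ↥(D.group F)) : Set ↥(D.group F))) //
        ∀ x : Subgroup.normalizer ((S : Subgroup ↥(D.group F)) : Set ↥(D.group F)),
          ConjClasses.mk x = C → ¬ p ∣ orderOf x ∧
            (x : ↥(D.group F)) ∈ Subgroup.centralizer ((S : Subgroup ↥(D.group F)) : Set ↥(D.group F))},
        C.1 = ConjClasses.mk 1 := by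
      rintro ⟨C, hC⟩
      obtain ⟨x, rfl⟩ := ConjClasses.mk_surjective C
      obtain ⟨h1, h2⟩ := hC x rfl
      rw [← Subgroup.orderOf_coe] at h1
      exact congrArg ConjClasses.mk (Subtype.ext (eq_one_of_centralizes hc hcomm htest hrank S hS h1 h2))
    exact Subtype.ext ((key C).trans (key C').symm)
  · rw [ConjClasses.mk_eq_mk_iff_isConj] at hx
    rw [isConj_one_left.1 hx]
    exact ⟨by rw [orderOf_one]; exact (Fact.out : p.Prime).not_dvd_one, one_mem _⟩

end CfsgLib.Chev
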