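import Cfsg.Agent.Lib.Chev.Structure
/-
The normal form of U in terms of the words of the datum; triangularity.
-/
set_option autoImplicit false
set_option linter.unusedSectionVars false

namespace CfsgLib.Chev

open Cfsg.Lie
open scoped Matrix

variable {D : ChevalleyDatum} {T : Tabs} {F : Type*} [Field F]

theorem wordGL_map (L : List ℕ) (t : ℕ → F) : wordGL D F (L.map fun r => (r, t r)) = uProd D F L t := by
  simp [wordGL, uProd, Function.comp_def]

section
variable (hc : Checked D T)
include hc

theorem posRoots_eq : D.posRoots = rootsFrom D (fun r => D.nroots / 2 ≤ r) 0 := by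
  rw [ChevalleyDatum.posRoots, rootsFrom, Nat.sub_zero, ← List.range_eq_range']
  refine List.filter_congr fun r hr => ?_
  rw [decide_eq_decide, isPosRoot_iff hc]
  exact ⟨fun h => h.2, fun h => ⟨List.mem_range.1 hr, h⟩⟩

theorem wordMat_posRoots (t : ℕ → F) :
    D.wordMat F (D.posRoots.map fun r => (r, t r)) =
      ((uProd D F (rootsFrom D (fun r => D.nroots / 2 ≤ r) 0) t : GL D.Idx F) : Matrix D.Idx D.Idx F) := by
  rw [← posRoots_eq hc, ← wordGL_map, coe_wordGL hc]
  intro p hp
  obtain ⟨r, hr, rfl⟩ := List.mem_map.1 hp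
  rw [posRoots_eq hc, mem_rootsFrom] at hr
  exact hr.2.1

open Classical in
/-- elements of U are unipotent -/
theorem unipotent_pow {g : GL D.Idx F} (hg : g ∈ uGen D F (fun r => D.nroots / 2 ≤ r)) :
    ((g : Matrix D.Idx D.Idx F) - 1) ^ (D.rank + D.nroots) = 0 := by
  have hR := raises_uGen hc (keyLin_add (D := D)) (keyLin_smul (D := D)) (d := 1) (by norm_num)
    (fun r hr hp => by have := (key_pos_iff hc hr).2 hp; omega) hg
  set pos : D.Idx → ℕ := fun x => (Finset.univ.filter fun z => keyLin D (wI D T z) < keyLin D (wI D T x)).card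
  have hlt : ∀ x y, ((g : Matrix D.Idx D.Idx F) - 1) x y ≠ 0 → pos y < pos x := by
    intro x y h
    have := hR x y (fun e => h (by rw [Matrix.sub_apply, e, sub_self]))
    refine Finset.card_lt_card (Finset.ssubset_iff_of_subset ?_ |>.2 ⟨y, ?_, ?_⟩)
    · intro z hz
      rw [Finset.mem_filter] at hz ⊢
      exact ⟨hz.1, by omega⟩
    · exact Finset.mem_filter.2 ⟨Finset.mem_univ _, by omega⟩
    · simp
  have key : ∀ k x y, ((((g : Matrix D.Idx D.Idx F) - 1) ^ k : Matrix D.Idx D.Idx F)) x y ≠ 0 → pos y + k ≤ pos x := by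
    intro k
    induction k with
    | zero =>
        intro x y h
        rw [pow_zero] at h
        by_cases e : x = y
        · subst e; simp
        · exact absurd (Matrix.one_apply_ne e) h
    | succ k ih =>
        intro x y h
        rw [pow_succ, Matrix.mul_apply] at h
        obtain ⟨z, -, hz⟩ := Finset.exists_ne_zero_of_sum_ne_zero h
        have := ih x z (left_ne_zero_of_mul hz)
        have := hlt z y (right_ne_zero_of_mul hz)
        omega
  ext x y
  by_contra h
  have h1 := key _ x y h
  have h2 : pos x < Fintype.card D.Idx := by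
    refine lt_of_lt_of_eq (Finset.card_lt_card ?_) Finset.card_univ
    exact Finset.filter_ssubset.2 ⟨x, Finset.mem_univ _, by simp⟩
  rw [Fintype.card_sum, Fintype.card_fin, Fintype.card_fin] at h2
  omega

theorem card_pos [Fintype F] (hcomm : CommOne D T) : Nat.card (D.posUnipotent F) = Fintype.card F ^ (D.nroots / 2) := by
  classical
  have hn := nroots_eq_two_mul hc
  set L := rootsFrom D (fun r => D.nroots / 2 ≤ r) 0
  let ext : (Fin (D.nroots / 2) → F) → ℕ → F := fun t r =>
    if h : D.nroots / 2 ≤ r ∧ r < D.nroots then t ⟨r - D.nroots / 2, by omega⟩ else 0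
  let Φ : (Fin (D.nroots / 2) → F) → D.posUnipotent F := fun t =>
    ⟨uProd D F L (ext t), by rw [posUnipotent_eq hc]; exact mem_uGen_of_uProd hc (ext t)⟩
  have hb : Function.Bijective Φ := by
    constructor
    · intro t t' e
      have e' := uProd_inj hc (fun r _ h => h) 0 (congrArg Subtype.val e)
      funext j
      have := e' (D.nroots / 2 + j.val) (mem_rootsFrom.2 ⟨Nat.zero_le _, by omega, Nat.le_add_right _ _⟩)
      simp only [ext] at this
      rw [dif_pos ⟨Nat.le_add_right _ _, by omega⟩, dif_pos ⟨Nat.le_add_right _ _, by omega⟩] at this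
      simpa using this
    · rintro ⟨g, hg⟩
      rw [posUnipotent_eq hc] at hg
      obtain ⟨t, rfl⟩ := uGen_exists hc hcomm (closedPos_pos hc) hg
      refine ⟨fun j => t (D.nroots / 2 + j.val), Subtype.ext (uProd_congr fun r hr => ?_)⟩
      obtain ⟨-, h1, h2⟩ := mem_rootsFrom.1 hr
      simp only [ext]
      rw [dif_pos ⟨h2, h1⟩]
      congr 1
      show D.nroots / 2 + (r - D.nroots / 2) = r
      omega
  rw [← Nat.card_eq_of_bijective Φ hb, Nat.card_fun]
  simp

end

end CfsgLib.Chev
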