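import Cfsg.Agent.Lib.Chev.Steinberg
import Cfsg.Agent.Lib.Chev.UWord
import Cfsg.Agent.Lib.ChevField.Bruhat
import Cfsg.Agent.Lib.SLBlocks.RankOneFix
import Cfsg.Agent.Lib.Char.Orth

/-!
An irreducible character of a tabulated Chevalley group vanishing on the nontrivial positive
unipotent elements is the Steinberg character.
-/

set_option autoImplicit false

open CfsgLib.CharKernel CfsgLib.FixSum Module

namespace CfsgLib.Chev

open Cfsg.Lie
open scoped Matrix

variable {D : ChevalleyDatum} {T : Tabs} {F : Type*} [Field F]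

/-- the unipotent radical of a minimal parabolic subgroup, inside the group -/
abbrev Ui (D : ChevalleyDatum) (F : Type*) [Field F] (i : Fin D.rank) : Subgroup ↥(D.group F) :=
  (uGen D F (CompRoot D i)).subgroupOf (D.group F)

/-- the positive unipotent group, inside the group -/
abbrev Ug (D : ChevalleyDatum) (F : Type*) [Field F] : Subgroup ↥(D.group F) :=
  (uGen D F (fun r => D.nroots / 2 ≤ r)).subgroupOf (D.group F)

variable (hc : Checked D T)

/-- a root element, inside the group -/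
noncomputable def xG {r : ℕ} (hr : r < D.nroots) (t : F) : ↥(D.group F) :=
  ⟨elX D F r t, elX_mem_group hc hr t⟩

/-- a fundamental monomial element, inside the group -/
noncomputable def nG (i : Fin D.rank) (t : F) : ↥(D.group F) :=
  ⟨elN D F (D.simple i.val) t, elN_mem_group hc (simple_lt hc i.2) t⟩

include hc

theorem ui_le_ug (i : Fin D.rank) : Ui D F i ≤ Ug D F :=
  fun _ hg => uGen_mono (fun _ _ h => h.1) hg

theorem mem_normalizer_group {P : ℕ → Prop} {g : ↥(D.group F)}
    (h : (g : GL D.Idx F) ∈ Subgroup.normalizer (uGen D F P : Set (GL D.Idx F))) :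
    g ∈ Subgroup.normalizer
      ((uGen D F P).subgroupOf (D.group F) : Set ↥(D.group F)) := by
  rw [Subgroup.mem_normalizer_iff] at h ⊢
  intro a
  simp only [Subgroup.mem_subgroupOf]
  exact h a

theorem borel_normalizes_ug {g : ↥(D.group F)} (hg : (g : GL D.Idx F) ∈ D.borelSubgroup F) :
    g ∈ Subgroup.normalizer (Ug D F : Set ↥(D.group F)) := by
  refine mem_normalizer_group hc (Subgroup.mem_normalizer_iff.2 fun a => ⟨fun ha => ?_, fun ha => ?_⟩)
  · exact borel_conj_pos hc hg ha
  · simpa [mul_assoc] using borel_conj_pos hc (inv_mem hg) ha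

theorem reflChar_corChar (i : Fin D.rank) (t : Fˣ) :
    reflChar i (corChar D T (D.simple i.val) t) = corChar D T (D.simple i.val) t⁻¹ := by
  have hval : ∀ (u : Fˣ) (j : Fin D.rank), corChar D T (D.simple i.val) u j = u ^ cm D i j := by
    intro u j
    show u ^ _ = _
    congr 1
    rw [Finset.sum_eq_single i]
    · rw [cv_simple hc i.2 i.2, if_pos rfl, one_mul]
    · intro k _ hk
      rw [cv_simple hc i.2 k.2, if_neg (fun hh => hk (Fin.ext hh.symm)), zero_mul]
    · simp
  funext j
  have hre : refl D i (Pi.single j 1) = Pi.single j 1 - Pi.single i (cm D i j) := by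
    rw [refl, Finset.sum_eq_single j] <;> simp +contextual
  rw [reflChar, hre, chi_sub, chi_single, chi_single, hval, hval, hval, _root_.zpow_one,
    cm_self hc, ← zpow_mul, div_eq_mul_inv, ← zpow_neg, ← zpow_add, inv_zpow, ← zpow_neg]
  congr 1
  ring

variable (hcomm : CommOne D T)
include hcomm

theorem pm_normalizes_ui (i : Fin D.rank) {r : ℕ} (hr : r < D.nroots)
    (h : r = D.simple i.val ∨ r = D.neg (D.simple i.val)) (t : F) :
    xG hc hr t ∈ Subgroup.normalizer (Ui D F i : Set ↥(D.group F)) :=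
  mem_normalizer_group hc (pm_simple_normalizer hc hcomm i h t)

theorem borel_normalizes_ui (i : Fin D.rank) {g : ↥(D.group F)}
    (hg : (g : GL D.Idx F) ∈ D.borelSubgroup F) :
    g ∈ Subgroup.normalizer (Ui D F i : Set ↥(D.group F)) := by
  refine mem_normalizer_group hc ?_
  obtain ⟨u, hu, h, hh, e⟩ := (mem_borel hc).1 hg
  obtain ⟨a, ha, t, rfl⟩ := pos_split_simple hc hcomm i hu
  rw [e]
  exact mul_mem (mul_mem (Subgroup.le_normalizer ha) (pm_simple_normalizer hc hcomm i (Or.inl rfl) t))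
    (diagonal_le_normalizer hc _ hh)

theorem nG_normalizes_ui (i : Fin D.rank) (t : F) :
    nG hc i t ∈ Subgroup.normalizer (Ui D F i : Set ↥(D.group F)) :=
  mem_normalizer_group hc (mul_mem (mul_mem (pm_simple_normalizer hc hcomm i (Or.inl rfl) t)
    (pm_simple_normalizer hc hcomm i (Or.inr rfl) _)) (pm_simple_normalizer hc hcomm i (Or.inl rfl) t))

theorem card_ug [Fintype F] (i : Fin D.rank) :
    Nat.card (Ug D F) = Fintype.card F * Nat.card (Ui D F i) := by
  have hp := simple_lt hc i.2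
  rw [← Nat.card_eq_fintype_card, ← Nat.card_prod]
  refine (Nat.card_congr (Equiv.ofBijective (fun x : F × Ui D F i =>
    (⟨(x.2 : ↥(D.group F)) * xG hc hp x.1, mul_mem (ui_le_ug hc i x.2.2)
      (elX_mem_uGen hp (P := fun r => D.nroots / 2 ≤ r) (half_le_simple hc i.2) x.1)⟩ : Ug D F))
    ⟨?_, ?_⟩)).symm
  · rintro ⟨s, a⟩ ⟨t, b⟩ e
    have e' : ((a : ↥(D.group F)) : GL D.Idx F) * elX D F (D.simple i.val) s =
        ((b : ↥(D.group F)) : GL D.Idx F) * elX D F (D.simple i.val) t :=
      congrArg Subtype.val (congrArg Subtype.val e)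
    have h1 : elX D F (D.simple i.val) (s + -t) ∈ uGen D F (CompRoot D i) := by
      rw [← elX_add hc F hp, ← elX_inv hc F hp]
      rw [show elX D F (D.simple i.val) s = ((a : ↥(D.group F)) : GL D.Idx F)⁻¹ *
        (((b : ↥(D.group F)) : GL D.Idx F) * elX D F (D.simple i.val) t) by rw [← e']; group]
      rw [show ∀ x y z : GL D.Idx F, x⁻¹ * (y * z) * z⁻¹ = x⁻¹ * y from fun x y z => by group]
      exact mul_mem (inv_mem a.2) b.2
    have h2 := nOne_conj_comp hc i h1
    rw [nOne_conj_elX hc i hp, sig_simple hc] at h2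
    have hst : s = t := by
      by_contra hne
      refine elX_not_mem_borel hc (neg_lt hc hp) ?_ ?_ (pos_le_borel hc (uGen_mono (fun _ _ h => h.1) h2))
      · have := neg_eq hc hp; have := half_le_simple hc i.2; have := nroots_eq_two_mul hc; omega
      · refine mul_ne_zero ?_ (fun h => hne (eq_of_sub_eq_zero (by rw [sub_eq_add_neg, h])))
        rcases eta_cast hc (F := F) i hp with e | e <;> simp [e]
    subst hst
    exact Prod.ext rfl (Subtype.ext (Subtype.ext (mul_right_cancel e')))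
  · rintro ⟨u, hu⟩
    obtain ⟨a, ha, t, e⟩ := pos_split_simple hc hcomm i hu
    exact ⟨⟨t, ⟨⟨a, pos_le_group hc (uGen_mono (fun _ _ h => h.1) ha)⟩, ha⟩⟩,
      Subtype.ext (Subtype.ext e.symm)⟩

section rep

variable [Finite F] {V : Type*} [AddCommGroup V] [Module ℂ V] [FiniteDimensional ℂ V]
  (ρ : Representation ℂ ↥(D.group F) V)

theorem ug_mem_fixed {u : ↥(D.group F)} (hu : u ∈ Ug D F) {z : V}
    (hz : z ∈ fixedSpace ρ (Ug D F)) : ρ u z = z := (mem_fixedSpace ρ).1 hz u hu

theorem borel_keeps_fixed {g : ↥(D.group F)} (hg : (g : GL D.Idx F) ∈ D.borelSubgroup F) {z : V}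
    (hz : z ∈ fixedSpace ρ (Ug D F)) : ρ g z ∈ fixedSpace ρ (Ug D F) :=
  fixed_conj ρ (borel_normalizes_ug hc hg) hz

theorem fixed_of_ui_x (i : Fin D.rank) {z : V} (hz : z ∈ fixedSpace ρ (Ui D F i))
    (hx : ∀ s, ρ (xG hc (simple_lt hc i.2) s) z = z) : z ∈ fixedSpace ρ (Ug D F) := by
  refine (mem_fixedSpace ρ).2 fun u hu => ?_
  obtain ⟨a, ha, t, e⟩ := pos_split_simple hc hcomm i hu
  have hu' : u = (⟨a, pos_le_group hc (uGen_mono (fun _ _ h => h.1) ha)⟩ : ↥(D.group F)) *
      xG hc (simple_lt hc i.2) t := Subtype.ext e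
  rw [hu', ← apply_apply ρ, hx, (mem_fixedSpace ρ).1 hz _ ha]

/-- the fixed space of a minimal radical is generated by the fixed space of `U` -/
theorem ui_generated [ρ.IsIrreducible] (i : Fin D.rank) {v₀ : V}
    (hv₀ : v₀ ∈ fixedSpace ρ (Ug D F)) (hne : v₀ ≠ 0) :
    fixedSpace ρ (Ui D F i) ≤ Submodule.span ℂ ((fixedSpace ρ (Ug D F) : Set V) ∪
      {v | ∃ s, ∃ z ∈ fixedSpace ρ (Ug D F), v = ρ (xG hc (simple_lt hc i.2) s * nG hc i 1) z}) := by
  classical
  have hp := simple_lt hc i.2
  set K := fixedSpace ρ (Ug D F) with hKdef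
  intro w hw
  rw [← avgH_fix ρ (Ui D F i) hw]
  have hwtop : w ∈ Submodule.span ℂ (Set.range fun g => ρ g v₀) := by
    rw [span_translates ρ hne]; trivial
  rw [← Submodule.mem_comap]
  refine Submodule.span_le.2 ?_ hwtop
  rintro _ ⟨g, rfl⟩
  simp only [SetLike.mem_coe, Submodule.mem_comap]
  obtain ⟨L, u, t, v, hu, ht, hv, hg⟩ := ChevField.exists_bruhat hc hcomm g.2
  have hvU : v ∈ uGen D F (fun r => D.nroots / 2 ≤ r) := uGen_mono (fun r _ h => h.1) hv
  let vg : ↥(D.group F) := ⟨v, pos_le_group hc hvU⟩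
  let ug : ↥(D.group F) := ⟨u, pos_le_group hc hu⟩
  let tg : ↥(D.group F) := ⟨t, diagonal_le_group hc ht⟩
  let ng : ↥(D.group F) := ⟨nProd D F L, monomial_le_group hc (nProd_mem_monomial hc L)⟩
  have hg' : g = ug * tg * ng * vg := Subtype.ext hg
  rw [hg', ← apply_apply ρ, ug_mem_fixed hc hcomm ρ (u := vg) hvU hv₀, ← apply_apply ρ]
  have hut : ug * tg ∈ Subgroup.normalizer (Ui D F i : Set ↥(D.group F)) :=
    borel_normalizes_ui hc hcomm i (mul_mem (pos_le_borel hc hu) (diagonal_le_borel hc ht))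
  rw [avgH_comm ρ _ hut]
  set y := avgH ρ (Ui D F i) (ρ ng v₀) with hy
  have hyW : y ∈ fixedSpace ρ (Ui D F i) := avgH_mem ρ _ _
  set r := sigs D T L.reverse (D.simple i.val) with hrdef
  have hr := sigs_lt hc L.reverse hp
  have hLr : sigs D T L r = D.simple i.val := by
    have := sigs_reverse hc L.reverse hp
    rwa [List.reverse_reverse] at this
  have hfix : ∀ r', r' < D.nroots → D.nroots / 2 ≤ r' → ∀ (hr' : sigs D T L r' < D.nroots),
      (sigs D T L r' = D.simple i.val ∨ sigs D T L r' = D.neg (D.simple i.val)) →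
      ∀ s, ρ (xG hc hr' s) y = y := by
    intro r' h1 h2 hr' hor s
    obtain ⟨c, -, hcx⟩ := nProd_conj_elX hc (F := F) L h1
    have e : xG hc hr' s * ng = ng * xG hc h1 ((c : F)⁻¹ * s) := by
      apply Subtype.ext
      show elX D F (sigs D T L r') s * nProd D F L = nProd D F L * elX D F r' ((c : F)⁻¹ * s)
      have h3 := hcx ((c : F)⁻¹ * s)
      rw [mul_inv_cancel_left₀ c.ne_zero] at h3
      rw [← h3]
      group
    rw [hy, ← avgH_comm ρ _ (pm_normalizes_ui hc hcomm i hr' hor s), apply_apply ρ, e,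
      ← apply_apply ρ, ug_mem_fixed hc hcomm ρ (u := xG hc h1 _) (elX_mem_uGen h1
        (P := fun r => D.nroots / 2 ≤ r) h2 _) hv₀]
  have hB : ((ug * tg : ↥(D.group F)) : GL D.Idx F) ∈ D.borelSubgroup F :=
    mul_mem (pos_le_borel hc hu) (diagonal_le_borel hc ht)
  by_cases hpos : D.nroots / 2 ≤ r
  · refine Submodule.subset_span (Or.inl (borel_keeps_fixed hc hcomm ρ hB ?_))
    refine fixed_of_ui_x hc hcomm ρ i hyW fun s => ?_
    have e : xG hc hp s = xG hc (sigs_lt hc L hr) s := Subtype.ext (by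
      show elX D F _ s = elX D F _ s; rw [hLr])
    rw [e]
    exact hfix r hr hpos (sigs_lt hc L hr) (Or.inl hLr) s
  · have hLn : sigs D T L (D.neg r) = D.neg (D.simple i.val) := by rw [sigs_neg hc L hr, hLr]
    have hnr := neg_lt hc hr
    have hnpos : D.nroots / 2 ≤ D.neg r := by
      have e : D.neg r = _ := neg_eq hc (a := r) hr
      have := nroots_eq_two_mul hc
      omega
    set y' := ρ (nG hc i 1)⁻¹ y with hy'
    have hy'K : y' ∈ K := by
      refine fixed_of_ui_x hc hcomm ρ i (fixed_conj ρ (inv_mem (nG_normalizes_ui hc hcomm i 1)) hyW)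
        fun s => ?_
      have e : xG hc hp s * (nG hc i 1)⁻¹ =
          (nG hc i 1)⁻¹ * xG hc (sigs_lt hc L hnr) ((eta D T i (D.simple i.val) : F) * s) := by
        apply Subtype.ext
        show elX D F (D.simple i.val) s * (elN D F (D.simple i.val) 1)⁻¹ =
          (elN D F (D.simple i.val) 1)⁻¹ *
            elX D F (sigs D T L (D.neg r)) ((eta D T i (D.simple i.val) : F) * s)
        have h3 := nOne_conj_elX hc (F := F) i hp s
        rw [sig_simple hc] at h3
        rw [hLn, ← h3]
        group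
      rw [hy', apply_apply ρ, e, ← apply_apply ρ, hfix _ hnr hnpos (sigs_lt hc L hnr) (Or.inr hLn)]
    have hyy : y = ρ (nG hc i 1) y' := by
      rw [hy', apply_apply ρ, mul_inv_cancel, map_one, Module.End.one_apply]
    obtain ⟨a, ha, s, hs⟩ := pos_split_simple hc hcomm i hu
    let ag : ↥(D.group F) := ⟨a, pos_le_group hc (uGen_mono (fun _ _ h => h.1) ha)⟩
    let t' : ↥(D.group F) := (nG hc i 1)⁻¹ * tg * nG hc i 1
    have ht' : (t' : GL D.Idx F) ∈ D.borelSubgroup F := diagonal_le_borel hc (by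
      simpa [t', nG, tg] using
        monomial_conj_diagonal hc (inv_mem (elN_mem_monomial hc (F := F) hp)) ht)
    refine Submodule.subset_span (Or.inr ⟨s, ρ t' y', borel_keeps_fixed hc hcomm ρ ht' hy'K, ?_⟩)
    have e : ug * tg * nG hc i 1 = ag * (xG hc hp s * nG hc i 1 * t') := by
      have e1 : ug = ag * xG hc hp s := Subtype.ext hs
      rw [e1]
      simp only [t']
      group
    rw [hyy, apply_apply ρ, e, ← apply_apply ρ, ← apply_apply ρ (xG hc hp s * nG hc i 1)]
    refine (mem_fixedSpace ρ).1 (fixed_conj ρ (H := Ui D F i) ?_ ?_) ag (Subgroup.mem_subgroupOf.2 ha)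
    · exact mul_mem (pm_normalizes_ui hc hcomm i hp (Or.inl rfl) s) (nG_normalizes_ui hc hcomm i 1)
    · exact (mem_fixedSpace ρ).2 fun g hg =>
        ug_mem_fixed hc hcomm ρ (ui_le_ug hc i hg) (borel_keeps_fixed hc hcomm ρ ht' hy'K)

variable [ρ.IsIrreducible] (hvan : ∀ u ∈ Ug D F, u ≠ 1 → ρ.character u = 0)

include hvan in
theorem exists_fixed : ∃ v ∈ fixedSpace ρ (Ug D F), v ≠ 0 := by
  refine Submodule.exists_mem_ne_zero_of_ne_bot fun h => ?_
  have := finrank_vanishing ρ hvan
  rw [h, finrank_bot, mul_zero] at this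
  have := nontrivial_of_irreducible ρ
  exact (Module.finrank_pos (R := ℂ) (M := V)).ne' (by assumption)

include hvan in
theorem rank_one_good [Fintype F] (i : Fin D.rank) {z : V} (hz : z ∈ fixedSpace ρ (Ug D F)) :
    (∀ t : Fˣ, ∀ g : ↥(D.group F), (g : GL D.Idx F) = torus D T F (corChar D T (D.simple i.val) t) →
      ρ g z = z) ∧ z + ∑ s, ρ (xG hc (simple_lt hc i.2) s * nG hc i 1) z = 0 := by
  classical
  have hp := simple_lt hc i.2
  obtain ⟨v₀, hv₀, hne⟩ := exists_fixed hc hcomm ρ hvan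
  set η : F := (eta D T i (D.simple i.val) : F) with hη
  have hη2 : η * η = 1 := by
    rcases eta_cast hc (F := F) i hp with e | e <;> simp [hη, e]
  have hη0 : η ≠ 0 := fun h => by simp [h] at hη2
  set n := nG hc i (1 : F) with hn
  have hnnH : ((n * n : ↥(D.group F)) : GL D.Idx F) ∈ D.diagonalSubgroup F := elN_simple_sq hc i
  let h : Fˣ → ↥(D.group F) := fun c => n⁻¹ * nG hc i (c : F) * n * n
  have hhH : ∀ c, ((h c : ↥(D.group F)) : GL D.Idx F) ∈ D.borelSubgroup F := by
    intro c
    refine diagonal_le_borel hc ?_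
    have h1 : elN D F (D.simple i.val) (c : F) * (elN D F (D.simple i.val) (1 : F))⁻¹ ∈
        D.diagonalSubgroup F := elN_div_mem hc hp c.ne_zero one_ne_zero
    have h2 := monomial_conj_diagonal hc (inv_mem (elN_mem_monomial hc (F := F) hp)) h1
    have h3 := mul_mem h2 hnnH
    convert h3 using 1
    show (elN D F (D.simple i.val) (1 : F))⁻¹ * elN D F (D.simple i.val) (c : F) *
      elN D F (D.simple i.val) 1 * elN D F (D.simple i.val) 1 = _
    simp only [hn, nG, Subgroup.coe_mul]
    group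
  have hh1 : h (-1) = 1 := by
    apply Subtype.ext
    show (elN D F (D.simple i.val) (1 : F))⁻¹ * elN D F (D.simple i.val) ((-1 : Fˣ) : F) *
      elN D F (D.simple i.val) 1 * elN D F (D.simple i.val) 1 = 1
    rw [Units.val_neg, Units.val_one, ← elN_inv hc hp]
    group
  have hxB : ∀ s : F, xG hc hp s ∈ Ug D F := fun s =>
    elX_mem_uGen hp (P := fun r => D.nroots / 2 ≤ r) (half_le_simple hc i.2) s
  have hxadd : ∀ a b : F, xG hc hp a * xG hc hp b = xG hc hp (a + b) := fun a b =>
    Subtype.ext (elX_add hc F hp a b)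
  have hW1 : fixedSpace ρ (Ug D F) ≤ fixedSpace ρ (Ui D F i) := fun w hw =>
    (mem_fixedSpace ρ).2 fun g hg => ug_mem_fixed hc hcomm ρ (ui_le_ug hc i hg) hw
  have hdim : finrank ℂ (fixedSpace ρ (Ui D F i)) =
      Fintype.card F * finrank ℂ (fixedSpace ρ (Ug D F)) := by
    have h1 := finrank_vanishing ρ hvan
    have h2 := finrank_vanishing ρ (H := Ui D F i) fun u hu => hvan u (ui_le_ug hc i hu)
    rw [card_ug hc hcomm i, h2, mul_comm (Fintype.card F), mul_assoc] at h1
    exact Nat.eq_of_mul_eq_mul_left Nat.card_pos h1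
  have key : (∀ c, ρ (h c) z = z) ∧ z + ∑ s, ρ (xG hc hp s * n) z = 0 := by
    refine rankOne_fix ρ (xG hc hp) n (-η) h (neg_ne_zero.2 hη0)
      (Subtype.ext (elX_zero hc F hp)) hxadd
      (fun s w hw => ug_mem_fixed hc hcomm ρ (hxB s) hw) ?_
      (fun w hw => borel_keeps_fixed hc hcomm ρ (diagonal_le_borel hc hnnH) hw)
      (fun c w hw => borel_keeps_fixed hc hcomm ρ (hhH c) hw)
      (fun w _ => by rw [hh1, map_one, Module.End.one_apply]) ?_
      (ui_generated hc hcomm ρ i hv₀ hne) hdim hz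
    · intro w hw
      refine fixed_of_ui_x hc hcomm ρ i (Submodule.sum_mem _ fun s _ => ?_) fun u => ?_
      · exact fixed_conj ρ (mul_mem (pm_normalizes_ui hc hcomm i hp (Or.inl rfl) s)
          (nG_normalizes_ui hc hcomm i 1)) (hW1 hw)
      · rw [map_sum]
        refine Fintype.sum_equiv (Equiv.addLeft u) _ _ fun s => ?_
        rw [apply_apply ρ, ← mul_assoc, hxadd]
        rfl
    · intro c w hw
      rw [apply_apply ρ, apply_apply ρ]
      have hσ : η * (-η * (c : F)⁻¹) = -(c : F)⁻¹ := by linear_combination -(c : F)⁻¹ * hη2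
      have e : n * (xG hc hp (-η * (c : F)⁻¹) * n) =
          xG hc hp (-(c : F)) * n * h c * ((n * n)⁻¹ * xG hc hp (-(c : F)) * (n * n)) := by
        apply Subtype.ext
        show elN D F (D.simple i.val) 1 * (elX D F (D.simple i.val) (-η * (c : F)⁻¹) *
            elN D F (D.simple i.val) 1) =
          elX D F (D.simple i.val) (-(c : F)) * elN D F (D.simple i.val) 1 *
            ((elN D F (D.simple i.val) 1)⁻¹ * elN D F (D.simple i.val) (c : F) *
              elN D F (D.simple i.val) 1 * elN D F (D.simple i.val) 1) *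
            ((elN D F (D.simple i.val) 1 * elN D F (D.simple i.val) 1)⁻¹ *
              elX D F (D.simple i.val) (-(c : F)) *
              (elN D F (D.simple i.val) 1 * elN D F (D.simple i.val) 1))
        have h3 := nOne_conj_elX hc (F := F) i hp (-η * (c : F)⁻¹)
        rw [sig_simple hc, ← hη, hσ, neg_elX_eq hc hp (neg_ne_zero.2 (inv_ne_zero c.ne_zero)),
          inv_neg, inv_inv, neg_neg] at h3
        rw [show ∀ a b : GL D.Idx F, a * (b * a) = a * b * a⁻¹ * (a * a) from fun a b => by group, h3]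
        group
      rw [e, map_mul ρ _ ((n * n)⁻¹ * xG hc hp (-(c : F)) * (n * n)), Module.End.mul_apply,
        ug_mem_fixed hc hcomm ρ (u := (n * n)⁻¹ * xG hc hp (-(c : F)) * (n * n))
        (Subgroup.mem_subgroupOf.2
          (diag_conj_mem' hc (fun r => D.nroots / 2 ≤ r) hnnH (hxB (-(c : F))))) hw]
  refine ⟨fun t g hg => ?_, key.2⟩
  have e : g = h (-(t⁻¹)) := by
    apply Subtype.ext
    rw [hg]
    show _ = (elN D F (D.simple i.val) (1 : F))⁻¹ * elN D F (D.simple i.val) ((-t⁻¹ : Fˣ) : F) *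
      elN D F (D.simple i.val) 1 * elN D F (D.simple i.val) 1
    have h1 := elN_mul_inv hc (F := F) hp (-t⁻¹) (-1)
    rw [elN_inv hc hp, show (-((-1 : Fˣ) : F)) = 1 by simp,
      show (-t⁻¹) / (-1 : Fˣ) = t⁻¹ by rw [neg_div_neg_eq, div_one], ← reflChar_corChar hc i t,
      ← nOne_conj_torus hc i] at h1
    rw [show ∀ a b : GL D.Idx F, a⁻¹ * b * a * a = a⁻¹ * (b * a) * a from fun a b => by group, h1]
    group
  rw [e]
  exact key.1 _

include hvan in
theorem borel_fixes {z : V} (hz : z ∈ fixedSpace ρ (Ug D F)) :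
    z ∈ fixedSpace ρ ((D.borelSubgroup F).subgroupOf (D.group F)) := by
  haveI := Fintype.ofFinite F
  refine (mem_fixedSpace ρ).2 fun g hg => ?_
  obtain ⟨u, hu, h, hh, e⟩ := (mem_borel hc).1 (Subgroup.mem_subgroupOf.1 hg)
  obtain ⟨c, hcd⟩ := (mem_diagonal hc).1 hh
  let ug : ↥(D.group F) := ⟨u, pos_le_group hc hu⟩
  let S : Subgroup ↥(D.group F) :=
    { carrier := {g | ρ g z = z}
      one_mem' := by simp
      mul_mem' := fun {a b} ha hb => by
        show ρ (a * b) z = z
        rw [← apply_apply ρ]; rw [Set.mem_setOf_eq] at ha hb; rw [hb, ha]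
      inv_mem' := fun {a} ha => by
        show ρ a⁻¹ z = z
        rw [Set.mem_setOf_eq] at ha
        conv_lhs => rw [← ha]
        rw [apply_apply ρ, inv_mul_cancel, map_one, Module.End.one_apply] }
  have hdec : hPar D F c = ∏ i : Fin D.rank, corChar D T (D.simple i.val) (c i) := by
    funext j
    show ∏ i : Fin D.rank, c i ^ cm D i j = _
    rw [Finset.prod_apply]
    refine Finset.prod_congr rfl fun i _ => ?_
    show c i ^ cm D i j = c i ^ _
    congr 1
    symm
    rw [Finset.sum_eq_single i]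
    · rw [cv_simple hc i.2 i.2, if_pos rfl, one_mul]
    · intro k _ hk
      rw [cv_simple hc i.2 k.2, if_neg (fun hh => hk (Fin.ext hh.symm)), zero_mul]
    · simp
  have hmem : h ∈ S.map (D.group F).subtype := by
    rw [← hcd, hdec]
    refine Finset.prod_induction _ (fun χ => torus D T F χ ∈ S.map (D.group F).subtype)
      (fun a b ha hb => ?_) ?_ fun i _ => ?_
    · rw [map_mul]; exact mul_mem ha hb
    · rw [map_one]; exact one_mem _
    refine ⟨⟨_, diagonal_le_group hc (torus_corChar_mem hc (F := F) (c i))⟩, ?_, rfl⟩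
    exact (rank_one_good hc hcomm ρ hvan i hz).1 (c i) _ rfl
  obtain ⟨hg', hhg, hhe⟩ := hmem
  have e' : g = ug * hg' := Subtype.ext (e.trans (by rw [← hhe]; rfl))
  have hhg' : ρ hg' z = z := hhg
  rw [e', ← apply_apply ρ, hhg', ug_mem_fixed hc hcomm ρ (u := ug) hu hz]

include hvan in
theorem parabolic_fixes_zero (i : Fin D.rank) {P : Subgroup ↥(D.group F)}
    (hU : Ug D F ≤ P) (hn : nG hc i 1 ∈ P) : fixedSpace ρ P = ⊥ := by
  haveI := Fintype.ofFinite F
  refine (Submodule.eq_bot_iff _).2 fun z hz => ?_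
  have hzP := (mem_fixedSpace ρ).1 hz
  have hzU : z ∈ fixedSpace ρ (Ug D F) := (mem_fixedSpace ρ).2 fun g hg => hzP g (hU hg)
  have h1 := (rank_one_good hc hcomm ρ hvan i hzU).2
  rw [Finset.sum_congr rfl fun s _ => hzP _ (mul_mem (hU (elX_mem_uGen (simple_lt hc i.2)
      (P := fun r => D.nroots / 2 ≤ r) (half_le_simple hc i.2) s)) hn),
    Finset.sum_const, ← succ_nsmul', ← Nat.cast_smul_eq_nsmul ℂ] at h1
  exact (smul_eq_zero.1 h1).resolve_left (Nat.cast_ne_zero.2 (Nat.succ_ne_zero _))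

include hvan in
theorem classInner_steinberg_pos [Fintype ↥(D.group F)] :
    Cfsg.classInner (D.steinbergCharacter F) ρ.character ≠ 0 := by
  classical
  have hfun : D.steinbergCharacter F = ∑ J ∈ (Finset.range D.rank).powerset,
      ((-1 : ℂ) ^ J.card) • Cfsg.fixedPointCharacter (D.parabolicIn F J) := by
    funext g
    simp [ChevalleyDatum.steinbergCharacter, Finset.sum_apply]
  rw [hfun, CfsgLib.Char.classInner_sum_left]
  simp only [CfsgLib.Char.classInner_smul_left, classInner_perm]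
  rw [Finset.sum_eq_single (∅ : Finset ℕ)]
  · rw [Finset.card_empty, pow_zero, one_mul]
    obtain ⟨v, hv, hne⟩ := exists_fixed hc hcomm ρ hvan
    have hle : v ∈ fixedSpace ρ (D.parabolicIn F ∅) := by
      have e : D.parabolicIn F ∅ = (D.borelSubgroup F).subgroupOf (D.group F) := by
        rw [ChevalleyDatum.parabolicIn, ChevalleyDatum.parabolicSubgroup]
        simp
      rw [e]
      exact borel_fixes hc hcomm ρ hvan hv
    exact Nat.cast_ne_zero.2 (Nat.one_le_iff_ne_zero.1 (Submodule.one_le_finrank_iff.mpr fun h =>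
      hne (by rwa [h, Submodule.mem_bot] at hle)))
  · intro J hJ hJne
    obtain ⟨j, hj⟩ := Finset.nonempty_iff_ne_empty.2 hJne
    have hjr : j < D.rank := Finset.mem_range.1 (Finset.mem_powerset.1 hJ hj)
    rw [parabolic_fixes_zero hc hcomm ρ hvan ⟨j, hjr⟩ (P := D.parabolicIn F J)
      (fun g hg => Subgroup.mem_subgroupOf.2 (Subgroup.mem_sup_left (pos_le_borel hc hg)))
      (Subgroup.mem_subgroupOf.2 (Subgroup.mem_sup_right (Subgroup.subset_closure
        (show elN D F (D.simple j) 1 ∈ {g : GL D.Idx F | ∃ j ∈ (↑J : Set ℕ), j < D.rank ∧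
          (g : Matrix D.Idx D.Idx F) = D.nMat F (D.simple j) 1} from
          ⟨j, Finset.mem_coe.2 hj, hjr, coe_elN hc (simple_lt hc hjr) 1⟩)))), finrank_bot]
    simp
  · simp

end rep

/-- An irreducible character vanishing on the nontrivial elements of `U` is the Steinberg
character. -/
theorem eq_steinberg_of_vanishing [Finite F] {χ : ↥(D.group F) → ℂ}
    (hχ : Cfsg.IsIrrCharacter ↥(D.group F) χ) (hvan : ∀ u ∈ Ug D F, u ≠ 1 → χ u = 0) :
    χ = D.steinbergCharacter F := by
  classical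
  haveI : Finite (GL D.Idx F) := inferInstance
  haveI := Fintype.ofFinite ↥(D.group F)
  by_contra hne
  have hst := isIrrCharacter_steinberg hc hcomm (F := F)
  have h0 := CfsgLib.Char.classInner_irr_of_ne hst hχ (Ne.symm hne)
  obtain ⟨n, ρ, hρ, rfl⟩ := hχ
  haveI := hρ
  exact classInner_steinberg_pos hc hcomm ρ hvan h0

end CfsgLib.Chev
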