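import Cfsg.Agent.Lib.Chev.Comm
/-
The standard subgroups in terms of the elements elX, and the commutator formula inside GL.
-/
set_option autoImplicit false
set_option linter.unusedSectionVars false

namespace CfsgLib.Chev

open Cfsg.Lie
open scoped Matrix

variable {D : ChevalleyDatum} {T : Tabs} {F : Type*} [Field F]

/-- the product of a word of root elements in GL -/
noncomputable def wordGL (D : ChevalleyDatum) (F : Type*) [Field F] (w : List (ℕ × F)) : GL D.Idx F :=
  (w.map fun p => elX D F p.1 p.2).prod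

/-- the subgroup generated by the root subgroups of a set of roots -/
def uGen (D : ChevalleyDatum) (F : Type*) [Field F] (P : ℕ → Prop) : Subgroup (GL D.Idx F) :=
  Subgroup.closure {g | ∃ (r : ℕ) (t : F), r < D.nroots ∧ P r ∧ g = elX D F r t}

/-- `v` is a root of the form `i r + j s` with `i, j > 0` -/
def CombRoot (D : ChevalleyDatum) (T : Tabs) (r s v : ℕ) : Prop :=
  v < D.nroots ∧ ∃ i j : ℕ, 0 < i ∧ 0 < j ∧ rv D T v = (i : ℤ) • rv D T r + (j : ℤ) • rv D T s

theorem uGen_mono {P Q : ℕ → Prop} (h : ∀ r, r < D.nroots → P r → Q r) : uGen D F P ≤ uGen D F Q := by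
  apply Subgroup.closure_mono
  rintro g ⟨r, t, hr, hP, rfl⟩
  exact ⟨r, t, hr, h r hr hP, rfl⟩

theorem elX_mem_uGen {P : ℕ → Prop} {r : ℕ} (hr : r < D.nroots) (hP : P r) (t : F) :
    elX D F r t ∈ uGen D F P :=
  Subgroup.subset_closure ⟨r, t, hr, hP, rfl⟩

theorem uGen_le_iff {P : ℕ → Prop} {K : Subgroup (GL D.Idx F)} :
    uGen D F P ≤ K ↔ ∀ r, r < D.nroots → P r → ∀ t, elX D F r t ∈ K := by
  rw [uGen, Subgroup.closure_le]
  constructor
  · exact fun h r hr hP t => h ⟨r, t, hr, hP, rfl⟩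
  · rintro h g ⟨r, t, hr, hP, rfl⟩; exact h r hr hP t

theorem uGen_congr {P Q : ℕ → Prop} (h : ∀ r, r < D.nroots → (P r ↔ Q r)) : uGen D F P = uGen D F Q :=
  le_antisymm (uGen_mono fun r hr => (h r hr).1) (uGen_mono fun r hr => (h r hr).2)

section
variable (hc : Checked D T)
include hc

theorem coe_wordGL {w : List (ℕ × F)} (hw : ∀ p ∈ w, p.1 < D.nroots) :
    ((wordGL D F w : GL D.Idx F) : Matrix D.Idx D.Idx F) = D.wordMat F w := by
  induction w with
  | nil => simp [wordGL, ChevalleyDatum.wordMat]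
  | cons p l ih =>
      rw [List.forall_mem_cons] at hw
      simp only [wordGL, ChevalleyDatum.wordMat, List.map_cons, List.prod_cons, Units.val_mul] at ih ⊢
      rw [coe_elX hc F hw.1, ih hw.2]

theorem eq_elX_of_coe {g : GL D.Idx F} {r : ℕ} (hr : r < D.nroots) {t : F}
    (h : (g : Matrix D.Idx D.Idx F) = D.x F r t) : g = elX D F r t := by
  ext1; rw [coe_elX hc F hr, h]

theorem rootGen_eq (P : ℕ → Prop) (hP : ∀ r, P r → r < D.nroots) :
    Subgroup.closure {g : GL D.Idx F | ∃ (r : ℕ) (t : F), P r ∧ (g : Matrix D.Idx D.Idx F) = D.x F r t} = uGen D F P := by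
  rw [uGen]; congr 1; ext g
  constructor
  · rintro ⟨r, t, h, hg⟩; exact ⟨r, t, hP r h, h, eq_elX_of_coe hc (hP r h) hg⟩
  · rintro ⟨r, t, hr, h, rfl⟩; exact ⟨r, t, h, coe_elX hc F hr t⟩

theorem posUnipotent_eq : D.posUnipotent F = uGen D F (fun r => D.nroots / 2 ≤ r) := by
  rw [ChevalleyDatum.posUnipotent, rootGen_eq hc D.IsPosRoot fun r h => h.1]
  exact uGen_congr fun r hr => by rw [isPosRoot_iff hc]; tauto

theorem negUnipotent_eq : D.negUnipotent F = uGen D F (fun r => r < D.nroots / 2) := by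
  rw [ChevalleyDatum.negUnipotent, rootGen_eq hc D.IsNegRoot fun r h => h.1]
  exact uGen_congr fun r hr => isNegRoot_iff hc

theorem group_eq : D.group F = uGen D F (fun _ => True) := by
  rw [ChevalleyDatum.group, uGen]; congr 1; ext g
  constructor
  · rintro ⟨r, t, hg⟩
    refine ⟨r, t, r.2, trivial, eq_elX_of_coe hc r.2 ?_⟩
    rw [hg, ChevalleyDatum.x, dif_pos r.2]
  · rintro ⟨r, t, hr, -, rfl⟩
    refine ⟨⟨r, hr⟩, t, ?_⟩
    rw [coe_elX hc F hr, ChevalleyDatum.x, dif_pos hr]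

theorem rootSubgroup_eq {r : ℕ} (hr : r < D.nroots) : D.rootSubgroup F r = uGen D F (fun s => s = r) := by
  rw [ChevalleyDatum.rootSubgroup, uGen]; congr 1; ext g
  constructor
  · rintro ⟨t, hg⟩; exact ⟨r, t, hr, rfl, eq_elX_of_coe hc hr hg⟩
  · rintro ⟨s, t, hs, rfl, rfl⟩; exact ⟨t, coe_elX hc F hs t⟩

theorem mem_rootSubgroup {r : ℕ} (hr : r < D.nroots) {g : GL D.Idx F} :
    g ∈ D.rootSubgroup F r ↔ ∃ t, g = elX D F r t := by
  rw [rootSubgroup_eq hc hr]
  constructor
  · intro h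
    induction h using Subgroup.closure_induction with
    | mem x hx => obtain ⟨s, t, -, rfl, rfl⟩ := hx; exact ⟨t, rfl⟩
    | one => exact ⟨0, (elX_zero hc F hr).symm⟩
    | mul x y _ _ hx hy =>
        obtain ⟨a, rfl⟩ := hx; obtain ⟨b, rfl⟩ := hy; exact ⟨a + b, elX_add hc F hr a b⟩
    | inv x _ hx => obtain ⟨a, rfl⟩ := hx; exact ⟨-a, elX_inv hc F hr a⟩
  · rintro ⟨t, rfl⟩; exact elX_mem_uGen (P := fun s => s = r) hr rfl t

theorem commWord_mem {r s : ℕ} (hr : r < D.nroots) (hs : s < D.nroots) (t u : F) :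
    ∀ p ∈ D.commWord F r s t u, CombRoot D T r s p.1 := by
  intro p hp
  obtain ⟨c, hcm, rfl⟩ := List.mem_map.1 hp
  obtain ⟨h1, h2, h3, h4⟩ := commTerms_weight hc hr hs c hcm
  exact ⟨h1, c.2.2.1, c.2.2.2, h2, h3, h4⟩

theorem wordGL_mem {r s : ℕ} (hr : r < D.nroots) (hs : s < D.nroots) {P : ℕ → Prop}
    (h : ∀ v, CombRoot D T r s v → P v) (t u : F) : wordGL D F (D.commWord F r s t u) ∈ uGen D F P := by
  refine Subgroup.list_prod_mem _ fun g hg => ?_
  obtain ⟨p, hp, rfl⟩ := List.mem_map.1 hg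
  have hP := commWord_mem hc hr hs t u p hp
  exact elX_mem_uGen hP.1 (h _ hP) p.2

variable (hcomm : CommOne D T)
include hcomm

theorem elX_comm {r s : ℕ} (hr : r < D.nroots) (hs : s < D.nroots) (hrs : s ≠ r) (hneg : s ≠ D.neg r) (t u : F) :
    elX D F s u * elX D F r t = elX D F r t * elX D F s u * wordGL D F (D.commWord F r s t u) := by
  ext1
  rw [Units.val_mul, Units.val_mul, Units.val_mul, coe_elX hc F hr, coe_elX hc F hs,
    coe_wordGL hc (fun p hp => (commWord_mem hc hr hs t u p hp).1), x_comm hc hcomm F hr hs hrs hneg t u]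

theorem elX_conj_elX {r s : ℕ} (hr : r < D.nroots) (hs : s < D.nroots) (hrs : s ≠ r) (hneg : s ≠ D.neg r) (t u : F) :
    elX D F r t * elX D F s u * (elX D F r t)⁻¹ = elX D F s u * wordGL D F (D.commWord F r s (-t) u) := by
  rw [elX_inv hc F hr, mul_assoc, elX_comm hc hcomm hr hs hrs hneg, ← mul_assoc, ← mul_assoc, elX_add hc F hr,
    add_neg_cancel, elX_zero hc F hr, one_mul]

/-- X_r normalises the group generated by a set of roots closed under adding r -/
theorem elX_mem_normalizer {r : ℕ} (hr : r < D.nroots) {P : ℕ → Prop}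
    (h : ∀ s, s < D.nroots → P s → s ≠ r → (s ≠ D.neg r ∧ ∀ v, CombRoot D T r s v → P v)) (t : F) :
    elX D F r t ∈ Subgroup.normalizer (uGen D F P : Set (GL D.Idx F)) := by
  have key : ∀ a : F, ∀ g ∈ uGen D F P, elX D F r a * g * (elX D F r a)⁻¹ ∈ uGen D F P := by
    intro a g hg
    induction hg using Subgroup.closure_induction with
    | mem x hx =>
        obtain ⟨s, u, hs, hP, rfl⟩ := hx
        by_cases hsr : s = r
        · subst hsr
          rw [elX_add hc F hs, elX_inv hc F hs, elX_add hc F hs, show a + u + -a = u by ring]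
          exact elX_mem_uGen hs hP u
        · obtain ⟨h1, h2⟩ := h s hs hP hsr
          rw [elX_conj_elX hc hcomm hr hs hsr h1]
          exact mul_mem (elX_mem_uGen hs hP u) (wordGL_mem hc hr hs h2 _ _)
    | one => simp
    | mul x y _ _ hx hy =>
        rw [show elX D F r a * (x * y) * (elX D F r a)⁻¹ =
          (elX D F r a * x * (elX D F r a)⁻¹) * (elX D F r a * y * (elX D F r a)⁻¹) by group]
        exact mul_mem hx hy
    | inv x _ hx =>
        rw [show elX D F r a * x⁻¹ * (elX D F r a)⁻¹ = (elX D F r a * x * (elX D F r a)⁻¹)⁻¹ by group]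
        exact inv_mem hx
  rw [Subgroup.mem_normalizer_iff]
  refine fun g => ⟨key t g, fun hg => ?_⟩
  have := key (-t) _ hg
  rwa [← elX_inv hc F hr, inv_inv, show (elX D F r t)⁻¹ * (elX D F r t * g * (elX D F r t)⁻¹) * elX D F r t = g by group]
    at this

end

end CfsgLib.Chev
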