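import Cfsg.Agent.Lib.Chev.Torus
import Cfsg.Agent.Lib.Chev.CommCheck
/-
Products of root elements x_k(c t^i u^j), k = i r + j s, are determined by their value at t = u = 1.
-/
set_option autoImplicit false

namespace CfsgLib.Chev

open Cfsg.Lie
open scoped Matrix

variable {D : ChevalleyDatum} {T : Tabs}

/-- a product of root elements over a commutative ring, from the tables -/
noncomputable def wordTab (D : ChevalleyDatum) (T : Tabs) (R : Type*) [CommRing R] (w : List (ℕ × R)) :
    Matrix D.Idx D.Idx R :=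
  (w.map fun p => xTab D T R p.1 p.2).prod

/-- the difference of the weights of two basis vectors is `a r + b s` -/
def WStep (D : ChevalleyDatum) (T : Tabs) (r s : ℕ) (x y : D.Idx) (a b : ℕ) : Prop :=
  wI D T x - wI D T y = (a : ℤ) • rv D T r + (b : ℤ) • rv D T s

open Classical in
/-- the monomial t^a u^b attached to an entry -/
noncomputable def mon {R : Type*} [CommRing R] (D : ChevalleyDatum) (T : Tabs) (r s : ℕ) (t u : R) (x y : D.Idx) : R :=
  if h : ∃ a b : ℕ, WStep D T r s x y a b then t ^ h.choose * u ^ h.choose_spec.choose else 0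

/-- `M'` is obtained from the integer matrix `M` by monomials in t and u -/
def Homog {R : Type*} [CommRing R] (D : ChevalleyDatum) (T : Tabs) (r s : ℕ) (t u : R) (M : Matrix D.Idx D.Idx ℤ)
    (M' : Matrix D.Idx D.Idx R) : Prop :=
  (∀ x y, M x y ≠ 0 → ∃ a b : ℕ, WStep D T r s x y a b) ∧ ∀ x y, M' x y = (M x y : R) * mon D T r s t u x y

section
variable (hc : Checked D T) {r s : ℕ} (hr : r < D.nroots) (hs : s < D.nroots) (hrs : s ≠ r) (hneg : s ≠ D.neg r)
include hc hr hs hrs hneg

theorem step_unique {a b a' b' : ℤ}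
    (h : a • rv D T r + b • rv D T s = a' • rv D T r + b' • rv D T s) : a = a' ∧ b = b' := by
  have h' : (a - a') • rv D T r + (b - b') • rv D T s = 0 := by
    rw [sub_smul, sub_smul, ← sub_eq_zero.2 h]; abel
  by_cases hb : b - b' = 0
  · rw [hb, zero_smul, add_zero] at h'
    rcases smul_eq_zero.1 h' with ha | ha
    · exact ⟨by omega, by omega⟩
    · exact absurd ha (rv_ne_zero hc hr)
  · rcases eq_or_eq_neg_of_prop hc hr s hs _ _ hb h' with e | e
    · exact absurd e hrs
    · exact absurd e hneg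

theorem mon_eq {R : Type*} [CommRing R] (t u : R) {x y : D.Idx} {a b : ℕ} (h : WStep D T r s x y a b) :
    mon D T r s t u x y = t ^ a * u ^ b := by
  have hex : ∃ a b : ℕ, WStep D T r s x y a b := ⟨a, b, h⟩
  rw [mon, dif_pos hex]
  obtain ⟨e1, e2⟩ := step_unique hc hr hs hrs hneg (hex.choose_spec.choose_spec.symm.trans h)
  exact congrArg₂ (fun p q => t ^ p * u ^ q) (Int.natCast_inj.1 e1) (Int.natCast_inj.1 e2)

theorem Homog.mul {R : Type*} [CommRing R] {t u : R} {M N : Matrix D.Idx D.Idx ℤ} {M' N' : Matrix D.Idx D.Idx R}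
    (hM : Homog D T r s t u M M') (hN : Homog D T r s t u N N') : Homog D T r s t u (M * N) (M' * N') := by
  constructor
  · intro x y h
    rw [Matrix.mul_apply] at h
    obtain ⟨z, -, hz⟩ := Finset.exists_ne_zero_of_sum_ne_zero h
    obtain ⟨a, b, h1⟩ := hM.1 x z (left_ne_zero_of_mul hz)
    obtain ⟨a', b', h2⟩ := hN.1 z y (right_ne_zero_of_mul hz)
    refine ⟨a + a', b + b', ?_⟩
    rw [WStep] at h1 h2 ⊢
    push_cast
    rw [← sub_add_sub_cancel _ (wI D T z), h1, h2, add_smul, add_smul]; abel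
  · intro x y
    rw [Matrix.mul_apply, Matrix.mul_apply, Int.cast_sum, Finset.sum_mul]
    refine Finset.sum_congr rfl fun z _ => ?_
    rw [hM.2, hN.2, Int.cast_mul]
    by_cases h1 : M x z = 0
    · simp [h1]
    by_cases h2 : N z y = 0
    · simp [h2]
    obtain ⟨a, b, g1⟩ := hM.1 x z h1
    obtain ⟨a', b', g2⟩ := hN.1 z y h2
    have g : WStep D T r s x y (a + a') (b + b') := by
      rw [WStep] at g1 g2 ⊢
      push_cast
      rw [← sub_add_sub_cancel _ (wI D T z), g1, g2, add_smul, add_smul]; abel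
    rw [mon_eq hc hr hs hrs hneg t u g1, mon_eq hc hr hs hrs hneg t u g2, mon_eq hc hr hs hrs hneg t u g, pow_add,
      pow_add]
    ring

theorem Homog.one {R : Type*} [CommRing R] (t u : R) : Homog D T r s t u (1 : Matrix D.Idx D.Idx ℤ) (1 : Matrix D.Idx D.Idx R) := by
  constructor
  · intro x y h
    obtain rfl : x = y := by by_contra hh; exact h (Matrix.one_apply_ne hh)
    exact ⟨0, 0, by simp [WStep]⟩
  · intro x y
    by_cases hxy : x = y
    · subst hxy
      rw [mon_eq hc hr hs hrs hneg t u (a := 0) (b := 0) (by simp [WStep])]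
      simp
    · simp [Matrix.one_apply_ne hxy]

theorem homog_xTab {R : Type*} [CommRing R] (t u : R) {k : ℕ} (hk : k < D.nroots) (c : ℤ) {i j : ℕ}
    (hw : rv D T k = (i : ℤ) • rv D T r + (j : ℤ) • rv D T s) :
    Homog D T r s t u (xTab D T ℤ k c) (xTab D T R k ((c : R) * t ^ i * u ^ j)) := by
  have step : ∀ {x y : D.Idx} {d : ℕ}, d = 1 ∨ d = 2 ∨ d = 3 → tabMat D T d k x y ≠ 0 →
      WStep D T r s x y (d * i) (d * j) := by
    intro x y d hd h
    rw [WStep, weight_spec hc hd (by omega) h, hw, smul_add, smul_smul, smul_smul]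
    push_cast; abel
  constructor
  · intro x y h
    by_cases hxy : x = y
    · subst hxy; exact ⟨0, 0, by simp [WStep]⟩
    simp only [xTab, map_id_int, Matrix.add_apply, Matrix.smul_apply, smul_eq_mul, Matrix.one_apply_ne hxy] at h
    by_cases h1 : tabMat D T 1 k x y = 0
    · by_cases h2 : tabMat D T 2 k x y = 0
      · by_cases h3 : tabMat D T 3 k x y = 0
        · simp [h1, h2, h3] at h
        · exact ⟨_, _, step (Or.inr (Or.inr rfl)) h3⟩
      · exact ⟨_, _, step (Or.inr (Or.inl rfl)) h2⟩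
    · exact ⟨_, _, step (Or.inl rfl) h1⟩
  · intro x y
    have term : ∀ d, d = 1 ∨ d = 2 ∨ d = 3 → ((c : R) * t ^ i * u ^ j) ^ d * (tabMat D T d k x y : R) =
        (c : R) ^ d * (tabMat D T d k x y : R) * mon D T r s t u x y := by
      intro d hd
      by_cases h : tabMat D T d k x y = 0
      · simp [h]
      · rw [mon_eq hc hr hs hrs hneg t u (step hd h), mul_pow, mul_pow, ← pow_mul, ← pow_mul, mul_comm i d, mul_comm j d]
        ring
    simp only [xTab, Matrix.add_apply, Matrix.smul_apply, smul_eq_mul, Matrix.map_apply,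
      Int.coe_castRingHom, Int.cast_add, Int.cast_mul, Int.cast_pow, Int.cast_id]
    have h1 := term 1 (Or.inl rfl)
    rw [pow_one, pow_one] at h1
    by_cases hxy : x = y
    · subst hxy
      have e : mon D T r s t u x x = 1 := by
        rw [mon_eq hc hr hs hrs hneg t u (a := 0) (b := 0) (by simp [WStep])]; simp
      simp only [e, mul_one] at h1 term ⊢
      rw [Matrix.one_apply_eq, Matrix.one_apply_eq, Int.cast_one, h1, term 2 (Or.inr (Or.inl rfl)),
        term 3 (Or.inr (Or.inr rfl))]
    · rw [Matrix.one_apply_ne hxy, Matrix.one_apply_ne hxy, Int.cast_zero, h1, term 2 (Or.inr (Or.inl rfl)),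
        term 3 (Or.inr (Or.inr rfl))]
      ring

theorem homog_wordTab {R : Type*} [CommRing R] (t u : R) :
    ∀ (w : List (ℕ × ℤ × ℕ × ℕ)), (∀ q ∈ w, q.1 < D.nroots ∧
      rv D T q.1 = (q.2.2.1 : ℤ) • rv D T r + (q.2.2.2 : ℤ) • rv D T s) →
    Homog D T r s t u (wordTab D T ℤ (w.map fun q => (q.1, q.2.1)))
      (wordTab D T R (w.map fun q => (q.1, (q.2.1 : R) * t ^ q.2.2.1 * u ^ q.2.2.2))) := by
  intro w
  induction w with
  | nil => intro _; exact Homog.one hc hr hs hrs hneg t u
  | cons q l ih =>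
      intro h
      rw [List.forall_mem_cons] at h
      simp only [wordTab, List.map_cons, List.prod_cons]
      exact Homog.mul hc hr hs hrs hneg (homog_xTab hc hr hs hrs hneg t u h.1.1 q.2.1 h.1.2) (ih h.2)

end

theorem Homog.unique {R : Type*} [CommRing R] {r s : ℕ} {t u : R} {M : Matrix D.Idx D.Idx ℤ}
    {A B : Matrix D.Idx D.Idx R} (h1 : Homog D T r s t u M A) (h2 : Homog D T r s t u M B) : A = B := by
  ext x y; rw [h1.2, h2.2]

end CfsgLib.Chev
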