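import Cfsg.Agent.Lib.Chev.Unipotent
/-
The monomial subgroup: words in the n_p(1), their permutations of the roots, exchange, B ∩ N = H.
-/
set_option autoImplicit false
set_option linter.unusedSectionVars false

namespace CfsgLib.Chev

open Cfsg.Lie
open scoped Matrix

variable {D : ChevalleyDatum} {T : Tabs} {F : Type*} [Field F]

/-- the parametrisation of the diagonal subgroup by the values at the fundamental coroots -/
noncomputable def hPar (D : ChevalleyDatum) (F : Type*) [Field F] :
    (Fin D.rank → Fˣ) →* (Fin D.rank → Fˣ) where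
  toFun c := fun j => ∏ i, c i ^ cm D i j
  map_one' := by funext j; simp
  map_mul' a b := by funext j; simp [mul_zpow, Finset.prod_mul_distrib]

/-- the action on roots of a product of fundamental reflections -/
noncomputable def sigs (D : ChevalleyDatum) (T : Tabs) (L : List (Fin D.rank)) (r : ℕ) : ℕ :=
  L.foldr (fun i s => sig D T i s) r

/-- the action on weights of a product of fundamental reflections -/
def refls (D : ChevalleyDatum) (L : List (Fin D.rank)) (v : Fin D.rank → ℤ) : Fin D.rank → ℤ :=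
  L.foldr (fun i w => refl D i w) v

/-- the action on characters of a product of fundamental reflections -/
def reflChars (L : List (Fin D.rank)) (χ : Fin D.rank → Fˣ) : Fin D.rank → Fˣ :=
  L.foldr (fun i ψ => reflChar i ψ) χ

/-- the product of n_p(1) over a list of fundamental roots -/
noncomputable def nProd (D : ChevalleyDatum) (F : Type*) [Field F] (L : List (Fin D.rank)) : GL D.Idx F :=
  (L.map fun i => elN D F (D.simple i.val) 1).prod

@[simp] theorem nProd_nil : nProd D F [] = 1 := rfl

theorem nProd_cons (i : Fin D.rank) (L : List (Fin D.rank)) :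
    nProd D F (i :: L) = elN D F (D.simple i.val) 1 * nProd D F L := rfl

theorem nProd_append (L M : List (Fin D.rank)) : nProd D F (L ++ M) = nProd D F L * nProd D F M := by
  simp [nProd]

theorem sigs_cons (i : Fin D.rank) (L : List (Fin D.rank)) (r : ℕ) :
    sigs D T (i :: L) r = sig D T i (sigs D T L r) := rfl

theorem sigs_append (L M : List (Fin D.rank)) (r : ℕ) : sigs D T (L ++ M) r = sigs D T L (sigs D T M r) := by
  simp [sigs, List.foldr_append]

section
variable (hc : Checked D T)
include hc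

theorem sigs_lt (L : List (Fin D.rank)) {r : ℕ} (hr : r < D.nroots) : sigs D T L r < D.nroots := by
  induction L with
  | nil => exact hr
  | cons i L ih => exact sig_lt hc i ih

theorem rv_sigs (L : List (Fin D.rank)) {r : ℕ} (hr : r < D.nroots) :
    rv D T (sigs D T L r) = refls D L (rv D T r) := by
  induction L with
  | nil => rfl
  | cons i L ih => rw [sigs_cons, rv_sig hc i (sigs_lt hc L hr), ih]; rfl

theorem sigs_neg (L : List (Fin D.rank)) {r : ℕ} (hr : r < D.nroots) :
    sigs D T L (D.neg r) = D.neg (sigs D T L r) := by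
  induction L with
  | nil => rfl
  | cons i L ih => rw [sigs_cons, ih, sig_neg hc i (sigs_lt hc L hr)]; rfl

theorem sigs_injOn (L : List (Fin D.rank)) {r s : ℕ} (hr : r < D.nroots) (hs : s < D.nroots)
    (h : sigs D T L r = sigs D T L s) : r = s := by
  induction L with
  | nil => exact h
  | cons i L ih =>
      apply ih
      rw [← sig_sig hc i (sigs_lt hc L hr), ← sig_sig hc i (sigs_lt hc L hs)]
      exact congrArg (sig D T i) h

theorem sigs_reverse (L : List (Fin D.rank)) {r : ℕ} (hr : r < D.nroots) :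
    sigs D T L.reverse (sigs D T L r) = r := by
  induction L generalizing r with
  | nil => rfl
  | cons i L ih =>
      rw [List.reverse_cons, sigs_append]
      show sigs D T L.reverse (sig D T i (sig D T i (sigs D T L r))) = r
      rw [sig_sig hc i (sigs_lt hc L hr), ih hr]

theorem nProd_conj_elX_pair (L : List (Fin D.rank)) {r : ℕ} (hr : r < D.nroots) :
    ∃ c : Fˣ, ((c : F) = 1 ∨ (c : F) = -1) ∧
      ∀ t : F, nProd D F L * elX D F r t * (nProd D F L)⁻¹ = elX D F (sigs D T L r) ((c : F) * t) ∧
        nProd D F L * elX D F (D.neg r) t * (nProd D F L)⁻¹ = elX D F (D.neg (sigs D T L r)) ((c : F) * t) := by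
  induction L with
  | nil => exact ⟨1, Or.inl rfl, fun t => by simp [sigs]⟩
  | cons i L ih =>
      obtain ⟨c, hc1, h⟩ := ih
      have hu := sigs_lt hc L hr
      rcases eta_cast hc (F := F) i hu with e | e
      · refine ⟨c, hc1, fun t => ?_⟩
        have hh : ∀ n m x : GL D.Idx F, n * m * x * (n * m)⁻¹ = n * (m * x * m⁻¹) * n⁻¹ := fun n m x => by group
        rw [nProd_cons, hh, hh, (h t).1, (h t).2, nOne_conj_elX hc i hu, nOne_conj_elX hc i (neg_lt hc hu),
          sig_neg hc i hu, sigs_cons, eta_neg hc i hu, e, one_mul]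
        exact ⟨rfl, rfl⟩
      · refine ⟨-c, ?_, fun t => ?_⟩
        · rcases hc1 with g | g <;> simp [g]
        · have hh : ∀ n m x : GL D.Idx F, n * m * x * (n * m)⁻¹ = n * (m * x * m⁻¹) * n⁻¹ := fun n m x => by group
          rw [nProd_cons, hh, hh, (h t).1, (h t).2, nOne_conj_elX hc i hu, nOne_conj_elX hc i (neg_lt hc hu),
            sig_neg hc i hu, sigs_cons, eta_neg hc i hu, e, show (-1 : F) * ((c : F) * t) = ((-c : Fˣ) : F) * t by simp]
          exact ⟨rfl, rfl⟩

theorem nProd_conj_elX (L : List (Fin D.rank)) {r : ℕ} (hr : r < D.nroots) :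
    ∃ c : Fˣ, ((c : F) = 1 ∨ (c : F) = -1) ∧
      ∀ t : F, nProd D F L * elX D F r t * (nProd D F L)⁻¹ = elX D F (sigs D T L r) ((c : F) * t) := by
  obtain ⟨c, h1, h2⟩ := nProd_conj_elX_pair hc (F := F) L hr
  exact ⟨c, h1, fun t => (h2 t).1⟩

theorem nProd_conj_torus (L : List (Fin D.rank)) (χ : Fin D.rank → Fˣ) :
    nProd D F L * torus D T F χ * (nProd D F L)⁻¹ = torus D T F (reflChars L χ) := by
  induction L with
  | nil => simp [reflChars]
  | cons i L ih =>
      rw [nProd_cons, show ∀ n m x : GL D.Idx F, n * m * x * (n * m)⁻¹ = n * (m * x * m⁻¹) * n⁻¹ from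
        fun n m x => by group, ih, nOne_conj_torus hc]
      rfl

/-- a root element determines its root -/
theorem elX_root_unique {a b : ℕ} (ha : a < D.nroots) (hb : b < D.nroots) {s u : F} (hs : s ≠ 0)
    (h : elX D F a s = elX D F b u) : a = b := by
  by_contra hab
  obtain ⟨j, hj⟩ := exists_cv_ne_zero hc F ha
  have e := congrArg (fun g : GL D.Idx F =>
    (g : Matrix D.Idx D.Idx F) (Sum.inl j) (Sum.inr ⟨D.neg a, neg_lt hc ha⟩)) h
  simp only [coe_elX hc F ha, coe_elX hc F hb, xMat_eq hc F ha, xMat_eq hc F hb, xTab, Matrix.add_apply,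
    Matrix.smul_apply, Matrix.map_apply, smul_eq_mul,
    Matrix.one_apply_ne (show (Sum.inl j : D.Idx) ≠ Sum.inr ⟨D.neg a, neg_lt hc ha⟩ by simp)] at e
  have hz : ∀ k, k = 1 ∨ k = 2 ∨ k = 3 → tabMat D T k b (Sum.inl j) (Sum.inr ⟨D.neg a, neg_lt hc ha⟩) = 0 := by
    intro k hk
    by_contra hne
    have hw := weight_spec hc hk (by omega) hne
    rw [wI_inl, wI_inr, rv_neg hc ha] at hw
    have h2 : (-1 : ℤ) • rv D T a + (k : ℤ) • rv D T b = 0 := by rw [neg_one_smul]; exact hw.symm
    rcases eq_or_eq_neg_of_prop hc ha b hb (-1) (k : ℤ) (by omega) h2 with r | r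
    · exact hab r.symm
    · rw [r, rv_neg hc ha] at h2
      have h3 : ((k : ℤ) + 1) • rv D T a = 0 := by rw [← neg_eq_zero, ← h2]; module
      rcases smul_eq_zero.1 h3 with g | g
      · omega
      · exact rv_ne_zero hc ha g
  rw [hz 1 (Or.inl rfl), hz 2 (Or.inr (Or.inl rfl)), hz 3 (Or.inr (Or.inr rfl))] at e
  simp [tabMat_apply, field_t1 hc ha (neg_lt hc ha), field_t2 hc ha, field_t3 hc ha, chainEntry_neg hc ha,
    decCode_marker, decCode_encNZ (show (-7 : ℤ) ≤ -1 by norm_num) (show (-1 : ℤ) ≤ 7 by norm_num), coeffAt_corVec,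
    coeffAt_cons, optCode, show a ≠ D.nroots + j.val by omega, show D.nroots + j.val < D.nroots + D.rank by omega,
    hs, hj] at e

theorem hPar_eq_corChar (c : Fin D.rank → Fˣ) :
    hPar D F c = ∏ i : Fin D.rank, corChar D T (D.simple i.val) (c i) := by
  funext j
  rw [Finset.prod_apply]
  show ∏ i, c i ^ cm D i j = _
  refine Finset.prod_congr rfl fun i _ => ?_
  show c i ^ cm D i j = c i ^ _
  rw [Finset.sum_eq_single i]
  · rw [cv_simple hc i.2 i.2, if_pos rfl, one_mul]
  · intro k _ hk; rw [cv_simple hc i.2 k.2, if_neg (fun h => hk (Fin.ext h.symm)), zero_mul]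
  · simp

theorem corChar_eq_hPar (r : ℕ) (t : Fˣ) : corChar D T r t = hPar D F (fun i => t ^ cv T r i) := by
  funext j
  show t ^ _ = ∏ i : Fin D.rank, (t ^ cv T r i) ^ cm D i j
  simp only [← zpow_mul, prod_zpow_sum]

theorem diagonalSubgroup_eq : D.diagonalSubgroup F = ((torus D T F).comp (hPar D F)).range := by
  apply le_antisymm
  · rw [ChevalleyDatum.diagonalSubgroup, Subgroup.closure_le]
    rintro g ⟨r, t, hr, ht, hg⟩
    refine ⟨fun i => (Units.mk0 t ht) ^ cv T r i, ?_⟩
    rw [MonoidHom.comp_apply, ← corChar_eq_hPar hc, ← elH_eq_torus hc hr, Units.val_mk0]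
    ext1
    rw [coe_elH hc hr, hg]
  · rintro g ⟨c, rfl⟩
    show hPar D F c ∈ Subgroup.comap (torus D T F) (D.diagonalSubgroup F)
    rw [hPar_eq_corChar hc]
    refine Subgroup.prod_mem _ fun i _ => ?_
    rw [Subgroup.mem_comap, ← elH_eq_torus hc (simple_lt hc i.2)]
    exact Subgroup.subset_closure ⟨D.simple i, c i, simple_lt hc i.2, Units.ne_zero _, coe_elH hc (simple_lt hc i.2) _⟩

theorem mem_diagonal {g : GL D.Idx F} :
    g ∈ D.diagonalSubgroup F ↔ ∃ c, torus D T F (hPar D F c) = g := by
  rw [diagonalSubgroup_eq hc]; exact MonoidHom.mem_range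

theorem torus_corChar_mem {r : ℕ} (t : Fˣ) : torus D T F (corChar D T r t) ∈ D.diagonalSubgroup F :=
  (mem_diagonal hc).2 ⟨_, by rw [← corChar_eq_hPar hc]⟩

theorem diagonal_conj_elX {h : GL D.Idx F} (hh : h ∈ D.diagonalSubgroup F) {r : ℕ} (hr : r < D.nroots) :
    ∃ c : Fˣ, ∀ t : F, h * elX D F r t * h⁻¹ = elX D F r ((c : F) * t) := by
  obtain ⟨c, rfl⟩ := (mem_diagonal hc).1 hh
  exact ⟨_, fun t => torus_conj_elX hc _ hr t⟩

theorem nOne_conj_diagonal (i : Fin D.rank) {h : GL D.Idx F} (hh : h ∈ D.diagonalSubgroup F) :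
    elN D F (D.simple i.val) 1 * h * (elN D F (D.simple i.val) 1)⁻¹ ∈ D.diagonalSubgroup F := by
  induction hh using Subgroup.closure_induction with
  | mem x hx =>
      obtain ⟨r, t, hr, ht, hx⟩ := hx
      have hx' : x = elN D F r t * elN D F r (-1) := by ext1; rw [hx]; exact (coe_elH hc hr t).symm
      rw [hx', show ∀ n a b : GL D.Idx F, n * (a * b) * n⁻¹ = (n * a * n⁻¹) * (n * b * n⁻¹) from
        fun n a b => by group, nOne_conj_elN hc i hr, nOne_conj_elN hc i hr]
      have hne : (eta D T i r : F) ≠ 0 := by rcases eta_cast hc (F := F) i hr with e | e <;> simp [e]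
      have := elN_mul_inv hc (F := F) (sig_lt hc i hr) (Units.mk0 _ (mul_ne_zero hne ht)) (Units.mk0 _ hne)
      rw [Units.val_mk0, Units.val_mk0, elN_inv hc (sig_lt hc i hr)] at this
      rw [mul_neg, mul_one, this]
      exact torus_corChar_mem hc _
  | one => simp
  | mul x y _ _ hx hy =>
      rw [show ∀ n a b : GL D.Idx F, n * (a * b) * n⁻¹ = (n * a * n⁻¹) * (n * b * n⁻¹) from fun n a b => by group]
      exact mul_mem hx hy
  | inv x _ hx =>
      rw [show ∀ n a : GL D.Idx F, n * a⁻¹ * n⁻¹ = (n * a * n⁻¹)⁻¹ from fun n a => by group]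
      exact inv_mem hx

theorem nProd_conj_diagonal (L : List (Fin D.rank)) {h : GL D.Idx F} (hh : h ∈ D.diagonalSubgroup F) :
    nProd D F L * h * (nProd D F L)⁻¹ ∈ D.diagonalSubgroup F := by
  induction L with
  | nil => simpa
  | cons i L ih =>
      rw [nProd_cons, show ∀ n m x : GL D.Idx F, n * m * x * (n * m)⁻¹ = n * (m * x * m⁻¹) * n⁻¹ from
        fun n m x => by group]
      exact nOne_conj_diagonal hc i ih

theorem elN_mem_monomial {r : ℕ} (hr : r < D.nroots) : elN D F r (1 : F) ∈ D.monomialSubgroup F :=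
  Subgroup.mem_sup_right (Subgroup.subset_closure ⟨r, hr, coe_elN hc hr 1⟩)

theorem diagonal_le_monomial : D.diagonalSubgroup F ≤ D.monomialSubgroup F := le_sup_left

theorem nProd_mem_monomial (L : List (Fin D.rank)) : nProd D F L ∈ D.monomialSubgroup F :=
  Subgroup.list_prod_mem _ fun g hg => by
    obtain ⟨i, -, rfl⟩ := List.mem_map.1 hg
    exact elN_mem_monomial hc (simple_lt hc i.2)

theorem elN_div_mem {r : ℕ} (hr : r < D.nroots) {a b : F} (ha : a ≠ 0) (hb : b ≠ 0) :
    elN D F r a * (elN D F r b)⁻¹ ∈ D.diagonalSubgroup F := by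
  have h := elN_mul_inv hc (F := F) hr (Units.mk0 a ha) (Units.mk0 b hb)
  rw [Units.val_mk0, Units.val_mk0] at h
  rw [h]
  exact torus_corChar_mem hc _

theorem nOne_inv (i : Fin D.rank) :
    ∃ h ∈ D.diagonalSubgroup F, (elN D F (D.simple i.val) 1)⁻¹ = h * elN D F (D.simple i.val) 1 :=
  ⟨_, elN_div_mem hc (simple_lt hc i.2) (a := (-1 : F)) (b := 1) (by simp) one_ne_zero, by
    rw [inv_mul_cancel_right, elN_inv hc (simple_lt hc i.2)]⟩

theorem nProd_inv (L : List (Fin D.rank)) :
    ∃ h ∈ D.diagonalSubgroup F, (nProd D F L)⁻¹ = h * nProd D F L.reverse := by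
  induction L with
  | nil => exact ⟨1, one_mem _, by simp⟩
  | cons i L ih =>
      obtain ⟨h, hh, e⟩ := ih
      obtain ⟨k, hk, f⟩ := nOne_inv hc (F := F) i
      refine ⟨h * (nProd D F L.reverse * k * (nProd D F L.reverse)⁻¹),
        mul_mem hh (nProd_conj_diagonal hc _ hk), ?_⟩
      rw [List.reverse_cons, nProd_append, nProd_cons, nProd_cons, nProd_nil, mul_one, mul_inv_rev, e, f]
      group

/-- every element of N is a torus element times a product of n_p(1) -/
theorem monomial_cases {g : GL D.Idx F} (hg : g ∈ D.monomialSubgroup F) :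
    ∃ h ∈ D.diagonalSubgroup F, ∃ L : List (Fin D.rank), g = h * nProd D F L := by
  rw [ChevalleyDatum.monomialSubgroup, ← Subgroup.closure_eq (D.diagonalSubgroup F), ← Subgroup.closure_union] at hg
  induction hg using Subgroup.closure_induction with
  | mem x hx =>
      rcases hx with hx | ⟨r, hr, hx⟩
      · exact ⟨x, hx, [], by simp⟩
      · have hx' : x = elN D F r 1 := by ext1; rw [hx, coe_elN hc hr]
        subst hx'
        clear hx
        refine root_induction hc (P := fun r => ∃ h ∈ D.diagonalSubgroup F, ∃ L : List (Fin D.rank),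
          elN D F r (1 : F) = h * nProd D F L) (fun i => ⟨1, one_mem _, [i], by simp [nProd_cons]⟩)
          (fun i s hs hP => ?_) hr
        obtain ⟨h, hh, L, e⟩ := hP
        have hu := sig_lt hc i hs
        have hne : (eta D T i s : F) ≠ 0 := by rcases eta_cast hc (F := F) i hs with e | e <;> simp [e]
        obtain ⟨k, hk, f⟩ := nOne_inv hc (F := F) i
        have h1 := nOne_conj_elN hc (F := F) i hs 1
        rw [mul_one] at h1
        set n := elN D F (D.simple i.val) (1 : F)
        set m := elN D F (sig D T i s) (1 : F)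
        refine ⟨(elN D F (sig D T i s) (eta D T i s : F) * m⁻¹)⁻¹ * (n * h * n⁻¹) *
            (nProd D F (i :: L) * k * (nProd D F (i :: L))⁻¹),
          mul_mem (mul_mem (inv_mem (elN_div_mem hc hu hne one_ne_zero)) (nOne_conj_diagonal hc i hh))
            (nProd_conj_diagonal hc _ hk), i :: L ++ [i], ?_⟩
        rw [nProd_append, show nProd D F [i] = n from by simp [nProd_cons, n],
          show nProd D F (i :: L) = n * nProd D F L from rfl, ← h1, e]
        calc m = (n * (h * nProd D F L) * n⁻¹ * m⁻¹)⁻¹ * (n * h * n⁻¹) * (n * nProd D F L * n⁻¹) := by group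
          _ = (n * (h * nProd D F L) * n⁻¹ * m⁻¹)⁻¹ * (n * h * n⁻¹) * (n * nProd D F L * (k * n)) := by rw [← f]
          _ = _ := by group
  | one => exact ⟨1, one_mem _, [], by simp⟩
  | mul x y _ _ hx hy =>
      obtain ⟨h, hh, L, rfl⟩ := hx
      obtain ⟨k, hk, M, rfl⟩ := hy
      refine ⟨h * (nProd D F L * k * (nProd D F L)⁻¹), mul_mem hh (nProd_conj_diagonal hc L hk), L ++ M, ?_⟩
      rw [nProd_append]; group
  | inv x _ hx =>
      obtain ⟨h, hh, L, rfl⟩ := hx
      obtain ⟨k, hk, e⟩ := nProd_inv hc (F := F) L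
      refine ⟨k * (nProd D F L.reverse * h⁻¹ * (nProd D F L.reverse)⁻¹),
        mul_mem hk (nProd_conj_diagonal hc _ (inv_mem hh)), L.reverse, ?_⟩
      rw [mul_inv_rev, e]; group

/-- equal elements modulo H permute the roots in the same way -/
theorem sigs_eq_of_mem {L M : List (Fin D.rank)} (h : nProd D F L * (nProd D F M)⁻¹ ∈ D.diagonalSubgroup F) {r : ℕ}
    (hr : r < D.nroots) : sigs D T L r = sigs D T M r := by
  obtain ⟨a, ha, hL⟩ := nProd_conj_elX hc (F := F) L hr
  obtain ⟨b, hb, hM⟩ := nProd_conj_elX hc (F := F) M hr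
  obtain ⟨c, hcc⟩ := diagonal_conj_elX hc h (sigs_lt hc M hr)
  refine elX_root_unique hc (sigs_lt hc L hr) (sigs_lt hc M hr) (s := (a : F) * 1) (u := (c : F) * ((b : F) * 1))
    (by simp) ?_
  rw [← hL 1, ← hcc, ← hM 1]; group

/-- the exchange property, modulo H -/
theorem exchange_mod (L : List (Fin D.rank)) (i : Fin D.rank)
    (hneg : sigs D T L (D.simple i.val) < D.nroots / 2) :
    ∃ L' : List (Fin D.rank), L'.length + 1 = L.length ∧ L'.Sublist L ∧
      nProd D F (L ++ [i]) * (nProd D F L')⁻¹ ∈ D.diagonalSubgroup F := by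
  have hpi := simple_lt hc i.2
  induction L with
  | nil => have := half_le_simple hc i.2; simp [sigs] at hneg; omega
  | cons j L ih =>
      by_cases h : sigs D T L (D.simple i.val) < D.nroots / 2
      · obtain ⟨L', h1, hsub, h3⟩ := ih h
        refine ⟨j :: L', by simp [h1], hsub.cons₂ j, ?_⟩
        rw [List.cons_append, nProd_cons, nProd_cons, show ∀ n a b : GL D.Idx F, n * a * (n * b)⁻¹ = n * (a * b⁻¹) * n⁻¹
          from fun n a b => by group]
        exact nOne_conj_diagonal hc j h3
      · have hu := sigs_lt hc L hpi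
        have hj : sigs D T L (D.simple i.val) = D.simple j.val := by
          by_contra hne
          rw [sigs_cons] at hneg
          have := (sig_pos hc j hu (by omega) hne).1
          omega
        refine ⟨L, by simp, List.sublist_cons_self j L, ?_⟩
        obtain ⟨c, hc1, hcx⟩ := nProd_conj_elX_pair hc (F := F) L hpi
        rw [hj] at hcx
        have hm : nProd D F L * elN D F (D.simple i.val) 1 * (nProd D F L)⁻¹ = elN D F (D.simple j.val) (c : F) := by
          rw [elN, show ∀ m a b e : GL D.Idx F, m * (a * b * e) * m⁻¹ = (m * a * m⁻¹) * (m * b * m⁻¹) * (m * e * m⁻¹)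
            from fun m a b e => by group, (hcx 1).1, (hcx _).2, elN]
          congr 2 <;> rcases hc1 with e | e <;> simp [e]
        obtain ⟨k, hk, f⟩ := nOne_inv hc (F := F) j
        have h2 := elN_div_mem hc (F := F) (simple_lt hc j.2) (a := (c : F)) (b := 1) c.ne_zero one_ne_zero
        have key := mul_mem (nOne_conj_diagonal hc j h2) (inv_mem hk)
        convert key using 1
        rw [List.cons_append, nProd_cons, nProd_append, nProd_cons, nProd_nil, mul_one, ← hm]
        set n := elN D F (D.simple j.val) (1 : F)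
        rw [show k = n⁻¹ * n⁻¹ from eq_mul_inv_of_mul_eq f.symm]
        group

theorem exchange (L : List (Fin D.rank)) (i : Fin D.rank)
    (hneg : sigs D T L (D.simple i.val) < D.nroots / 2) :
    ∃ L' : List (Fin D.rank), L'.length + 1 = L.length ∧ (∀ r, r < D.nroots → sigs D T (L ++ [i]) r = sigs D T L' r) ∧
      nProd D F (L ++ [i]) * (nProd D F L')⁻¹ ∈ D.diagonalSubgroup F := by
  obtain ⟨L', h1, -, h2⟩ := exchange_mod hc (F := F) L i hneg
  exact ⟨L', h1, fun r hr => sigs_eq_of_mem hc h2 hr, h2⟩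

theorem nProd_mem_of_pos (L : List (Fin D.rank))
    (h : ∀ i : Fin D.rank, D.nroots / 2 ≤ sigs D T L (D.simple i.val)) : nProd D F L ∈ D.diagonalSubgroup F := by
  suffices key : ∀ d, ∀ L : List (Fin D.rank), L.length = d →
      (∀ i : Fin D.rank, D.nroots / 2 ≤ sigs D T L (D.simple i.val)) → nProd D F L ∈ D.diagonalSubgroup F from
    key _ L rfl h
  intro d
  induction d using Nat.strong_induction_on with
  | _ d ih =>
    intro L hL h
    rcases List.eq_nil_or_concat L with rfl | ⟨M, i, rfl⟩
    · exact one_mem _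
    · rw [List.concat_eq_append] at hL h ⊢
      have hi := h i
      rw [sigs_append, show sigs D T [i] (D.simple i.val) = sig D T i (D.simple i.val) from rfl, sig_simple hc,
        sigs_neg hc M (simple_lt hc i.2), neg_eq hc (sigs_lt hc M (simple_lt hc i.2))] at hi
      have hneg : sigs D T M (D.simple i.val) < D.nroots / 2 := by
        have := nroots_eq_two_mul hc; have := sigs_lt hc M (simple_lt hc i.2) (T := T); omega
      obtain ⟨L', h1, h2, h3⟩ := exchange hc (F := F) M i hneg
      have hL' := ih L'.length (by simp at hL; omega) L' rfl (fun j => by rw [← h2 _ (simple_lt hc j.2)]; exact h j)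
      simpa using mul_mem h3 hL'

end

end CfsgLib.Chev
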