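import Cfsg.Agent.Lib.Chev.WeylSum
/-
The order of a Chevalley group over a finite field: q^N |H| times the length generating function of the Weyl group;
certificates for the order of H and for the generating function.
-/
set_option autoImplicit false
set_option linter.unusedSectionVars false

namespace CfsgLib.Chev

open Cfsg.Lie
open scoped Matrix

variable {D : ChevalleyDatum} {T : Tabs} {F : Type*} [Field F]

/-- evaluation of a list of coefficients -/
def polyEval : List ℕ → ℕ → ℕ
  | [], _ => 0
  | a :: l, x => a + x * polyEval l x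

theorem polyEval_map (f : ℕ → ℕ) (x : ℕ) : ∀ m k,
    x ^ k * polyEval ((List.range' k m).map f) x = ∑ i ∈ Finset.range m, f (k + i) * x ^ (k + i)
  | 0, k => by simp [polyEval]
  | m + 1, k => by
      rw [List.range'_succ, List.map_cons, polyEval, mul_add, ← mul_assoc, ← pow_succ, polyEval_map f x m (k + 1),
        Finset.sum_range_succ', add_zero, mul_comm (f k), add_comm]
      congr 1
      exact Finset.sum_congr rfl fun i _ => by rw [show k + 1 + i = k + (i + 1) by ring]

/-- the sizes of the levels -/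
def levelSizes (C : List (List ℤ)) (n : ℕ) (J : List ℕ) (j m : ℕ) : List ℕ :=
  (levelList C n J m [(List.range n).map fun k => if k = j then 1 else 0]).map List.length

theorem level_sum_eq (C : List (List ℤ)) (n : ℕ) (J : List ℕ) (j m : ℕ) (h : orbitCheck C n J j m = true) (x : ℕ) :
    ∑ k ∈ Finset.range m, (level C n J j k).toFinset.card * x ^ k = polyEval (levelSizes C n J j m) x := by
  have e : levelList C n J m [(List.range n).map fun k => if k = j then (1 : ℤ) else 0] =
      (List.range' 0 m).map (level C n J j) := (levelList_eq C n J j m 0)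
  rw [orbitCheck, Bool.and_eq_true, decide_eq_true_eq] at h
  have hnd := h.1
  simp only [e] at hnd
  have := polyEval_map (fun k => (level C n J j k).length) x m 0
  rw [pow_zero, one_mul] at this
  rw [levelSizes, e, List.map_map, show List.length ∘ level C n J j = fun k => (level C n J j k).length from rfl, this]
  refine Finset.sum_congr rfl fun k hk => ?_
  rw [Nat.zero_add, List.toFinset_card_of_nodup]
  exact (List.nodup_flatten.1 hnd).1 _ (List.mem_map.2 ⟨k, List.mem_range'_1.2 ⟨Nat.zero_le _, by simpa using hk⟩, rfl⟩)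

section
variable (hc : Checked D T)
include hc

theorem card_uGen [Fintype F] (hcomm : CommOne D T) {P : ℕ → Prop} [DecidablePred P] (hP : ClosedPos D T P) :
    Nat.card ↥(uGen D F P) = Fintype.card F ^ (Finset.univ.filter fun r : Fin D.nroots => P r.val).card := by
  classical
  let ext : ({r : Fin D.nroots // P r.val} → F) → ℕ → F := fun t r =>
    if h : r < D.nroots ∧ P r then t ⟨⟨r, h.1⟩, h.2⟩ else 0
  let Φ : ({r : Fin D.nroots // P r.val} → F) → ↥(uGen D F P) := fun t =>
    ⟨uProd D F (rootsFrom D P 0) (ext t), mem_uGen_of_uProd hc (ext t)⟩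
  have hb : Function.Bijective Φ := by
    constructor
    · intro t t' e
      have e' := uProd_inj hc hP.1 0 (congrArg Subtype.val e)
      funext ⟨⟨r, hr⟩, hPr⟩
      have := e' r (mem_rootsFrom.2 ⟨Nat.zero_le _, hr, hPr⟩)
      simp only [ext, dif_pos (show r < D.nroots ∧ P r from ⟨hr, hPr⟩)] at this
      exact this
    · rintro ⟨g, hg⟩
      obtain ⟨t, rfl⟩ := uGen_exists hc hcomm hP hg
      refine ⟨fun r => t r.1.val, Subtype.ext (uProd_congr fun r hr => ?_)⟩
      obtain ⟨-, h1, h2⟩ := mem_rootsFrom.1 hr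
      simp only [ext, dif_pos (show r < D.nroots ∧ P r from ⟨h1, h2⟩)]
  rw [← Nat.card_eq_of_bijective Φ hb, Nat.card_fun, Nat.card_eq_fintype_card, Nat.card_eq_fintype_card,
    Fintype.card_subtype]

theorem wsum_full_eq (x : ℕ) {J : List (Fin D.rank)} (hJ : ∀ i, i ∈ J) :
    wsum hc J x = wsum hc (List.finRange D.rank) x := by
  have : WSet D T J = WSet D T (List.finRange D.rank) := by
    ext f
    simp [WSet, hJ, List.mem_finRange]
  unfold wsum
  congr 1
  ext f
  rw [Set.Finite.mem_toFinset, Set.Finite.mem_toFinset, this]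

/-- the order formula -/
theorem card_group [Fintype F] (hcomm : CommOne D T) {J : List (Fin D.rank)} (hJ : ∀ i, i ∈ J) :
    Nat.card ↥(D.group F) =
      Fintype.card F ^ (D.nroots / 2) * Nat.card ↥(D.diagonalSubgroup F) * wsum hc J (Fintype.card F) := by
  classical
  set Wt := (wset_finite hc J).toFinset
  have hrep : ∀ f : ↥Wt, ∃ L : List (Fin D.rank), f.1 = wfun D T L := fun f => by
    obtain ⟨L, -, h⟩ := (Set.Finite.mem_toFinset _).1 f.2
    exact ⟨L, h⟩
  choose rep hrep using hrep
  set U := uGen D F (fun r => D.nroots / 2 ≤ r)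
  let Φ : (Σ f : ↥Wt, ↥U × ↥(D.diagonalSubgroup F) × ↥(uInv D T F (rep f))) → ↥(D.group F) := fun a =>
    ⟨a.2.1.1 * (a.2.2.1.1 * nProd D F (rep a.1)) * a.2.2.2.1,
      mul_mem (mul_mem (pos_le_group hc a.2.1.2) (monomial_le_group hc (mul_mem (diagonal_le_monomial hc a.2.2.1.2)
        (nProd_mem_monomial hc _)))) (pos_le_group hc (uInv_le_pos hc _ a.2.2.2.2))⟩
  have hb : Function.Bijective Φ := by
    constructor
    · rintro ⟨f, u, h, v⟩ ⟨f', u', h', v'⟩ e
      obtain ⟨hs, h1, h2, h3⟩ := bruhat_unique hc h.2 h'.2 u.2 u'.2 v.2 v'.2 (congrArg Subtype.val e)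
      obtain rfl : f = f' := Subtype.ext (by
        rw [hrep f, hrep f']; funext r; exact hs r r.2)
      obtain rfl : u = u' := Subtype.ext h1
      obtain rfl : v = v' := Subtype.ext h2
      obtain rfl : h = h' := Subtype.ext (mul_right_cancel h3)
      rfl
    · rintro ⟨g, hg⟩
      obtain ⟨u, hu, h, hh, L, v, hv, rfl⟩ := exists_bruhat hc hcomm hg
      have hf : wfun D T L ∈ Wt := (Set.Finite.mem_toFinset _).2 ⟨L, fun i _ => hJ i, rfl⟩
      have hs : ∀ r, r < D.nroots → sigs D T L r = sigs D T (rep ⟨_, hf⟩) r := fun r hr =>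
        congrFun (hrep ⟨_, hf⟩) ⟨r, hr⟩
      have hm := nProd_div_mem hc (F := F) hs
      refine ⟨⟨⟨_, hf⟩, ⟨u, hu⟩, ⟨_, mul_mem hh hm⟩, ⟨v, (uInv_congr hc (F := F) hs) ▸ hv⟩⟩, Subtype.ext ?_⟩
      simp only [Φ]
      group
  rw [← Nat.card_eq_of_bijective Φ hb]
  haveI : Fintype (GL D.Idx F) := Fintype.ofFinite _
  rw [Nat.card_sigma]
  have e : ∀ f : ↥Wt, Nat.card (↥U × ↥(D.diagonalSubgroup F) × ↥(uInv D T F (rep f))) =
      Fintype.card F ^ (D.nroots / 2) * Nat.card ↥(D.diagonalSubgroup F) * Fintype.card F ^ (invSet D f.1).card := by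
    intro f
    have h1 : Nat.card ↥U = Fintype.card F ^ (D.nroots / 2) := by
      show Nat.card ↥(uGen D F (fun r => D.nroots / 2 ≤ r)) = _
      rw [← posUnipotent_eq hc]
      exact card_pos hc hcomm
    have h2 : Nat.card ↥(uInv D T F (rep f)) = Fintype.card F ^ (invSet D f.1).card := by
      rw [uInv, card_uGen hc hcomm (closedPos_inv hc (rep f)), hrep f]
      congr 2
      ext r
      rw [mem_invSet]
      exact Finset.mem_filter.trans (and_iff_right (Finset.mem_univ r))
    rw [Nat.card_prod, Nat.card_prod, h1, h2, mul_assoc]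
  simp only [e, ← Finset.mul_sum]
  congr 1
  rw [wsum]
  exact Finset.sum_coe_sort Wt fun f => Fintype.card F ^ (invSet D f).card

/-- the order of H from a normal-form certificate of the Cartan matrix -/
theorem card_diagonal [Fintype F] {s : ℕ} (d : ℕ) (piv : Fin s → Fin D.rank) (V : Fin s → Fin D.rank → ℤ)
    (A : Fin D.rank → Fin D.rank → ℤ) (B : Fin D.rank → Fin s → ℤ)
    (h1 : ∀ i k, ∑ j, cm D i j * A j k = (if i = k then 1 else 0) - ∑ a, if piv a = i then V a k else 0)
    (h2 : ∀ a j, (d : ℤ) ∣ ∑ i, V a i * cm D i j)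
    (h3 : ∀ i a, ∑ j, cm D i j * B j a = if i = piv a then (d : ℤ) else 0)
    (h4 : ∀ a b, V a (piv b) = if a = b then 1 else 0) :
    (Fintype.card F - 1).gcd d ^ s * Nat.card ↥(D.diagonalSubgroup F) = (Fintype.card F - 1) ^ D.rank := by
  classical
  have hH : Nat.card ↥(D.diagonalSubgroup F) = Nat.card ↥(hPar D F).range := by
    rw [diagonalSubgroup_eq hc, MonoidHom.range_comp]
    exact Nat.card_congr (Subgroup.equivMapOfInjective _ _ (torus_injective hc)).toEquiv.symm
  have hev : ∀ (c : Fin D.rank → Fˣ) (w : Fin D.rank → ℤ),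
      ∏ j, hPar D F c j ^ w j = ∏ i, c i ^ ∑ j, cm D i j * w j := by
    intro c w
    show ∏ j, (∏ i, c i ^ cm D i j) ^ w j = _
    simp only [← Finset.prod_zpow, ← zpow_mul]
    rw [Finset.prod_comm]
    exact Finset.prod_congr rfl fun i _ => prod_zpow_sum (c i) _ _
  set K := (hPar D F).ker
  set M := (powMonoidHom d : Fˣ →* Fˣ).ker
  have toK : ∀ z : Fin s → ↥M, (fun i => ∏ a, (z a : Fˣ) ^ V a i) ∈ K := by
    intro z
    rw [MonoidHom.mem_ker]
    funext j
    show ∏ i, (∏ a, (z a : Fˣ) ^ V a i) ^ cm D i j = 1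
    simp only [← Finset.prod_zpow, ← zpow_mul]
    rw [Finset.prod_comm]
    refine Finset.prod_eq_one fun a _ => ?_
    rw [prod_zpow_sum]
    obtain ⟨e, he⟩ := h2 a j
    rw [he, zpow_mul, zpow_natCast, show (z a : Fˣ) ^ d = 1 from (z a).2, one_zpow]
  have fromK : ∀ c : ↥K, ∀ a, c.1 (piv a) ∈ M := by
    intro c a
    show c.1 (piv a) ^ d = 1
    have := hev c.1 fun j => B j a
    rw [show hPar D F c.1 = 1 from c.2] at this
    simp only [h3, Pi.one_apply, one_zpow, Finset.prod_const_one] at this
    rw [Finset.prod_eq_single (piv a) (fun i _ hi => by rw [if_neg hi, zpow_zero]) (by simp), if_pos rfl,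
      zpow_natCast] at this
    exact this.symm
  let e : ↥K ≃ (Fin s → ↥M) :=
    { toFun := fun c a => ⟨c.1 (piv a), fromK c a⟩
      invFun := fun z => ⟨_, toK z⟩
      left_inv := fun c => by
        apply Subtype.ext
        funext k
        have := hev c.1 fun j => A j k
        rw [show hPar D F c.1 = 1 from c.2] at this
        simp only [h1, Pi.one_apply, one_zpow, Finset.prod_const_one, zpow_sub, Finset.prod_mul_distrib,
          Finset.prod_inv_distrib] at this
        rw [Finset.prod_eq_single k (fun i _ hi => by rw [if_neg hi, zpow_zero]) (by simp), if_pos rfl, zpow_one,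
          eq_comm, mul_inv_eq_one] at this
        refine Eq.trans ?_ this.symm
        show ∏ a, c.1 (piv a) ^ V a k = _
        simp only [← prod_zpow_sum]
        rw [Finset.prod_comm]
        exact Finset.prod_congr rfl fun a _ => by
          rw [Finset.prod_eq_single (piv a) (fun i _ hi => by rw [if_neg (Ne.symm hi), zpow_zero]) (by simp), if_pos rfl]
      right_inv := fun z => by
        funext b
        apply Subtype.ext
        show ∏ a, (z a : Fˣ) ^ V a (piv b) = z b
        rw [Finset.prod_eq_single b (fun a _ ha => by rw [h4, if_neg ha, zpow_zero]) (by simp), h4, if_pos rfl, zpow_one] }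
  have hK : Nat.card ↥K = (Fintype.card F - 1).gcd d ^ s := by
    rw [Nat.card_congr e, Nat.card_fun, Nat.card_fin]
    congr 1
    rw [IsCyclic.card_powMonoidHom_ker, Nat.card_units, Nat.card_eq_fintype_card]
  rw [← hK, hH, ← Subgroup.index_ker, Subgroup.card_mul_index, Nat.card_fun, Nat.card_fin, Nat.card_units,
    Nat.card_eq_fintype_card]

end

end CfsgLib.Chev
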