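import Cfsg.Agent.Lib.Chev.RadicalCentralizer
import Cfsg.Agent.Lib.Chev.Bruhat
/-
The standard parabolic subgroups: generation, Levi decomposition, normaliser of the radical.
-/
set_option autoImplicit false
set_option linter.unusedSectionVars false

namespace CfsgLib.Chev

open Cfsg.Lie
open scoped Matrix

variable {D : ChevalleyDatum} {T : Tabs} {F : Type*} [Field F]

/-- roots that are positive or in the subsystem of `J` -/
def ParRoot (D : ChevalleyDatum) (J : Set ℕ) (r : ℕ) : Prop := D.nroots / 2 ≤ r ∨ D.InRootSub J r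

/-- the total coefficient outside `J` -/
noncomputable def outLevel (D : ChevalleyDatum) (J : Set ℕ) (v : Fin D.rank → ℤ) : ℤ :=
  letI := Classical.decPred (fun i : ℕ => i ∈ J)
  ∑ i : Fin D.rank, if (i : ℕ) ∈ J then 0 else v i

theorem outLevel_add (J : Set ℕ) (v w : Fin D.rank → ℤ) :
    outLevel D J (v + w) = outLevel D J v + outLevel D J w := by
  simp only [outLevel, ← Finset.sum_add_distrib, Pi.add_apply]
  exact Finset.sum_congr rfl fun i _ => by split <;> simp

theorem outLevel_smul (J : Set ℕ) (c : ℤ) (v : Fin D.rank → ℤ) : outLevel D J (c • v) = c * outLevel D J v := by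
  simp only [outLevel, Finset.mul_sum, Pi.smul_apply, smul_eq_mul]
  exact Finset.sum_congr rfl fun i _ => by split <;> simp

theorem outLevel_neg (J : Set ℕ) (v : Fin D.rank → ℤ) : outLevel D J (-v) = -outLevel D J v := by
  have := outLevel_smul J (-1 : ℤ) v
  simpa using this

section
variable (hc : Checked D T)
include hc

theorem inRootSub_neg {J : Set ℕ} {r : ℕ} (hr : r < D.nroots) (h : D.InRootSub J r) : D.InRootSub J (D.neg r) := by
  rw [inRootSub_iff hc] at h ⊢
  exact ⟨neg_lt hc hr, fun i hi => by rw [rv_neg hc hr, Pi.neg_apply, h.2 i hi, neg_zero]⟩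

theorem inRootSub_sig {J : Set ℕ} {i : Fin D.rank} (hi : (i : ℕ) ∈ J) {r : ℕ} (h : D.InRootSub J r) :
    D.InRootSub J (sig D T i r) := by
  rw [inRootSub_iff hc] at h ⊢
  exact ⟨sig_lt hc i h.1, fun j hj => by
    rw [rv_sig hc i h.1, refl_apply_of_ne (fun e : j = i => hj (e ▸ hi))]; exact h.2 j hj⟩

theorem simple_inRootSub {J : Set ℕ} {i : Fin D.rank} (hi : (i : ℕ) ∈ J) : D.InRootSub J (D.simple i.val) := by
  rw [inRootSub_iff hc]
  exact ⟨simple_lt hc i.2, fun j hj => by
    rw [rv_simple hc, Pi.single_eq_of_ne (fun e : j = i => hj (e ▸ hi))]⟩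

/-- root elements of the subsystem lie in a group containing the n_j and the fundamental root groups of `J` -/
theorem sub_root_mem {J : Set ℕ} {K : Subgroup (GL D.Idx F)}
    (hn : ∀ i : Fin D.rank, (i : ℕ) ∈ J → elN D F (D.simple i.val) 1 ∈ K)
    (hx : ∀ (i : Fin D.rank), (i : ℕ) ∈ J → ∀ t, elX D F (D.simple i.val) t ∈ K) :
    ∀ r, D.InRootSub J r → ∀ t, elX D F r t ∈ K := by
  have hconj : ∀ (i : Fin D.rank), (i : ℕ) ∈ J → ∀ s, s < D.nroots → (∀ t, elX D F s t ∈ K) →
      ∀ t, elX D F (sig D T i s) t ∈ K := by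
    intro i hi s hs h t
    have hne : (eta D T i s : F) ≠ 0 := by rcases eta_cast hc (F := F) i hs with e | e <;> simp [e]
    have e := nOne_conj_elX hc i hs ((eta D T i s : F)⁻¹ * t)
    rw [mul_inv_cancel_left₀ hne] at e
    rw [← e]
    exact mul_mem (mul_mem (hn i hi) (h _)) (inv_mem (hn i hi))
  have pos : ∀ r, D.nroots / 2 ≤ r → D.InRootSub J r →
      (∀ t, elX D F r t ∈ K) ∧ ∀ t, elX D F (D.neg r) t ∈ K := by
    intro r
    induction r using Nat.strong_induction_on with
    | _ r ih =>
      intro hp hJ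
      have hr := hJ.1
      obtain ⟨i, hi, hgt⟩ : ∃ i : Fin D.rank, (i : ℕ) ∈ J ∧ 0 < D.cartan i r := by
        by_contra hh
        push Not at hh
        have h2 := coroot_pair_self hc hr
        have : ∑ i : Fin D.rank, cv T r i * D.cartan i r ≤ 0 := Finset.sum_nonpos fun i _ => by
          by_cases hi : (i : ℕ) ∈ J
          · exact mul_nonpos_of_nonneg_of_nonpos (((root_spec hc hr).2.2.2.2 i i.2).2.1 hp).1 (hh i hi)
          · have := hJ.2 i i.2 hi
            rw [coroot_eq hc hr i.2] at this
            simp [this]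
        omega
      by_cases e : r = D.simple i.val
      · subst e
        refine ⟨hx i hi, fun t => ?_⟩
        rw [← sig_simple hc i]
        exact hconj i hi _ hr (hx i hi) t
      · have hs := sig_lt hc i hr
        have hlt : sig D T i r < r := by
          rw [← key_lt_iff hc hs hr, rv_sig hc i hr, refl, ← cartan_linear hc i hr, sub_eq_add_neg, keyLin_add,
            keyLin_neg, show (Pi.single i (D.cartan i r) : Fin D.rank → ℤ) = D.cartan i r • Pi.single i 1 by
              rw [← Pi.single_smul]; simp, keyLin_smul, ← rv_simple hc i]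
          have := (key_pos_iff hc (simple_lt hc i.2)).2 (half_le_simple hc i.2)
          nlinarith
        obtain ⟨h1, h2⟩ := ih _ hlt (sig_pos hc i hr hp e).1 (inRootSub_sig hc hi hJ)
        refine ⟨fun t => ?_, fun t => ?_⟩
        · rw [← sig_sig hc i hr]; exact hconj i hi _ hs h1 t
        · have e2 := hconj i hi _ (neg_lt hc hs) h2 t
          rwa [sig_neg hc i hs, sig_sig hc i hr] at e2
  intro r hJ
  by_cases hp : D.nroots / 2 ≤ r
  · exact (pos r hp hJ).1
  · have hn' := neg_lt hc hJ.1
    have := (pos (D.neg r) (by rw [neg_eq hc hJ.1]; have := nroots_eq_two_mul hc; omega) (inRootSub_neg hc hJ.1 hJ)).2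
    rwa [neg_neg_root hc hJ.1] at this

theorem parRootGen_eq (J : Set ℕ) :
    Subgroup.closure {g : GL D.Idx F | ∃ (r : ℕ) (t : F), (D.IsPosRoot r ∨ D.InRootSub J r) ∧
      (g : Matrix D.Idx D.Idx F) = D.x F r t} = uGen D F (ParRoot D J) := by
  rw [rootGen_eq hc _ (fun r h => h.elim (fun h => h.1) (fun h => h.1))]
  exact uGen_congr fun r hr => by simp [ParRoot, isPosRoot_iff hc, hr]

theorem levi_eq (J : Set ℕ) : D.leviSubgroup F J = D.diagonalSubgroup F ⊔ uGen D F (D.InRootSub J) := by
  rw [ChevalleyDatum.leviSubgroup, rootGen_eq hc _ (fun r h => h.1)]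

theorem elN_mem_of_roots {K : Subgroup (GL D.Idx F)} {r : ℕ}
    (h1 : ∀ t, elX D F r t ∈ K) (h2 : ∀ t, elX D F (D.neg r) t ∈ K) (t : F) : elN D F r t ∈ K :=
  mul_mem (mul_mem (h1 _) (h2 _)) (h1 _)

theorem parabolic_gen (J : Set ℕ) :
    D.parabolicSubgroup F J = D.diagonalSubgroup F ⊔ uGen D F (ParRoot D J) := by
  apply le_antisymm
  · refine sup_le ?_ ((Subgroup.closure_le _).2 ?_)
    · rw [ChevalleyDatum.borelSubgroup, posUnipotent_eq hc]
      exact sup_le ((uGen_mono fun r _ h => Or.inl h).trans le_sup_right) le_sup_left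
    · rintro g ⟨j, hjJ, hj, hg⟩
      have hp := simple_lt hc hj
      rw [show g = elN D F (D.simple j) 1 by ext1; rw [coe_elN hc hp, hg]]
      refine Subgroup.mem_sup_right (elN_mem_of_roots hc (fun t => ?_) (fun t => ?_) 1)
      · exact elX_mem_uGen hp (P := ParRoot D J) (Or.inl (half_le_simple hc hj)) t
      · exact elX_mem_uGen (neg_lt hc hp) (P := ParRoot D J)
          (Or.inr (inRootSub_neg hc hp (simple_inRootSub hc (i := ⟨j, hj⟩) hjJ))) t
  · refine sup_le ((diagonal_le_borel hc).trans le_sup_left) ?_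
    rw [uGen_le_iff]
    intro r hr hP t
    rcases hP with hp | hJ
    · exact Subgroup.mem_sup_left (elX_mem_borel hc hr hp t)
    · exact sub_root_mem hc (fun i hi => elN_mem_parabolic hc hi)
        (fun i hi t => Subgroup.mem_sup_left (elX_mem_borel hc (simple_lt hc i.2) (half_le_simple hc i.2) t)) r hJ t

theorem levi_flat {J : Set ℕ} {g : GL D.Idx F} (hg : g ∈ D.leviSubgroup F J) :
    ∀ x y, (g : Matrix D.Idx D.Idx F) x y ≠ 0 → outLevel D J (wI D T x) = outLevel D J (wI D T y) := by
  let K : Subgroup (GL D.Idx F) :=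
    { carrier := {g | (∀ x y, (g : Matrix D.Idx D.Idx F) x y ≠ 0 → outLevel D J (wI D T x) = outLevel D J (wI D T y)) ∧
        ∀ x y, ((g⁻¹ : GL D.Idx F) : Matrix D.Idx D.Idx F) x y ≠ 0 →
          outLevel D J (wI D T x) = outLevel D J (wI D T y)}
      one_mem' := by
        constructor <;> intro x y h <;> by_cases e : x = y
        · rw [e]
        · simp [Matrix.one_apply_ne e] at h
        · rw [e]
        · simp [Matrix.one_apply_ne e] at h
      mul_mem' := by
        rintro a b ⟨a1, a2⟩ ⟨b1, b2⟩
        constructor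
        · intro x y h
          rw [Units.val_mul, Matrix.mul_apply] at h
          obtain ⟨z, -, hz⟩ := Finset.exists_ne_zero_of_sum_ne_zero h
          exact (a1 x z (left_ne_zero_of_mul hz)).trans (b1 z y (right_ne_zero_of_mul hz))
        · intro x y h
          rw [mul_inv_rev, Units.val_mul, Matrix.mul_apply] at h
          obtain ⟨z, -, hz⟩ := Finset.exists_ne_zero_of_sum_ne_zero h
          exact (b2 x z (left_ne_zero_of_mul hz)).trans (a2 z y (right_ne_zero_of_mul hz))
      inv_mem' := by
        rintro a ⟨a1, a2⟩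
        exact ⟨a2, fun x y h => a1 x y (by rwa [inv_inv] at h)⟩ }
  have htor : ∀ χ : Fin D.rank → Fˣ, ∀ x y, ((torus D T F χ : GL D.Idx F) : Matrix D.Idx D.Idx F) x y ≠ 0 →
      outLevel D J (wI D T x) = outLevel D J (wI D T y) := by
    intro χ x y h
    by_cases e : x = y
    · rw [e]
    · exact absurd (torus_diag_entry χ e) h
  have hle : D.leviSubgroup F J ≤ K := by
    rw [levi_eq hc]
    refine sup_le ?_ ?_
    · intro h hh
      obtain ⟨c, rfl⟩ := (mem_diagonal hc).1 hh
      exact ⟨htor _, by rw [← map_inv]; exact htor _⟩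
    · rw [uGen_le_iff]
      intro r hr hJ t
      have hz : outLevel D J (rv D T r) = 0 := by
        rw [inRootSub_iff hc] at hJ
        rw [outLevel]
        refine Finset.sum_eq_zero fun i _ => ?_
        split
        · rfl
        · exact hJ.2 i ‹_›
      have key : ∀ t x y, ((elX D F r t : GL D.Idx F) : Matrix D.Idx D.Idx F) x y ≠ 0 →
          outLevel D J (wI D T x) = outLevel D J (wI D T y) := by
        intro t x y h
        by_cases e : x = y
        · rw [e]
        have h1 := raises_elX hc (outLevel_add J) (outLevel_smul J) hr (d := 0) le_rfl (by omega) t x y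
          (by rwa [Matrix.one_apply_ne e])
        have h2 := raises_elX hc (f := fun v => -outLevel D J v) (fun a b => by rw [outLevel_add]; ring)
          (fun c a => by rw [outLevel_smul]; ring) hr (d := 0) le_rfl (by omega) t x y (by rwa [Matrix.one_apply_ne e])
        dsimp only at h2
        omega
      exact ⟨key t, by rw [elX_inv hc F hr]; exact key _⟩
  exact (hle hg).1

theorem radical_inf_levi (J : Set ℕ) : D.unipotentRadical F J ⊓ D.leviSubgroup F J = ⊥ := by
  classical
  rw [eq_bot_iff]
  rintro g ⟨hu, hl⟩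
  rw [SetLike.mem_coe, unipotentRadical_eq hc] at hu
  have hR := raises_uGen hc (outLevel_add (D := D) J) (outLevel_smul (D := D) J) (d := 1) (by norm_num)
    (fun r hr h => by
      obtain ⟨hp, j, hj, hne⟩ := (outRoot_iff hc hr).1 h
      have hnn : ∀ i : Fin D.rank, 0 ≤ (if (i : ℕ) ∈ J then 0 else rv D T r i) := fun i => by
        split
        · exact le_rfl
        · exact rv_nonneg hc hr hp i
      have hj1 : 1 ≤ rv D T r j := by have := rv_nonneg hc hr hp j; omega
      rw [outLevel]
      refine le_trans ?_ (Finset.single_le_sum (fun i _ => hnn i) (Finset.mem_univ j))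
      rw [if_neg hj]; exact hj1) hu
  rw [Subgroup.mem_bot]
  ext x y
  by_cases e : x = y
  · subst e
    by_contra h
    rw [Units.val_one, Matrix.one_apply_eq] at h
    have := hR x x (by rwa [Matrix.one_apply_eq])
    omega
  · rw [Units.val_one, Matrix.one_apply_ne e]
    by_contra h
    have h1 := hR x y (by rwa [Matrix.one_apply_ne e])
    have h2 := levi_flat hc hl x y h
    omega

variable (hcomm : CommOne D T)
include hcomm

theorem levi_decomposition (J : Set ℕ) :
    D.parabolicSubgroup F J ≤ Subgroup.normalizer (D.unipotentRadical F J : Set (GL D.Idx F)) ∧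
      D.unipotentRadical F J ⊔ D.leviSubgroup F J = D.parabolicSubgroup F J ∧
      D.unipotentRadical F J ⊓ D.leviSubgroup F J = ⊥ := by
  refine ⟨?_, ?_, radical_inf_levi hc J⟩
  · rw [unipotentRadical_eq hc]; exact parabolic_normalizes_radical hc hcomm J
  · rw [unipotentRadical_eq hc, levi_eq hc, parabolic_gen hc]
    refine le_antisymm (sup_le ((uGen_mono fun r _ h => Or.inl h.1).trans le_sup_right)
      (sup_le le_sup_left ((uGen_mono fun r _ h => Or.inr h).trans le_sup_right)))
      (sup_le (le_sup_left.trans le_sup_right) ?_)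
    rw [uGen_le_iff]
    intro r hr hP t
    by_cases hJ : D.InRootSub J r
    · exact Subgroup.mem_sup_right (Subgroup.mem_sup_right (elX_mem_uGen hr hJ t))
    · exact Subgroup.mem_sup_left (elX_mem_uGen hr (P := OutRoot D J) ⟨hP.resolve_right hJ, hJ⟩ t)

omit hcomm in
/-- a word keeping every root outside the subsystem positive gives an element of the parabolic subgroup -/
theorem nProd_mem_parabolic {J : Set ℕ} : ∀ (m : ℕ) (L : List (Fin D.rank)), L.length = m →
    (∀ r, r < D.nroots → OutRoot D J r → D.nroots / 2 ≤ sigs D T L r) →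
      nProd D F L ∈ D.parabolicSubgroup F J := by
  intro m
  induction m using Nat.strong_induction_on with
  | _ m ih =>
    intro L hm h
    by_cases hall : ∀ i : Fin D.rank, D.nroots / 2 ≤ sigs D T L (D.simple i.val)
    · exact Subgroup.mem_sup_left (diagonal_le_borel hc (nProd_mem_of_pos hc L hall))
    push Not at hall
    obtain ⟨i, hi⟩ := hall
    have hp := simple_lt hc i.2
    have hiJ : (i : ℕ) ∈ J := by
      by_contra hh
      have := h _ hp ((outRoot_iff hc hp).2 ⟨half_le_simple hc i.2, i, hh, by simp [rv_simple hc]⟩)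
      omega
    obtain ⟨L', h1, h2, h3⟩ := exchange hc (F := F) L i hi
    have hL' := ih L'.length (by omega) L' rfl fun r hr hR => by
      rw [← h2 r hr, sigs_append]
      exact h _ (sig_lt hc i hr) (outRoot_sig hc hiJ hr hR)
    have h4 := mul_mem (Subgroup.mem_sup_left (diagonal_le_borel hc h3) : _ ∈ D.parabolicSubgroup F J) hL'
    rw [inv_mul_cancel_right, nProd_append, nProd_cons, nProd_nil, mul_one] at h4
    have h5 : _ ∈ D.parabolicSubgroup F J := mul_mem h4 (inv_mem (elN_mem_parabolic hc hiJ (F := F)))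
    rwa [mul_inv_cancel_right] at h5

/-- the normaliser of the radical in the group is the parabolic subgroup -/
theorem normalizer_radical (J : Set ℕ) :
    Subgroup.normalizer (D.unipotentRadical F J : Set (GL D.Idx F)) ⊓ D.group F = D.parabolicSubgroup F J := by
  rw [unipotentRadical_eq hc]
  refine le_antisymm ?_ (le_inf (parabolic_normalizes_radical hc hcomm J) (sup_le (borel_le_group hc) ?_))
  · rintro g ⟨hN, hG⟩
    obtain ⟨u, hu, h, hh, L, v, hv, rfl⟩ := exists_bruhat hc hcomm hG
    have hB : ∀ {x : GL D.Idx F}, x ∈ D.borelSubgroup F → x ∈ D.parabolicSubgroup F J := fun hx =>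
      Subgroup.mem_sup_left hx
    have huP := hB (mul_mem (pos_le_borel hc hu) (diagonal_le_borel hc hh))
    have hvP := hB (pos_le_borel hc (uInv_le_pos hc L hv))
    have hn : nProd D F L ∈ Subgroup.normalizer (uGen D F (OutRoot D J) : Set (GL D.Idx F)) := by
      have := mul_mem (mul_mem (inv_mem (parabolic_normalizes_radical hc hcomm J huP)) hN)
        (inv_mem (parabolic_normalizes_radical hc hcomm J hvP))
      rwa [show (u * h)⁻¹ * (u * (h * nProd D F L) * v) * v⁻¹ = nProd D F L by group] at this
    have hP := nProd_mem_parabolic hc (F := F) (J := J) _ L rfl fun r hr hR => by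
      obtain ⟨c, -, hcx⟩ := nProd_conj_elX hc (F := F) L hr
      have h1 := ((Subgroup.mem_normalizer_iff).1 hn _).1 (elX_mem_uGen hr hR (1 : F))
      rw [hcx] at h1
      by_contra hneg
      exact elX_not_mem_borel hc (sigs_lt hc L hr) (by omega) (by simp)
        (pos_le_borel hc (uGen_mono (fun s _ hs => hs.1) h1))
    rw [show u * (h * nProd D F L) * v = u * h * nProd D F L * v by group]
    exact mul_mem (mul_mem huP hP) hvP
  · rw [Subgroup.closure_le]
    rintro g ⟨j, -, hj, hg⟩
    rw [show g = elN D F (D.simple j) 1 by ext1; rw [coe_elN hc (simple_lt hc hj), hg]]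
    exact elN_mem_group hc (simple_lt hc hj) 1

end

end CfsgLib.Chev
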