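import Cfsg.Agent.Lib.Chev.Order
import Cfsg.Agent.Lib.Chev.Parabolic
import Cfsg.Agent.Lib.Chev.RadicalCentralizer
/-
The order of a parabolic subgroup: q^N |H| times the length generating function of W_J.
-/
set_option autoImplicit false
set_option linter.unusedSectionVars false

namespace CfsgLib.Chev

open Cfsg.Lie
open scoped Matrix

variable {D : ChevalleyDatum} {T : Tabs} {F : Type*} [Field F]

section
variable (hc : Checked D T)
include hc

/-- a word keeping the roots outside the subsystem positive acts as a word in the reflections of the subsystem -/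
theorem exists_subsystem_word {J : Set ℕ} : ∀ (m : ℕ) (L : List (Fin D.rank)), L.length = m →
    (∀ r, r < D.nroots → OutRoot D J r → D.nroots / 2 ≤ sigs D T L r) →
      ∃ M : List (Fin D.rank), (∀ i ∈ M, (i : ℕ) ∈ J) ∧ ∀ r, r < D.nroots → sigs D T L r = sigs D T M r := by
  intro m
  induction m using Nat.strong_induction_on with
  | _ m ih =>
    intro L hm h
    by_cases hall : ∀ i : Fin D.rank, D.nroots / 2 ≤ sigs D T L (D.simple i.val)
    · exact ⟨[], by simp, fun r hr => by rw [sigs_id_of_pos hc hall hr]; rfl⟩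
    push Not at hall
    obtain ⟨i, hi⟩ := hall
    have hp := simple_lt hc i.2
    have hiJ : (i : ℕ) ∈ J := by
      by_contra hh
      have := h _ hp ((outRoot_iff hc hp).2 ⟨half_le_simple hc i.2, i, hh, by simp [rv_simple hc]⟩)
      omega
    obtain ⟨L', h1, h2, -⟩ := exchange hc (F := ℚ) L i hi
    obtain ⟨M, hM1, hM2⟩ := ih L'.length (by omega) L' rfl fun r hr hR => by
      rw [← h2 r hr, sigs_append]
      exact h _ (sig_lt hc i hr) (outRoot_sig hc hiJ hr hR)
    refine ⟨M ++ [i], fun j hj => ?_, fun r hr => ?_⟩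
    · rcases List.mem_append.1 hj with hj | hj
      · exact hM1 j hj
      · rw [List.mem_singleton] at hj; exact hj ▸ hiJ
    · rw [sigs_append]
      show _ = sigs D T M (sig D T i r)
      rw [← hM2 _ (sig_lt hc i hr), ← h2 _ (sig_lt hc i hr), sigs_append]
      show _ = sigs D T L (sig D T i (sig D T i r))
      rw [sig_sig hc i hr]

theorem card_parabolic [Fintype F] (hcomm : CommOne D T) {J : Set ℕ} {JL : List (Fin D.rank)}
    (hJ : ∀ i : Fin D.rank, i ∈ JL ↔ (i : ℕ) ∈ J) :
    Nat.card ↥(D.parabolicSubgroup F J) =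
      Fintype.card F ^ (D.nroots / 2) * Nat.card ↥(D.diagonalSubgroup F) * wsum hc JL (Fintype.card F) := by
  classical
  set Wt := (wset_finite hc JL).toFinset
  have hrep : ∀ f : ↥Wt, ∃ L : List (Fin D.rank), (∀ i ∈ L, i ∈ JL) ∧ f.1 = wfun D T L := fun f => by
    obtain ⟨L, h0, h⟩ := (Set.Finite.mem_toFinset _).1 f.2
    exact ⟨L, h0, h⟩
  choose rep hrepJ hrep using hrep
  set U := uGen D F (fun r => D.nroots / 2 ≤ r)
  have hB : ∀ {x : GL D.Idx F}, x ∈ D.borelSubgroup F → x ∈ D.parabolicSubgroup F J := fun hx =>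
    Subgroup.mem_sup_left hx
  have hnP : ∀ f, nProd D F (rep f) ∈ D.parabolicSubgroup F J := fun f =>
    Subgroup.list_prod_mem _ fun g hg => by
      obtain ⟨i, hi, rfl⟩ := List.mem_map.1 hg
      exact elN_mem_parabolic hc ((hJ i).1 (hrepJ f i hi))
  let Φ : (Σ f : ↥Wt, ↥U × ↥(D.diagonalSubgroup F) × ↥(uInv D T F (rep f))) → ↥(D.parabolicSubgroup F J) := fun a =>
    ⟨a.2.1.1 * (a.2.2.1.1 * nProd D F (rep a.1)) * a.2.2.2.1,
      mul_mem (mul_mem (hB (pos_le_borel hc a.2.1.2)) (mul_mem (hB (diagonal_le_borel hc a.2.2.1.2)) (hnP _)))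
        (hB (pos_le_borel hc (uInv_le_pos hc _ a.2.2.2.2)))⟩
  have hb : Function.Bijective Φ := by
    constructor
    · rintro ⟨f, u, h, v⟩ ⟨f', u', h', v'⟩ e
      obtain ⟨hs, h1, h2, h3⟩ := bruhat_unique hc h.2 h'.2 u.2 u'.2 v.2 v'.2 (congrArg Subtype.val e)
      obtain rfl : f = f' := Subtype.ext (by
        rw [hrep f, hrep f']; funext r; exact hs r r.2)
      obtain rfl : u = u' := Subtype.ext h1
      obtain rfl : v = v' := Subtype.ext h2
      obtain rfl : h = h' := Subtype.ext (mul_right_cancel h3)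
      rfl
    · rintro ⟨g, hg⟩
      have hgN : g ∈ Subgroup.normalizer (D.unipotentRadical F J : Set (GL D.Idx F)) ⊓ D.group F := by
        rw [normalizer_radical hc hcomm]; exact hg
      obtain ⟨u, hu, h, hh, L, v, hv, rfl⟩ := exists_bruhat hc hcomm hgN.2
      have hn : nProd D F L ∈ D.parabolicSubgroup F J := by
        have := mul_mem (mul_mem (inv_mem (hB (mul_mem (pos_le_borel hc hu) (diagonal_le_borel hc hh)))) hg)
          (inv_mem (hB (pos_le_borel hc (uInv_le_pos hc L hv))))
        rwa [show (u * h)⁻¹ * (u * (h * nProd D F L) * v) * v⁻¹ = nProd D F L by group] at this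
      have hnN := parabolic_normalizes_radical hc hcomm J hn
      obtain ⟨M, hM1, hM2⟩ := exists_subsystem_word hc (J := J) _ L rfl fun r hr hR => by
        obtain ⟨c, -, hcx⟩ := nProd_conj_elX hc (F := F) L hr
        have h1 := ((Subgroup.mem_normalizer_iff).1 hnN _).1 (elX_mem_uGen hr hR (1 : F))
        rw [hcx] at h1
        by_contra hneg
        exact elX_not_mem_borel hc (sigs_lt hc L hr) (by omega) (by simp)
          (pos_le_borel hc (uGen_mono (fun s _ hs => hs.1) h1))
      have hf : wfun D T L ∈ Wt := (Set.Finite.mem_toFinset _).2 ⟨M, fun i hi => (hJ i).2 (hM1 i hi),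
        funext fun r => hM2 r r.2⟩
      have hs : ∀ r, r < D.nroots → sigs D T L r = sigs D T (rep ⟨_, hf⟩) r := fun r hr =>
        congrFun (hrep ⟨_, hf⟩) ⟨r, hr⟩
      have hm := nProd_div_mem hc (F := F) hs
      refine ⟨⟨⟨_, hf⟩, ⟨u, hu⟩, ⟨_, mul_mem hh hm⟩, ⟨v, (uInv_congr hc (F := F) hs) ▸ hv⟩⟩, Subtype.ext ?_⟩
      simp only [Φ]
      group
  rw [← Nat.card_eq_of_bijective Φ hb]
  haveI : Fintype (GL D.Idx F) := Fintype.ofFinite _
  rw [Nat.card_sigma]
  have e : ∀ f : ↥Wt, Nat.card (↥U × ↥(D.diagonalSubgroup F) × ↥(uInv D T F (rep f))) =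
      Fintype.card F ^ (D.nroots / 2) * Nat.card ↥(D.diagonalSubgroup F) * Fintype.card F ^ (invSet D f.1).card := by
    intro f
    have h1 : Nat.card ↥U = Fintype.card F ^ (D.nroots / 2) := by
      show Nat.card ↥(uGen D F (fun r => D.nroots / 2 ≤ r)) = _
      rw [← posUnipotent_eq hc]
      exact card_pos hc hcomm
    have h2 : Nat.card ↥(uInv D T F (rep f)) = Fintype.card F ^ (invSet D f.1).card := by
      rw [uInv, card_uGen hc hcomm (closedPos_inv hc (rep f)), hrep f]
      congr 2
      ext r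
      rw [mem_invSet]
      exact Finset.mem_filter.trans (and_iff_right (Finset.mem_univ r))
    rw [Nat.card_prod, Nat.card_prod, h1, h2, mul_assoc]
  simp only [e, ← Finset.mul_sum]
  congr 1
  rw [wsum]
  exact Finset.sum_coe_sort Wt fun f => Fintype.card F ^ (invSet D f).card

end

end CfsgLib.Chev
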