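import Cfsg.Agent.S2395
import Cfsg.Agent.S2396
import Cfsg.Agent.Lib.Chev.Simple

/-!
The Chevalley group is perfect, being the image of the perfect group presented by (R1) and (R2); hence simple.
-/

set_option autoImplicit false

namespace CfsgLib.Chev

open Cfsg.Lie

/-- the Chevalley group is perfect -/
theorem commutator_group_eq_top_of_cover {F : Type*} [Field F] (D : ChevalleyDatum)
    (hD : D ∈ [chevG2, chevB2, chevD4, chevF4, chevE6, chevE7, chevE8])
    (hK : D ∈ [chevB2, chevG2] → ∃ x : F, x ≠ 0 ∧ x ≠ 1) : commutator ↥(D.group F) = ⊤ := by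
  obtain ⟨θ, hs, -, -⟩ := Cfsg.Agent.S2396.result D hD hK
  rw [commutator_def, ← Subgroup.map_top_of_surjective θ hs, ← Subgroup.map_commutator, ← commutator_def,
    Cfsg.Agent.S2395.result D hD hK]

/-- the Chevalley group is simple and not commutative -/
theorem isSimple_group_of_cover {F : Type*} [Field F] (D : ChevalleyDatum)
    (hD : D ∈ [chevG2, chevB2, chevD4, chevF4, chevE6, chevE7, chevE8])
    (hK : D ∈ [chevB2, chevG2] → ∃ x : F, x ≠ 0 ∧ x ≠ 1) :
    IsSimpleGroup ↥(D.group F) ∧ ¬ IsMulCommutative ↥(D.group F) :=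
  isSimple_group_of_perfect hD (commutator_group_eq_top_of_cover D hD hK)

end CfsgLib.Chev
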