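import Cfsg.Agent.Lib.Chev.Checked
/-
What the checks say about the datum: the packed tables hold the chain table, the coroots and the Cartan integers.
-/
set_option autoImplicit false

namespace CfsgLib.Chev

open Cfsg.Lie

variable {D : ChevalleyDatum} {T : Tabs}

theorem cond_false_iff {b c : Bool} : cond b c false = true ↔ b = true ∧ c = true := by cases b <;> simp

theorem cond_true_iff {b c : Bool} : cond b true c = true ↔ b = true ∨ c = true := by cases b <;> simp

theorem nat_beq_iff {a b : ℕ} : Nat.beq a b = true ↔ a = b :=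
  ⟨Nat.eq_of_beq_eq_true, fun h => h ▸ Nat.beq_refl a⟩

theorem nat_ble_iff {a b : ℕ} : Nat.ble a b = true ↔ a ≤ b := ⟨Nat.le_of_ble_eq_true, Nat.ble_eq_true_of_le⟩

theorem nat_blt_iff {a b : ℕ} : Nat.blt a b = true ↔ a < b := by
  show Nat.ble (a + 1) b = true ↔ a < b
  rw [nat_ble_iff]; omega

theorem cond_beq {α : Type*} (a b : ℕ) (x y : α) : cond (Nat.beq a b) x y = if a = b then x else y := by
  by_cases h : a = b
  · rw [if_pos h, nat_beq_iff.2 h]; rfl
  · rw [if_neg h]
    cases hb : Nat.beq a b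
    · rfl
    · exact absurd (nat_beq_iff.1 hb) h

theorem cond_blt {α : Type*} (a b : ℕ) (x y : α) : cond (Nat.blt a b) x y = if a < b then x else y := by
  by_cases h : a < b
  · rw [if_pos h, nat_blt_iff.2 h]; rfl
  · rw [if_neg h]
    cases hb : Nat.blt a b
    · rfl
    · exact absurd (nat_blt_iff.1 hb) h

theorem array_getD_eq {α : Type*} (A : Array α) (i : ℕ) (d : α) : A.getD i d = A.toList.getD i d := by
  by_cases h : i < A.size
  · simp [Array.getD, h, List.getD]
  · simp [Array.getD, h, List.getD]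

/-! ### codes -/

theorem encNZ_parts {u : ℕ} {v : ℤ} (h1 : -7 ≤ v) (h2 : v ≤ 7) :
    encNZ u v ≠ 0 ∧ encNZ u v % 16 ≠ 0 ∧ encNZ u v / 16 = u ∧ Int.subNatNat (encNZ u v % 16) 8 = v := by
  have hv : ((v + 8).toNat : ℤ) = v + 8 := Int.toNat_of_nonneg (by omega)
  have h : encNZ u v = u * 16 + (v + 8).toNat := rfl
  rw [h, Int.subNatNat_eq_coe]
  refine ⟨by omega, by omega, by omega, ?_⟩
  omega

theorem codeIdx_encNZ {u : ℕ} {v : ℤ} (h1 : -7 ≤ v) (h2 : v ≤ 7) : codeIdx (encNZ u v) = u :=
  (encNZ_parts h1 h2).2.2.1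

theorem codeVal_encNZ {u : ℕ} {v : ℤ} (h1 : -7 ≤ v) (h2 : v ≤ 7) : codeVal (encNZ u v) = v := by
  obtain ⟨h0, -, -, hv⟩ := encNZ_parts (u := u) h1 h2
  show cond (Nat.beq (encNZ u v) 0) 0 (Int.subNatNat (encNZ u v % 16) 8) = v
  rw [cond_beq, if_neg h0, hv]

theorem decCode_encNZ {u : ℕ} {v : ℤ} (h1 : -7 ≤ v) (h2 : v ≤ 7) : decCode D T (encNZ u v) = [(u, v)] := by
  obtain ⟨h0, hm, hu, hv⟩ := encNZ_parts (u := u) h1 h2
  show cond (Nat.beq (encNZ u v) 0) [] (cond (Nat.beq (encNZ u v % 16) 0) _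
    [(encNZ u v / 16, Int.subNatNat (encNZ u v % 16) 8)]) = [(u, v)]
  rw [cond_beq, if_neg h0, cond_beq, if_neg hm, hu, hv]

@[simp] theorem decCode_zero : decCode D T 0 = [] := rfl

@[simp] theorem codeVal_zero : codeVal 0 = 0 := rfl

theorem encNZ_lt {u : ℕ} {v : ℤ} (hu : u < 255) (h2 : v ≤ 7) : encNZ u v < 4096 := by
  have h : encNZ u v = u * 16 + (v + 8).toNat := rfl
  omega

theorem encZ_eq (u : ℕ) (v : ℤ) : encZ u v = if v = 0 then 0 else encNZ u v := by
  show cond (decide (v = 0)) 0 (encNZ u v) = _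
  rw [Bool.cond_decide]

theorem codeVal_encZ {u : ℕ} {v : ℤ} (h1 : -7 ≤ v) (h2 : v ≤ 7) : codeVal (encZ u v) = v := by
  rw [encZ_eq]; split
  · simp [*]
  · exact codeVal_encNZ h1 h2

theorem coeffAt_decCode_encZ {u j : ℕ} {v : ℤ} (h1 : -7 ≤ v) (h2 : v ≤ 7) :
    coeffAt (decCode D T (encZ u v)) j = if u = j then v else 0 := by
  rw [encZ_eq]; split
  · simp [*]
  · rw [decCode_encNZ h1 h2, coeffAt_cons]; simp

theorem decCode_marker (a : ℕ) : decCode D T ((a + 1) * 16) = corVec D T a := by
  show cond (Nat.beq ((a + 1) * 16) 0) [] (cond (Nat.beq ((a + 1) * 16 % 16) 0)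
    (corVec D T ((a + 1) * 16 / 16 - 1)) _) = _
  rw [cond_beq, if_neg (by omega), cond_beq, if_pos (by omega)]
  congr 1; omega

/-! ### the index arrays and coroots -/

section
variable (hc : Checked D T)
include hc

theorem shape' :
    D.nroots = 2 * (D.nroots / 2) ∧ D.nroots < 255 ∧ D.rank < 9 ∧
    (∀ a, a < D.nroots → D.neg a = D.nroots - (a + 1)) ∧
    (∀ a, a < D.nroots → (D.coroot.getD a #[]).size = D.rank ∧
      ∀ i < D.rank, (D.coroot.getD a #[]).getD i 0 = cv T a i) ∧
    (∀ i < D.rank, D.simple i < D.nroots ∧ D.nroots / 2 ≤ D.simple i ∧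
      ∀ j < D.rank, wt D T (D.simple i) j = (if i = j then 1 else 0) ∧
        cv T (D.simple i) j = if i = j then 1 else 0) := by
  have h := hc.shape
  simp only [shapeCheck, cond_false_iff] at h
  obtain ⟨h1, h2, h3, h4, h5, h6, h7, h8, h9⟩ := h
  refine ⟨nat_beq_iff.1 h1, nat_blt_iff.1 h2, nat_blt_iff.1 h3, fun a ha => ?_, fun a ha => ?_, fun i hi => ?_⟩
  · rw [nat_beq_iff] at h4
    have hl : a < D.negIdx.toList.length := by omega
    have := allIdx_iff.1 h5 a _ (List.getElem?_eq_getElem hl)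
    rw [nat_beq_iff, Nat.zero_add] at this
    rw [show D.neg a = D.negIdx.getD a 0 from rfl, array_getD_eq, List.getD_eq_getElem _ _ hl]
    exact this
  · rw [nat_beq_iff] at h6
    have hl : a < D.coroot.toList.length := by omega
    have := allIdx_iff.1 h7 a _ (List.getElem?_eq_getElem hl)
    rw [Nat.zero_add, corRowOK, cond_false_iff, nat_beq_iff] at this
    obtain ⟨hlen, hval⟩ := this
    rw [array_getD_eq, List.getD_eq_getElem _ _ hl]
    refine ⟨by rw [← Array.length_toList]; exact hlen, fun i hi => ?_⟩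
    have hil : i < D.coroot.toList[a].toList.length := by omega
    have := allIdx_iff.1 hval i _ (List.getElem?_eq_getElem hil)
    rw [decide_eq_true_iff, Nat.zero_add] at this
    rw [array_getD_eq, List.getD_eq_getElem _ _ hil, this]
  · rw [nat_beq_iff] at h8
    have hl : i < D.simpleIdx.toList.length := by omega
    have := allIdx_iff.1 h9 i _ (List.getElem?_eq_getElem hl)
    simp only [cond_false_iff, nat_blt_iff, nat_ble_iff, allNat_iff, decide_eq_true_iff, Nat.zero_add] at this
    rw [show D.simple i = D.simpleIdx.getD i 0 from rfl, array_getD_eq, List.getD_eq_getElem _ _ hl]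
    refine ⟨this.1, this.2.1, fun j hj => ?_⟩
    have := this.2.2 j hj
    simpa only [cond_beq] using this

theorem nroots_eq_two_mul : D.nroots = 2 * (D.nroots / 2) := (shape' hc).1

theorem nroots_lt : D.nroots < 255 := (shape' hc).2.1

theorem dim_lt : D.nroots + D.rank < 264 := by have := (shape' hc).2.1; have := (shape' hc).2.2.1; omega

theorem neg_eq {a : ℕ} (ha : a < D.nroots) : D.neg a = D.nroots - (a + 1) := (shape' hc).2.2.2.1 a ha

theorem negIdx_eq {a : ℕ} (ha : a < D.nroots) : D.negIdx.getD a 0 = D.nroots - (a + 1) := neg_eq hc ha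

theorem neg_lt {a : ℕ} (ha : a < D.nroots) : D.neg a < D.nroots := by rw [neg_eq hc ha]; omega

theorem neg_ne {a : ℕ} (ha : a < D.nroots) : D.neg a ≠ a := by
  rw [neg_eq hc ha]; have := nroots_eq_two_mul hc; omega

theorem neg_neg_root {a : ℕ} (ha : a < D.nroots) : D.neg (D.neg a) = a := by
  rw [neg_eq hc (neg_lt hc ha), neg_eq hc ha]; omega

theorem coroot_size {a : ℕ} (ha : a < D.nroots) : (D.coroot.getD a #[]).size = D.rank :=
  ((shape' hc).2.2.2.2.1 a ha).1

theorem coroot_eq {a i : ℕ} (ha : a < D.nroots) (hi : i < D.rank) : (D.coroot.getD a #[]).getD i 0 = cv T a i :=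
  ((shape' hc).2.2.2.2.1 a ha).2 i hi

theorem simple_lt {i : ℕ} (hi : i < D.rank) : D.simple i < D.nroots := ((shape' hc).2.2.2.2.2 i hi).1

theorem half_le_simple {i : ℕ} (hi : i < D.rank) : D.nroots / 2 ≤ D.simple i := ((shape' hc).2.2.2.2.2 i hi).2.1

theorem wt_simple {i j : ℕ} (hi : i < D.rank) (hj : j < D.rank) :
    wt D T (D.simple i) j = if i = j then 1 else 0 := (((shape' hc).2.2.2.2.2 i hi).2.2 j hj).1

theorem cv_simple {i j : ℕ} (hi : i < D.rank) (hj : j < D.rank) :
    cv T (D.simple i) j = if i = j then 1 else 0 := (((shape' hc).2.2.2.2.2 i hi).2.2 j hj).2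

theorem simple_inj {i j : ℕ} (hi : i < D.rank) (hj : j < D.rank) (h : D.simple i = D.simple j) : i = j := by
  have h1 := wt_simple hc hi hi
  rw [if_pos rfl, h, wt_simple hc hj hi] at h1
  split at h1
  · exact Eq.symm ‹_›
  · simp at h1

end

/-! ### the chain table -/

theorem keysOK_spec {a : ℕ} {E : List (ℕ × Array (ℕ × ℤ))} {low : ℕ} (h : keysOK D a E low = true) :
    (E.map Prod.fst).Nodup ∧ ∀ e ∈ E, low ≤ e.1 ∧ e.1 < D.nroots ∧ e.1 ≠ a ∧ e.1 ≠ D.nroots - (a + 1) ∧
      e.2.toList.length ≤ 3 ∧ ∀ q ∈ e.2.toList, q.1 < D.nroots ∧ q.2 ≠ 0 ∧ -7 ≤ q.2 ∧ q.2 ≤ 7 := by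
  induction E generalizing low with
  | nil => simp
  | cons e l ih =>
      have h' : cond (Nat.ble low e.1)
        (cond (Nat.blt e.1 D.nroots)
          (cond (Nat.beq e.1 a) false
            (cond (Nat.beq e.1 (D.nroots - (a + 1))) false
              (cond (Nat.ble e.2.toList.length 3)
                (cond (allList (goodTerm D) e.2.toList) (keysOK D a l (e.1 + 1)) false) false)))
          false)
        false = true := h
      simp only [cond_false_iff, cond_beq, nat_ble_iff, nat_blt_iff, ite_eq_iff, Bool.false_eq_true, and_false,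
        false_or, allList_iff] at h'
      obtain ⟨h1, h2, h3, h4, h5, h6, h7⟩ := h'
      obtain ⟨hnd, hall⟩ := ih h7
      rw [List.map_cons, List.nodup_cons, List.forall_mem_cons]
      refine ⟨⟨fun hm => ?_, hnd⟩, ⟨h1, h2, h3, h4, h5, fun q hq => ?_⟩, fun x hx => ?_⟩
      · obtain ⟨x, hx, hxe⟩ := List.mem_map.1 hm
        have := (hall x hx).1; omega
      · have := h6 q hq
        simp only [goodTerm, cond_false_iff, nat_blt_iff, Bool.cond_decide, ite_eq_iff, Bool.false_eq_true, and_false,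
          false_or, decide_eq_true_iff] at this
        tauto
      · have := hall x hx
        exact ⟨by omega, this.2⟩

theorem entryCode_eq (L : List (ℕ × ℤ)) (k : ℕ) (hk : 1 ≤ k) :
    entryCode L k = (L[k - 1]?).elim 0 (fun q => encNZ q.1 q.2) := by
  induction L generalizing k with
  | nil => rfl
  | cons q l ih =>
      show cond (Nat.beq k 1) (encNZ q.1 q.2) (entryCode l (k - 1)) = _
      rw [cond_beq]
      split
      · subst k; simp
      · rw [ih (k - 1) (by omega), show k - 1 = (k - 1 - 1) + 1 by omega]; simp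

theorem chainItems_eq (k : ℕ) (E : List (ℕ × Array (ℕ × ℤ))) :
    chainItems k E = E.map fun e => (e.1, entryCode e.2.toList k) := by
  induction E with
  | nil => rfl
  | cons e l ih => show (e.1, entryCode e.2.toList k) :: chainItems k l = _; rw [ih]; rfl

theorem hItems_mem {row : ℕ} {p : ℕ × ℕ} (n : ℕ) :
    p ∈ (Nat.rec (motive := fun _ => List (ℕ × ℕ)) []
      (fun i ih => (Nat.add D.nroots i, field row (Nat.add D.nroots i)) :: ih) n : List (ℕ × ℕ)) ↔
    ∃ i < n, p = (D.nroots + i, field row (D.nroots + i)) := by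
  induction n with
  | zero => simp
  | succ k ih =>
      simp only [Nat.add_eq] at ih ⊢
      rw [List.mem_cons, ih, Nat.exists_lt_succ_right]
      exact or_comm

theorem hItems_nodup {row : ℕ} (n : ℕ) :
    ((Nat.rec (motive := fun _ => List (ℕ × ℕ)) []
      (fun i ih => (Nat.add D.nroots i, field row (Nat.add D.nroots i)) :: ih) n : List (ℕ × ℕ)).map Prod.fst).Nodup := by
  induction n with
  | zero => simp
  | succ k ih =>
      rw [List.map_cons, List.nodup_cons]
      refine ⟨fun h => ?_, ih⟩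
      obtain ⟨p, hp, he⟩ := List.mem_map.1 h
      obtain ⟨i, hi, rfl⟩ := (hItems_mem k).1 hp
      simp at he; omega

theorem field_lt (row c : ℕ) : field row c < 4096 := by
  rw [field_eq]; exact Nat.mod_lt _ (by norm_num)

/-- the `k`-th entry of a chain -/
theorem chainEntry_of_mem {a : ℕ} (h : ((D.chain.getD a #[]).toList.map Prod.fst).Nodup) {e : ℕ × Array (ℕ × ℤ)}
    (he : e ∈ (D.chain.getD a #[]).toList) : D.chainEntry a e.1 = e.2.toList := by
  have : (D.chain.getD a #[]).toList.find? (fun x => decide (x.1 = e.1)) = some e := by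
    generalize (D.chain.getD a #[]).toList = E at h he
    induction E with
    | nil => simp at he
    | cons x l ih =>
        rw [List.map_cons, List.nodup_cons] at h
        rcases List.mem_cons.1 he with rfl | he
        · simp
        · have hne : x.1 ≠ e.1 := fun hx => h.1 (List.mem_map.2 ⟨e, he, hx.symm⟩)
          rw [List.find?_cons_of_neg (by simpa using hne)]
          exact ih h.2 he
  rw [ChevalleyDatum.chainEntry, this]

theorem chainEntry_eq_nil {a s : ℕ} (h : ∀ e ∈ (D.chain.getD a #[]).toList, e.1 ≠ s) : D.chainEntry a s = [] := by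
  have : (D.chain.getD a #[]).toList.find? (fun x => decide (x.1 = s)) = none := by simpa using h
  rw [ChevalleyDatum.chainEntry, this]

/-- the code of an optional term -/
noncomputable def optCode (o : Option (ℕ × ℤ)) : ℕ := o.elim 0 (fun q => encNZ q.1 q.2)

theorem field_chainItems {a k c : ℕ} (hk : 1 ≤ k)
    (hE : keysOK D a (D.chain.getD a #[]).toList 0 = true) (hb : D.nroots < 255) :
    field (pack (chainItems k (D.chain.getD a #[]).toList)) c = optCode ((D.chainEntry a c)[k - 1]?) := by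
  obtain ⟨hnd, hall⟩ := keysOK_spec hE
  have hbd : ∀ p ∈ chainItems k (D.chain.getD a #[]).toList, p.2 < 4096 := by
    intro p hp
    rw [chainItems_eq] at hp
    obtain ⟨e, he, rfl⟩ := List.mem_map.1 hp
    show entryCode e.2.toList k < 4096
    rw [entryCode_eq _ _ hk]
    cases hq : e.2.toList[k - 1]? with
    | none => simp
    | some q =>
        have hmem : q ∈ e.2.toList := List.mem_of_getElem? hq
        obtain ⟨hqn, -, hq7, hq7'⟩ := (hall e he).2.2.2.2.2 q hmem
        exact encNZ_lt (by omega) hq7'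
  by_cases h : ∃ e ∈ (D.chain.getD a #[]).toList, e.1 = c
  · obtain ⟨e, he, rfl⟩ := h
    rw [chainEntry_of_mem hnd he, optCode, ← entryCode_eq _ _ hk]
    rw [chainItems_eq] at hbd ⊢
    exact field_pack (p := (e.1, entryCode e.2.toList k)) hbd
      (by rw [List.map_map]; exact hnd) (List.mem_map.2 ⟨e, he, rfl⟩)
  · push Not at h
    rw [chainEntry_eq_nil h, field_pack_of_not_mem hbd]
    · simp [optCode]
    · intro p hp
      rw [chainItems_eq] at hp
      obtain ⟨e, he, rfl⟩ := List.mem_map.1 hp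
      exact h e he

section
variable (hc : Checked D T)
include hc

theorem chain' {a : ℕ} (ha : a < D.nroots) :
    keysOK D a (D.chain.getD a #[]).toList 0 = true ∧
    T.t1.get a = pack (chainItems 1 (D.chain.getD a #[]).toList) |||
      pack ((D.nroots - (a + 1), (a + 1) * 16) :: hItems D (T.t1.get a)) ∧
    T.t2.get a = pack (chainItems 2 (D.chain.getD a #[]).toList) ||| pack [(D.nroots - (a + 1), encNZ a (-1))] ∧
    T.t3.get a = pack (chainItems 3 (D.chain.getD a #[]).toList) := by
  have h := hc.chain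
  simp only [chainCheck, cond_false_iff] at h
  obtain ⟨h1, h2⟩ := h
  rw [nat_beq_iff] at h1
  have hl : a < D.chain.toList.length := by omega
  have := allIdx_iff.1 h2 a _ (List.getElem?_eq_getElem hl)
  simp only [chainOK, cond_false_iff, nat_beq_iff, Nat.zero_add] at this
  rw [array_getD_eq, List.getD_eq_getElem _ _ hl]
  exact this

theorem keys_ok {a : ℕ} (ha : a < D.nroots) : keysOK D a (D.chain.getD a #[]).toList 0 = true := (chain' hc ha).1

theorem keys_nodup {a : ℕ} (ha : a < D.nroots) : ((D.chain.getD a #[]).toList.map Prod.fst).Nodup :=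
  (keysOK_spec (keys_ok hc ha)).1

theorem key_mem {a : ℕ} (ha : a < D.nroots) {e : ℕ × Array (ℕ × ℤ)} (he : e ∈ (D.chain.getD a #[]).toList) :
    e.1 < D.nroots ∧ e.1 ≠ a ∧ e.1 ≠ D.neg a ∧ e.2.toList.length ≤ 3 ∧
      ∀ q ∈ e.2.toList, q.1 < D.nroots ∧ q.2 ≠ 0 ∧ -7 ≤ q.2 ∧ q.2 ≤ 7 := by
  rw [neg_eq hc ha]
  exact ((keysOK_spec (keys_ok hc ha)).2 e he).2

theorem chainEntry_length {a : ℕ} (ha : a < D.nroots) (s : ℕ) : (D.chainEntry a s).length ≤ 3 := by
  by_cases h : ∃ e ∈ (D.chain.getD a #[]).toList, e.1 = s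
  · obtain ⟨e, he, rfl⟩ := h
    rw [chainEntry_of_mem (keys_nodup hc ha) he]; exact (key_mem hc ha he).2.2.2.1
  · push Not at h; rw [chainEntry_eq_nil h]; simp

theorem chainEntry_term {a : ℕ} (ha : a < D.nroots) {s : ℕ} {q : ℕ × ℤ} (hq : q ∈ D.chainEntry a s) :
    q.1 < D.nroots ∧ q.2 ≠ 0 ∧ -7 ≤ q.2 ∧ q.2 ≤ 7 ∧ s < D.nroots ∧ s ≠ a ∧ s ≠ D.neg a := by
  by_cases h : ∃ e ∈ (D.chain.getD a #[]).toList, e.1 = s
  · obtain ⟨e, he, rfl⟩ := h
    rw [chainEntry_of_mem (keys_nodup hc ha) he] at hq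
    obtain ⟨h1, h2, h3, -, h5⟩ := key_mem hc ha he
    obtain ⟨q1, q2, q3, q4⟩ := h5 q hq
    exact ⟨q1, q2, q3, q4, h1, h2, h3⟩
  · push Not at h; rw [chainEntry_eq_nil h] at hq; simp at hq

theorem chainEntry_self {a : ℕ} (ha : a < D.nroots) : D.chainEntry a a = [] := by
  rw [List.eq_nil_iff_forall_not_mem]; exact fun q hq => (chainEntry_term hc ha hq).2.2.2.2.2.1 rfl

theorem chainEntry_neg {a : ℕ} (ha : a < D.nroots) : D.chainEntry a (D.neg a) = [] := by
  rw [List.eq_nil_iff_forall_not_mem]; exact fun q hq => (chainEntry_term hc ha hq).2.2.2.2.2.2 rfl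

theorem chainEntry_ge {a s : ℕ} (ha : a < D.nroots) (hs : D.nroots ≤ s) : D.chainEntry a s = [] := by
  rw [List.eq_nil_iff_forall_not_mem]; exact fun q hq => absurd (chainEntry_term hc ha hq).2.2.2.2.1 (by omega)

theorem field_t1 {a c : ℕ} (ha : a < D.nroots) (hcn : c < D.nroots) :
    field (T.t1.get a) c = if c = D.neg a then (a + 1) * 16 else optCode ((D.chainEntry a c)[0]?) := by
  have hb := nroots_lt hc
  conv_lhs => rw [(chain' hc ha).2.1]
  rw [field_lor, field_chainItems le_rfl (keys_ok hc ha) hb]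
  have hbd : ∀ p ∈ ((D.nroots - (a + 1), (a + 1) * 16) :: hItems D (T.t1.get a)), p.2 < 4096 := by
    intro p hp
    rcases List.mem_cons.1 hp with rfl | hp
    · show (a + 1) * 16 < 4096; omega
    · obtain ⟨i, -, rfl⟩ := (hItems_mem _).1 hp
      exact field_lt _ _
  split
  · rename_i h; subst h
    rw [chainEntry_neg hc ha]
    have hnd : (((D.nroots - (a + 1), (a + 1) * 16) :: hItems D (T.t1.get a)).map Prod.fst).Nodup := by
      rw [List.map_cons, List.nodup_cons]
      refine ⟨fun hm => ?_, hItems_nodup _⟩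
      obtain ⟨p, hp, he⟩ := List.mem_map.1 hm
      obtain ⟨i, -, rfl⟩ := (hItems_mem _).1 hp
      simp at he; omega
    rw [neg_eq hc ha, field_pack (p := (D.nroots - (a + 1), (a + 1) * 16)) hbd hnd List.mem_cons_self]
    simp [optCode]
  · rename_i h
    rw [field_pack_of_not_mem hbd]
    · simp
    · intro p hp
      rcases List.mem_cons.1 hp with rfl | hp
      · rw [← neg_eq hc ha]; exact fun he => h he.symm
      · obtain ⟨i, -, rfl⟩ := (hItems_mem _).1 hp
        show D.nroots + i ≠ c; omega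

theorem field_t2 {a c : ℕ} (ha : a < D.nroots) :
    field (T.t2.get a) c = if c = D.neg a then encNZ a (-1) else optCode ((D.chainEntry a c)[1]?) := by
  have hb := nroots_lt hc
  rw [(chain' hc ha).2.2.1, field_lor, field_chainItems (by norm_num) (keys_ok hc ha) hb]
  have hbd : ∀ p ∈ [(D.nroots - (a + 1), encNZ a (-1))], p.2 < 4096 := by
    simp only [List.mem_singleton, forall_eq]
    exact encNZ_lt (by omega) (by norm_num)
  split
  · rename_i h; subst h
    rw [chainEntry_neg hc ha, neg_eq hc ha,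
      field_pack (p := (D.nroots - (a + 1), encNZ a (-1))) hbd (by simp) List.mem_cons_self]
    simp [optCode]
  · rename_i h
    rw [field_pack_of_not_mem hbd]
    · simp
    · simp only [List.mem_singleton, forall_eq]; rw [← neg_eq hc ha]; exact fun he => h he.symm

theorem field_t3 {a c : ℕ} (ha : a < D.nroots) :
    field (T.t3.get a) c = optCode ((D.chainEntry a c)[2]?) := by
  rw [(chain' hc ha).2.2.2, field_chainItems (by norm_num) (keys_ok hc ha) (nroots_lt hc)]

theorem cartan' {i : ℕ} (hi : i < D.rank) :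
    (∀ j < D.rank, field (T.t1.get (D.nroots + i)) (D.nroots + j) = 0) ∧
    ∀ c < D.nroots, -7 ≤ D.cartan i c ∧ D.cartan i c ≤ 7 ∧
      field (T.t1.get (D.nroots + i)) c = encZ c (D.cartan i c) ∧
      field (T.t1.get c) (D.nroots + i) = encZ c (-D.cartan i c) := by
  have h := hc.cartanTab
  simp only [cartanCheck, cond_false_iff] at h
  obtain ⟨h1, h2⟩ := h
  rw [nat_beq_iff] at h1
  have hl : i < D.cartanSR.toList.length := by omega
  have := allIdx_iff.1 h2 i _ (List.getElem?_eq_getElem hl)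
  simp only [cond_false_iff, nat_beq_iff, Nat.zero_add, allNat_iff, Nat.add_eq] at this
  obtain ⟨hlen, hz, hv⟩ := this
  refine ⟨hz, fun c hcn => ?_⟩
  have hcl : c < D.cartanSR.toList[i].toList.length := by omega
  have hx := allIdx_iff.1 hv c _ (List.getElem?_eq_getElem hcl)
  simp only [cond_false_iff, nat_beq_iff, Nat.zero_add, decide_eq_true_iff] at hx
  have hcart : D.cartan i c = D.cartanSR.toList[i].toList[c] := by
    rw [ChevalleyDatum.cartan, array_getD_eq, array_getD_eq, List.getD_eq_getElem _ _ hl,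
      List.getD_eq_getElem _ _ hcl]
  rw [hcart]
  exact ⟨hx.1.1, hx.1.2, hx.2.1, hx.2.2⟩

theorem cval_eq {i c : ℕ} (hi : i < D.rank) (hcn : c < D.nroots) : cval D T i c = D.cartan i c := by
  obtain ⟨h1, h2, h3, -⟩ := (cartan' hc hi).2 c hcn
  show codeVal (field (T.t1.get (D.nroots + i)) c) = _
  rw [h3, codeVal_encZ h1 h2]

end

end CfsgLib.Chev
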