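import Cfsg.Agent.Lib.BN.Steinberg
import Cfsg.Agent.Lib.ChevAut.Sylow
import Cfsg.Agent.Lib.Chev.Comm
import Cfsg.Agent.Lib.Blk83.Weight

/-!
The Steinberg character of a tabulated Chevalley group: it is irreducible, restricts to the Borel
subgroup as the permutation character on the cosets of the diagonal subgroup, and its degree is
the order of the positive unipotent subgroup.
-/

set_option autoImplicit false

namespace CfsgLib.Chev

open Cfsg.Lie
open scoped Matrix

variable {D : ChevalleyDatum} {T : Tabs} {F : Type*} [Field F]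

theorem card_borel_index (hc : Checked D T) [Finite F] :
    Nat.card (↥((D.borelSubgroup F).subgroupOf (D.group F)) ⧸
      (((D.diagonalSubgroup F).subgroupOf (D.group F)).subgroupOf
        ((D.borelSubgroup F).subgroupOf (D.group F)))) = Nat.card (D.posUnipotent F) := by
  have h := Subgroup.card_eq_card_quotient_mul_card_subgroup
    (((D.diagonalSubgroup F).subgroupOf (D.group F)).subgroupOf
      ((D.borelSubgroup F).subgroupOf (D.group F)))
  rw [Nat.card_congr (Subgroup.subgroupOfEquivOfLe
      (fun x hx => Subgroup.mem_subgroupOf.2 (diagonal_le_borel hc hx))).toEquiv,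
    Nat.card_congr (Subgroup.subgroupOfEquivOfLe (diagonal_le_group hc (F := F))).toEquiv,
    Nat.card_congr (Subgroup.subgroupOfEquivOfLe (borel_le_group hc (F := F))).toEquiv,
    ChevAut.card_borel hc] at h
  rw [posUnipotent_eq hc]
  exact (Nat.eq_of_mul_eq_mul_right Nat.card_pos h).symm

variable (hc : Checked D T) (hcomm : CommOne D T)
include hc

theorem parabolicSubgroup_le_group (J : Set ℕ) : D.parabolicSubgroup F J ≤ D.group F := by
  refine sup_le (borel_le_group hc) ((Subgroup.closure_le _).2 ?_)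
  rintro g ⟨j, -, hj, hg⟩
  have e : g = elN D F (D.simple j) 1 := by ext1; rw [hg, coe_elN hc (simple_lt hc hj)]
  rw [e]
  exact elN_mem_group hc (simple_lt hc hj) 1

include hcomm

/-- The Steinberg character as the alternating sum of a Tits system, whose longest element is known. -/
theorem exists_bnPair_steinberg [Finite F] :
    ∃ P : Cfsg.BNPair ↥(D.group F), P.B = (D.borelSubgroup F).subgroupOf (D.group F) ∧
      D.steinbergCharacter F = BN.stChar P ∧
      P.N = (D.monomialSubgroup F).subgroupOf (D.group F) ∧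
      P.S = {n : ↥(D.group F) | ∃ i < D.rank,
        ((n : GL D.Idx F) : Matrix D.Idx D.Idx F) = D.nMat F (D.simple i) 1} ∧
      ∀ b : P.B, BN.stChar P (b : ↥(D.group F)) =
        Cfsg.fixedPointCharacter (((D.diagonalSubgroup F).subgroupOf (D.group F)).subgroupOf P.B) b := by
  classical
  haveI : Finite (GL D.Idx F) := inferInstance
  obtain ⟨P, hB, hN, hS⟩ := exists_bnPair hc hcomm (F := F)
  let el : Fin D.rank → ↥(D.group F) := fun i =>
    ⟨elN D F (D.simple i.val) 1, elN_mem_group hc (simple_lt hc i.2) 1⟩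
  have hel : ∀ i, el i ∈ P.S := fun i => by
    rw [hS]; exact ⟨i, i.2, coe_elN hc (simple_lt hc i.2) 1⟩
  let e : Fin D.rank → P.S := fun i => ⟨el i, hel i⟩
  have he : Function.Bijective e := by
    constructor
    · intro i j h
      have h' : elN D F (D.simple i.val) (1 : F) = elN D F (D.simple j.val) 1 :=
        congrArg Subtype.val (congrArg Subtype.val h)
      refine elN_simple_inj hc (F := F) ?_
      rw [← h', inv_mul_cancel]
      exact one_mem _
    · rintro ⟨s, hs⟩
      have hs' := hs
      rw [hS] at hs'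
      obtain ⟨i, hi, hsi⟩ := hs'
      exact ⟨⟨i, hi⟩, Subtype.ext (Subtype.ext (by ext1; rw [hsi]; exact coe_elN hc (simple_lt hc hi) 1))⟩
  haveI : Fintype P.S := Fintype.ofFinite _
  have hpar : ∀ K : Finset (Fin D.rank),
      D.parabolicIn F (K.map Fin.valEmbedding) = BN.Pk P (K.image e) := by
    intro K
    apply Subgroup.map_injective (D.group F).subtype_injective
    rw [ChevalleyDatum.parabolicIn, Subgroup.map_subgroupOf_eq_of_le (parabolicSubgroup_le_group hc _),
      BN.Pk, Cfsg.BNPair.parabolic, Subgroup.map_sup, hB,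
      Subgroup.map_subgroupOf_eq_of_le (borel_le_group hc), MonoidHom.map_closure,
      ChevalleyDatum.parabolicSubgroup]
    congr 2
    ext g
    constructor
    · rintro ⟨j, hj, hjr, hg⟩
      obtain ⟨i, hi, rfl⟩ := Finset.mem_map.1 (Finset.mem_coe.1 hj)
      refine ⟨el i, ⟨e i, Finset.mem_coe.2 (Finset.mem_image_of_mem _ hi), rfl⟩, ?_⟩
      ext1
      show (elN D F (D.simple i.val) 1 : Matrix D.Idx D.Idx F) = _
      rw [hg]
      exact coe_elN hc (simple_lt hc i.2) 1
    · rintro ⟨_, ⟨s, hs, rfl⟩, rfl⟩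
      obtain ⟨i, hi, rfl⟩ := Finset.mem_image.1 (Finset.mem_coe.1 hs)
      exact ⟨i, Finset.mem_coe.2 (Finset.mem_map_of_mem _ hi), i.2, coe_elN hc (simple_lt hc i.2) 1⟩
  have hst : D.steinbergCharacter F = BN.stChar P := by
    funext g
    rw [BN.stChar_eq, ChevalleyDatum.steinbergCharacter]
    symm
    refine Finset.sum_bij (fun K _ => ((K.preimage e he.1.injOn).map Fin.valEmbedding)) ?_ ?_ ?_ ?_
    · intro K _
      rw [Finset.mem_powerset]
      intro j hj
      obtain ⟨i, -, rfl⟩ := Finset.mem_map.1 hj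
      exact Finset.mem_range.2 i.2
    · intro K _ L _ h
      have h1 := Finset.map_injective _ h
      ext s
      obtain ⟨i, rfl⟩ := he.2 s
      simpa using congrArg (i ∈ ·) h1
    · intro J hJ
      rw [Finset.mem_powerset] at hJ
      refine ⟨(Finset.univ.filter fun i : Fin D.rank => (i : ℕ) ∈ J).image e, Finset.mem_univ _, ?_⟩
      ext j
      simp only [Finset.mem_map, Finset.mem_preimage, Finset.mem_image, Finset.mem_filter,
        Finset.mem_univ, true_and, Fin.valEmbedding_apply]
      constructor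
      · rintro ⟨i, ⟨i', hi', hii⟩, rfl⟩
        rwa [← he.1 hii]
      · intro hj
        exact ⟨⟨j, Finset.mem_range.1 (hJ hj)⟩, ⟨_, hj, rfl⟩, rfl⟩
    · intro K _
      have hK : (K.preimage e he.1.injOn).image e = K :=
        Finset.image_preimage_of_bij e K (Set.BijOn.mk (Set.mapsTo_preimage _ _) he.1.injOn
          (fun s hs => by obtain ⟨i, rfl⟩ := he.2 s; exact ⟨i, hs, rfl⟩))
      rw [hpar, Finset.card_map]
      conv_lhs => rw [← hK, Finset.card_image_of_injective _ he.1]
  refine ⟨P, hB, hst, hN, hS, ?_⟩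
  -- the longest element
  obtain ⟨L, hL⟩ := exists_longest hc
  have hnG : nProd D F L ∈ D.group F := monomial_le_group hc (nProd_mem_monomial hc L)
  set n₀ : ↥(D.group F) := ⟨nProd D F L, hnG⟩ with hn₀
  have hnN : n₀ ∈ P.N := by rw [hN, Subgroup.mem_subgroupOf]; exact nProd_mem_monomial hc L
  set w := BN.wk P n₀ hnN with hw
  have hwd : ∀ s, BN.wlen (BN.sgen P) (w * BN.sgen P s) < BN.wlen (BN.sgen P) w := by
    intro s
    by_contra hle
    push Not at hle
    have hlt : BN.wlen (BN.sgen P) w < BN.wlen (BN.sgen P) (w * BN.sgen P s) := by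
      refine lt_of_le_of_ne hle fun h1 => ?_
      have e' : (BN.sys P).f s * w⁻¹ = (w * BN.sgen P s)⁻¹ := by
        rw [mul_inv_rev, BN.sgen_inv]; rfl
      have h1' : BN.wlen (BN.sys P).f w = BN.wlen (BN.sys P).f (w * BN.sgen P s) := h1
      have h2 := (BN.sys P).lt_of_le (i := s) (w := w⁻¹)
        (by rw [e', (BN.sys P).wlen_inv, (BN.sys P).wlen_inv, h1'])
      rw [e', (BN.sys P).wlen_inv, (BN.sys P).wlen_inv] at h2
      omega
    have hlen : BN.wlen (BN.sgen P) (w * BN.sgen P s) =
        BN.wlen (BN.sgen P) w + BN.wlen (BN.sgen P) (BN.sgen P s) := by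
      have h1 : BN.wlen (BN.sgen P) (BN.sgen P s) ≤ 1 :=
        (BN.wlen_le_of_eq (BN.sgen P) (l := [s]) (by simp)).trans (by simp)
      have h2 : BN.wlen (BN.sgen P) (w * BN.sgen P s) ≤
          BN.wlen (BN.sgen P) w + BN.wlen (BN.sgen P) (BN.sgen P s) := (BN.sys P).wlen_mul_le w _
      omega
    obtain ⟨i, rfl⟩ := he.2 s
    have hp := simple_lt hc i.2
    have hpp := half_le_simple hc i.2
    let a : ↥(D.group F) := ⟨elX D F (D.simple i.val) (-1), elX_mem_group hc hp _⟩
    have haB : a ∈ P.B := by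
      rw [hB, Subgroup.mem_subgroupOf]; exact elX_mem_borel hc hp hpp _
    have h1 : n₀ * a * el i ∈ BN.cell P (w * BN.sgen P (e i)) :=
      BN.cell_mul_add P hlen (BN.cell_right P (BN.self_mem_cell P hnN) haB)
        (BN.self_mem_cell P (P.subset (hel i)))
    have hnp := neg_lt hc hp
    obtain ⟨c, -, hcx⟩ := nProd_conj_elX hc (F := F) L hnp
    have hpos : D.nroots / 2 ≤ sigs D T L (D.neg (D.simple i.val)) := by
      rw [sigs_neg hc L hp, neg_eq hc (sigs_lt hc L hp)]
      have := hL _ hp hpp
      have := nroots_eq_two_mul hc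
      omega
    let x : ↥(D.group F) := ⟨elX D F (sigs D T L (D.neg (D.simple i.val))) ((c : F) * -1),
      elX_mem_group hc (sigs_lt hc L hnp) _⟩
    let a' : ↥(D.group F) := ⟨elX D F (D.simple i.val) 1, elX_mem_group hc hp _⟩
    have hxB : x ∈ P.B := by
      rw [hB, Subgroup.mem_subgroupOf]; exact elX_mem_borel hc (sigs_lt hc L hnp) hpos _
    have ha'B : a' ∈ P.B := by
      rw [hB, Subgroup.mem_subgroupOf]; exact elX_mem_borel hc hp hpp _
    have h2 : n₀ * a * el i = x * n₀ * a' := by
      apply Subtype.ext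
      show nProd D F L * elX D F (D.simple i.val) (-1) * elN D F (D.simple i.val) 1 =
        elX D F (sigs D T L (D.neg (D.simple i.val))) ((c : F) * -1) * nProd D F L *
          elX D F (D.simple i.val) 1
      have h3 := neg_elX_eq hc (F := F) hp (b := -1) (neg_ne_zero.2 one_ne_zero)
      rw [inv_neg, inv_one, neg_neg] at h3
      have h4 : elX D F (D.simple i.val) (1 : F) = (elX D F (D.simple i.val) (-1 : F))⁻¹ := by
        rw [elX_inv hc F hp, neg_neg]
      rw [← hcx, h3, h4]
      group
    have h5 := BN.cell_right P (BN.cell_left P hxB (BN.self_mem_cell P hnN)) ha'B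
    rw [← h2] at h5
    have h6 := BN.eq_of_mem_cell P h5 h1
    rw [← hw] at h6
    exact absurd (congrArg (BN.wlen (BN.sgen P)) h6) hlt.ne
  obtain ⟨w₀, -, hr₀, huniq⟩ := (BN.sys P).exists_top
  intro b
  rw [BN.stChar_restrict P hr₀ huniq b]
  have hww : w = w₀ := huniq w hwd
  have ht : (BN.nw P w₀)⁻¹ * n₀ ∈ P.B := (BN.wk_eq_iff P (BN.nw_mem P w₀) hnN).1 (by
    rw [BN.wk_nw, ← hw, hww])
  congr 2
  ext y
  rw [BN.mem_bStab, Subgroup.mem_subgroupOf, Subgroup.mem_subgroupOf]
  have hyB : ((y : ↥(D.group F)) : GL D.Idx F) ∈ D.borelSubgroup F := by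
    exact Subgroup.mem_subgroupOf.1 (hB.le y.2)
  have hiff : (BN.nw P w₀)⁻¹ * (y : ↥(D.group F)) * BN.nw P w₀ ∈ P.B ↔
      n₀⁻¹ * (y : ↥(D.group F)) * n₀ ∈ P.B := by
    constructor
    · intro h
      convert mul_mem (mul_mem (inv_mem ht) h) ht using 1; group
    · intro h
      convert mul_mem (mul_mem ht h) (inv_mem ht) using 1; group
  have hm : ∀ z : ↥(D.group F), z ∈ P.B ↔ (z : GL D.Idx F) ∈ D.borelSubgroup F := fun z => by
    rw [hB, Subgroup.mem_subgroupOf]
  rw [hiff, hm]
  simp only [Subgroup.coe_mul, InvMemClass.coe_inv, hn₀]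
  constructor
  · intro h
    obtain ⟨u, hu, k, hk, huk⟩ := (mem_borel hc).1 h
    have hy : ((y : ↥(D.group F)) : GL D.Idx F) =
        nProd D F L * u * (nProd D F L)⁻¹ * (nProd D F L * k * (nProd D F L)⁻¹) := by
      rw [show nProd D F L * u * (nProd D F L)⁻¹ * (nProd D F L * k * (nProd D F L)⁻¹) =
        nProd D F L * (u * k) * (nProd D F L)⁻¹ by group, ← huk]
      group
    have hk' := nProd_conj_diagonal hc (F := F) L hk
    have h1 := mul_mem hyB (inv_mem (diagonal_le_borel hc hk'))
    rw [hy, mul_inv_cancel_right] at h1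
    rw [hy, borel_inf_neg hc h1 (ChevAut.conj_flipped_mem hc hL hu), one_mul]
    exact hk'
  · intro h
    refine diagonal_le_borel hc ?_
    simpa using monomial_conj_diagonal hc (inv_mem (nProd_mem_monomial hc (F := F) L)) h

theorem isIrrCharacter_steinberg [Finite F] :
    Cfsg.IsIrrCharacter ↥(D.group F) (D.steinbergCharacter F) := by
  obtain ⟨P, -, hst, -⟩ := exists_bnPair_steinberg hc hcomm (F := F)
  rw [hst]
  exact BN.isIrrCharacter_stChar P

theorem steinberg_restrict [Finite F] (b : ↥((D.borelSubgroup F).subgroupOf (D.group F))) :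
    D.steinbergCharacter F (b : ↥(D.group F)) = Cfsg.fixedPointCharacter
      (((D.diagonalSubgroup F).subgroupOf (D.group F)).subgroupOf
        ((D.borelSubgroup F).subgroupOf (D.group F))) b := by
  obtain ⟨P, hB, hst, -, -, hres⟩ := exists_bnPair_steinberg hc hcomm (F := F)
  revert b
  rw [← hB, hst]
  exact hres

theorem steinberg_one [Finite F] :
    D.steinbergCharacter F 1 = (Nat.card (D.posUnipotent F) : ℂ) := by
  have h := steinberg_restrict hc hcomm (F := F) 1
  rw [OneMemClass.coe_one, GLFlags.fixedPointCharacter_one, card_borel_index hc] at h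
  exact h

theorem charDegree_steinberg [Finite F] :
    Cfsg.charDegree (D.steinbergCharacter F) = Nat.card (D.posUnipotent F) := by
  have h := steinberg_one hc hcomm (F := F)
  simp [Cfsg.charDegree, h]

theorem factorization_posUnipotent [Finite F] (p : ℕ) [Fact p.Prime] [CharP F p] :
    Nat.card (D.posUnipotent F) = p ^ (Nat.card ↥(D.group F)).factorization p := by
  obtain ⟨S, hS⟩ := ChevAut.sylow_pos hc hcomm (F := F) p
  have h := S.card_eq_multiplicity
  rw [hS, Nat.card_congr (Subgroup.subgroupOfEquivOfLe (ChevAut.up_le_group hc)).toEquiv] at h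
  rw [posUnipotent_eq hc]
  exact h

theorem steinberg_eq_zero [Finite F] (p : ℕ) [Fact p.Prime] [CharP F p] {g : ↥(D.group F)}
    (hg : p ∣ orderOf g) : D.steinbergCharacter F g = 0 := by
  refine CfsgLib.Blk83.vanish_of_defect_zero Fact.out (isIrrCharacter_steinberg hc hcomm) ?_ hg
  rw [charDegree_steinberg hc hcomm, factorization_posUnipotent hc hcomm p,
    (Fact.out : p.Prime).factorization_pow, Finsupp.single_eq_same]

end CfsgLib.Chev
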