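import Cfsg.Agent.Lib.BN.SteinbergSS
import Cfsg.Agent.Lib.Chev.Steinberg
import Cfsg.Agent.Lib.Chev.Parabolic

/-!
The value of the Steinberg character of a tabulated Chevalley group at an element of order prime
to the characteristic.
-/

set_option autoImplicit false

namespace CfsgLib.Chev

open Cfsg.Lie
open scoped Matrix Pointwise

variable {D : ChevalleyDatum} {T : Tabs} {F : Type*} [Field F]
variable (hc : Checked D T) (hcomm : CommOne D T)
include hc hcomm

/-- The numbers of the fundamental roots whose reflections lie in a set of generators of a Tits system. -/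
def idxSet (P : Cfsg.BNPair ↥(D.group F)) (J : Finset P.S) : Set ℕ :=
  {j | ∃ s ∈ J, ((s : ↥(D.group F)) : GL D.Idx F) = elN D F (D.simple j) 1}

omit hcomm in
theorem map_Pk {P : Cfsg.BNPair ↥(D.group F)}
    (hB : P.B = (D.borelSubgroup F).subgroupOf (D.group F))
    (hS : P.S = {n : ↥(D.group F) | ∃ i < D.rank,
      ((n : GL D.Idx F) : Matrix D.Idx D.Idx F) = D.nMat F (D.simple i) 1})
    (J : Finset P.S) :
    (BN.Pk P J).map (D.group F).subtype = D.parabolicSubgroup F (idxSet P J) := by
  rw [BN.Pk, Cfsg.BNPair.parabolic, Subgroup.map_sup, hB,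
    Subgroup.map_subgroupOf_eq_of_le (borel_le_group hc), MonoidHom.map_closure,
    ChevalleyDatum.parabolicSubgroup]
  congr 2
  ext g
  constructor
  · rintro ⟨_, ⟨s, hs, rfl⟩, rfl⟩
    obtain ⟨i, hi, hsi⟩ := hS.le s.2
    refine ⟨i, ⟨s, Finset.mem_coe.1 hs, ?_⟩, hi, ?_⟩
    · ext1; rw [hsi, coe_elN hc (simple_lt hc hi)]
    · rw [← hsi]; rfl
  · rintro ⟨j, ⟨s, hs, hsj⟩, hj, hg⟩
    refine ⟨(s : ↥(D.group F)), ⟨s, Finset.mem_coe.2 hs, rfl⟩, ?_⟩
    ext1
    show ((s : ↥(D.group F)) : GL D.Idx F).val = _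
    rw [hg, hsj, coe_elN hc (simple_lt hc hj)]

theorem exists_steinberg_semisimple [Finite F] (p : ℕ) [Fact p.Prime] [CharP F p]
    {g : ↥(D.group F)} (hg : ¬ p ∣ orderOf g) :
    ∃ V : Subgroup ↥(D.group F), IsPGroup p V ∧ V ≤ Subgroup.centralizer {g} ∧
      (D.steinbergCharacter F g = (Nat.card V : ℂ) ∨ D.steinbergCharacter F g = -(Nat.card V : ℂ)) := by
  classical
  haveI : Finite (GL D.Idx F) := inferInstance
  haveI : Fintype ↥(D.group F) := Fintype.ofFinite _
  obtain ⟨P, hB, hst, hN, hS, -⟩ := exists_bnPair_steinberg hc hcomm (F := F)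
  haveI : Fintype P.S := Fintype.ofFinite _
  have hPk : ∀ (J : Finset P.S) (x : ↥(D.group F)),
      x ∈ BN.Pk P J ↔ (x : GL D.Idx F) ∈ D.parabolicSubgroup F (idxSet P J) := fun J x => by
    rw [← map_Pk hc hB hS J]
    exact (Subgroup.mem_map_iff_mem (D.group F).subtype_injective).symm
  have hUpos : ∀ J : Finset P.S, D.unipotentRadical F (idxSet P J) ≤ D.posUnipotent F := fun J =>
    Subgroup.closure_mono fun x hx => by
      obtain ⟨r, t, h1, -, h2⟩ := hx
      exact ⟨r, t, h1, h2⟩
  rw [hst]
  refine BN.stChar_semisimple P (p := p) (fun x hx => by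
      rw [← hst]; exact steinberg_eq_zero hc hcomm p hx)
    (fun J => (D.unipotentRadical F (idxSet P J)).subgroupOf (D.group F)) ?_ ?_ ?_ ?_ hg
  · intro J x hx
    rw [hB, Subgroup.mem_subgroupOf]
    exact Subgroup.mem_sup_left (hUpos J (Subgroup.mem_subgroupOf.1 hx))
  · intro J
    have h1 : IsPGroup p (D.unipotentRadical F (idxSet P J)) :=
      IsPGroup.to_le (isPGroup_pos hc p) ((hUpos J).trans (posUnipotent_eq hc).le)
    exact h1.comap_subtype
  · intro J x hx
    have h1 := (levi_decomposition hc hcomm (F := F) (idxSet P J)).1 ((hPk J x).1 hx)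
    rw [Subgroup.mem_normalizer_iff] at h1 ⊢
    intro y
    simp only [Subgroup.mem_subgroupOf, Subgroup.coe_mul, InvMemClass.coe_inv]
    exact h1 y
  · intro J K w _ hgood x hx
    obtain ⟨hnorm, hsup, -⟩ := levi_decomposition hc hcomm (F := F) (idxSet P J)
    have hLle : D.leviSubgroup F (idxSet P J) ≤ D.parabolicSubgroup F (idxSet P J) :=
      le_sup_right.trans hsup.le
    have hx' : (x : GL D.Idx F) ∈ (↑(D.unipotentRadical F (idxSet P J) ⊔
        D.leviSubgroup F (idxSet P J)) : Set (GL D.Idx F)) := by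
      rw [SetLike.mem_coe, hsup]; exact (hPk J x).1 hx
    rw [Subgroup.coe_mul_of_right_le_normalizer_left _ _ (hLle.trans hnorm), Set.mem_mul] at hx'
    obtain ⟨u, hu, l, hl, hul⟩ := hx'
    have huG : u ∈ D.group F := borel_le_group hc (Subgroup.mem_sup_left (hUpos J hu))
    refine ⟨⟨u, huG⟩, Subgroup.mem_subgroupOf.2 hu, ?_⟩
    rw [hPk]
    simp only [Subgroup.coe_mul, InvMemClass.coe_inv]
    rw [← hul, inv_mul_cancel_left]
    set n := BN.nw P w with hn
    have hnN : (n : GL D.Idx F) ∈ D.monomialSubgroup F :=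
      Subgroup.mem_subgroupOf.1 (hN.le (BN.nw_mem P w))
    -- the subgroup whose conjugate lies in the second parabolic subgroup
    let M : Subgroup (GL D.Idx F) :=
      (D.parabolicSubgroup F (idxSet P K)).comap (MulAut.conj (n : GL D.Idx F)⁻¹).toMonoidHom
    have hM : ∀ z, z ∈ M ↔ (n : GL D.Idx F)⁻¹ * z * n ∈ D.parabolicSubgroup F (idxSet P K) := fun z => by
      simp [M]
    rw [← hM]
    have hH : D.diagonalSubgroup F ≤ M := fun h hh => (hM h).2 (Subgroup.mem_sup_left (diagonal_le_borel hc
      (by simpa using monomial_conj_diagonal hc (inv_mem hnN) hh)))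
    have hns : ∀ i : Fin D.rank, (i : ℕ) ∈ idxSet P J → elN D F (D.simple i.val) 1 ∈ M := by
      rintro i ⟨s, hs, hsi⟩
      obtain ⟨t, ht, hst'⟩ := hgood s hs
      have hm : n⁻¹ * (s : ↥(D.group F)) * n ∈ P.N :=
        mul_mem (mul_mem (inv_mem (BN.nw_mem P w)) (P.subset s.2)) (BN.nw_mem P w)
      have e : BN.wk P (n⁻¹ * (s : ↥(D.group F)) * n) hm = BN.sgen P t := by
        rw [← hst', BN.wk_mul P (mul_mem (inv_mem (BN.nw_mem P w)) (P.subset s.2)) (BN.nw_mem P w),
          BN.wk_mul P (inv_mem (BN.nw_mem P w)) (P.subset s.2), BN.wk_nw]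
        congr 2
        exact congrArg (fun z : BN.Weyl P => z⁻¹) (BN.wk_nw P w)
      have h1 := (BN.wk_eq_iff P (P.subset t.2) hm).1 e.symm
      have h2 : n⁻¹ * (s : ↥(D.group F)) * n ∈ BN.Pk P K := by
        have h3 := mul_mem (BN.subset_parabolic P (J := Subtype.val '' (K : Set P.S))
          ⟨t, Finset.mem_coe.2 ht, rfl⟩) (BN.B_le_Pk P K h1)
        rwa [mul_inv_cancel_left] at h3
      rw [hM, ← hsi]
      simpa using (hPk K _).1 h2
    have hxs : ∀ i : Fin D.rank, (i : ℕ) ∈ idxSet P J → ∀ t, elX D F (D.simple i.val) t ∈ M := by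
      intro i hi t
      have hp := simple_lt hc i.2
      obtain ⟨v, c, hv, hvx, hvy⟩ := monomial_conj_elX hc (inv_mem hnN) hp
      simp only [inv_inv] at hvx hvy
      by_cases hpos : D.nroots / 2 ≤ v
      · rw [hM, hvx]
        exact Subgroup.mem_sup_left (elX_mem_borel hc hv hpos _)
      · have hneg : ∀ t, elX D F (D.neg (D.simple i.val)) t ∈ M := by
          intro t
          obtain ⟨u, hu⟩ := hvy t
          rw [hM, hu]
          refine Subgroup.mem_sup_left (elX_mem_borel hc (neg_lt hc hv) ?_ _)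
          have := neg_eq hc hv; have := nroots_eq_two_mul hc; omega
        have h1 := nOne_conj_elX hc i hp t
        rw [sig_simple hc] at h1
        have h2 := mul_mem (mul_mem (inv_mem (hns i hi)) (hneg ((eta D T i (D.simple i.val) : F) * t))) (hns i hi)
        rw [← h1] at h2
        simpa [mul_assoc] using h2
    have hle : D.leviSubgroup F (idxSet P J) ≤ M := by
      rw [levi_eq hc]
      refine sup_le hH ?_
      rw [uGen_le_iff]
      exact fun r _ hr t => sub_root_mem hc hns hxs r hr t
    exact hle hl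

/-- Up to sign, the value of the Steinberg character at an element of order prime to `p` is the `p`-part
of the order of its centralizer. -/
theorem steinberg_semisimple [Finite F] (p : ℕ) [Fact p.Prime] [CharP F p]
    {g : ↥(D.group F)} (hg : ¬ p ∣ orderOf g) :
    D.steinbergCharacter F g =
        ((p ^ (Nat.card ↥(Subgroup.centralizer ({g} : Set ↥(D.group F)))).factorization p : ℕ) : ℂ) ∨
      D.steinbergCharacter F g =
        -((p ^ (Nat.card ↥(Subgroup.centralizer ({g} : Set ↥(D.group F)))).factorization p : ℕ) : ℂ) := by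
  classical
  haveI : Finite (GL D.Idx F) := inferInstance
  haveI : Finite ↥(D.group F) := inferInstance
  obtain ⟨V, hV, hVC, hval⟩ := exists_steinberg_semisimple hc hcomm p hg
  obtain ⟨m, hm⟩ := hV.exists_card_eq
  set C := Subgroup.centralizer ({g} : Set ↥(D.group F)) with hC
  obtain ⟨d, ρ, hρ, hχ⟩ := isIrrCharacter_steinberg hc hcomm (F := F)
  have hdeg : (Module.finrank ℂ (Fin d → ℂ) : ℂ) =
      ((p ^ (Nat.card ↥(D.group F)).factorization p : ℕ) : ℂ) := by
    rw [← factorization_posUnipotent hc hcomm p, ← steinberg_one hc hcomm, ← hχ, Representation.char_one]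
  have hint := CfsgLib.Char.isIntegral_index_mul_char_div ρ g
  rw [hdeg, hχ, ← hC] at hint
  have hint' : IsIntegral ℤ (((C.index * Nat.card V : ℕ) : ℂ) /
      ((p ^ (Nat.card ↥(D.group F)).factorization p : ℕ) : ℂ)) := by
    rcases hval with h | h
    · rw [h, ← Nat.cast_mul] at hint; exact hint
    · rw [h, mul_neg, neg_div, ← Nat.cast_mul] at hint
      simpa using hint.neg
  have hp : p.Prime := Fact.out
  have hdvd := CfsgLib.Char.dvd_of_isIntegral_natCast_div (pow_ne_zero _ hp.ne_zero) hint'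
  have hne : C.index ≠ 0 := Subgroup.index_ne_zero_of_finite
  have hVm : (Nat.card V).factorization p = m := by
    rw [hm, hp.factorization_pow, Finsupp.single_eq_same]
  have h1 := (hp.pow_dvd_iff_le_factorization (mul_ne_zero hne Nat.card_pos.ne')).1 hdvd
  rw [Nat.factorization_mul hne Nat.card_pos.ne', Finsupp.add_apply, hVm,
    ← C.index_mul_card, Nat.factorization_mul hne Nat.card_pos.ne', Finsupp.add_apply] at h1
  have h2 : m ≤ (Nat.card C).factorization p := by
    rw [← hp.pow_dvd_iff_le_factorization Nat.card_pos.ne', ← hm]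
    exact Subgroup.card_dvd_of_le hVC
  rw [show (Nat.card C).factorization p = m by omega, ← hm]
  exact hval

end CfsgLib.Chev
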