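import Cfsg.Agent.Lib.Chev.Spec
/-
The integer matrices held by the tables, their weights, the classification of table entries and the product formula that
turns the checks into matrix identities.
-/
set_option autoImplicit false

namespace CfsgLib.Chev

open Cfsg.Lie

variable {D : ChevalleyDatum} {T : Tabs}

/-- the number of a basis vector -/
def cd (D : ChevalleyDatum) : D.Idx → ℕ := Sum.elim (fun i => D.nroots + i.val) (fun u => u.val)

@[simp] theorem cd_inl (i : Fin D.rank) : cd D (Sum.inl i) = D.nroots + i.val := rfl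

@[simp] theorem cd_inr (u : Fin D.nroots) : cd D (Sum.inr u) = u.val := rfl

theorem cd_lt (x : D.Idx) : cd D x < D.nroots + D.rank := by
  rcases x with i | u <;> simp <;> omega

theorem cd_injective : Function.Injective (cd D) := by
  rintro (i | u) (j | v) h <;> simp at h
  · exact congrArg _ (Fin.ext (by omega))
  · exfalso; omega
  · exfalso; omega
  · exact congrArg _ (Fin.ext h)

theorem exists_cd {a : ℕ} (ha : a < D.nroots + D.rank) : ∃ x : D.Idx, cd D x = a := by
  by_cases h : a < D.nroots
  · exact ⟨Sum.inr ⟨a, h⟩, rfl⟩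
  · exact ⟨Sum.inl ⟨a - D.nroots, by omega⟩, by simp; omega⟩

/-- indices of all entries are below the dimension -/
def Good (D : ChevalleyDatum) (L : List (ℕ × ℤ)) : Prop := ∀ p ∈ L, p.1 < D.nroots + D.rank

theorem good_nil : Good D [] := fun _ h => nomatch h

theorem good_exists {L : List (ℕ × ℤ)} (h : Good D L) : ∀ p ∈ L, ∃ x : D.Idx, cd D x = p.1 :=
  fun p hp => exists_cd (h p hp)

theorem corVec_mem {a : ℕ} {p : ℕ × ℤ} : p ∈ corVec D T a ↔ ∃ i < D.rank, p = (D.nroots + i, cv T a i) := by
  unfold corVec
  generalize D.rank = l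
  induction l with
  | zero => simp
  | succ k ih =>
      simp only [Nat.add_eq] at ih ⊢
      rw [List.mem_cons, ih, Nat.exists_lt_succ_right]; exact or_comm

theorem good_corVec (a : ℕ) : Good D (corVec D T a) := by
  intro p hp; obtain ⟨i, hi, rfl⟩ := corVec_mem.1 hp; show D.nroots + i < _; omega

theorem coeffAt_corVec (a : ℕ) (j : ℕ) :
    coeffAt (corVec D T a) j = if D.nroots ≤ j ∧ j < D.nroots + D.rank then cv T a (j - D.nroots) else 0 := by
  unfold corVec
  generalize D.rank = l
  induction l with
  | zero => rw [if_neg (by omega)]; rfl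
  | succ k ih =>
      simp only [Nat.add_eq] at ih ⊢
      rw [coeffAt_cons, ih]
      by_cases h : D.nroots + k = j
      · subst h
        rw [if_pos rfl, if_neg (by omega), if_pos (by omega), show D.nroots + k - D.nroots = k by omega, add_zero]
      · rw [if_neg h, zero_add]
        exact if_congr (by omega) rfl rfl

/-- the `k`-th divided power of ad(e_a), as an integer matrix -/
noncomputable def tabMat (D : ChevalleyDatum) (T : Tabs) (k a : ℕ) : Matrix D.Idx D.Idx ℤ :=
  Matrix.of fun row col => coeffAt (decCode D T (field ((tabK T k).get a) (cd D col))) (cd D row)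

theorem tabMat_apply (k a : ℕ) (row col : D.Idx) :
    tabMat D T k a row col = coeffAt (decCode D T (field ((tabK T k).get a) (cd D col))) (cd D row) := rfl

@[simp] theorem tabK_one : tabK T 1 = T.t1 := rfl
@[simp] theorem tabK_two : tabK T 2 = T.t2 := rfl
@[simp] theorem tabK_three : tabK T 3 = T.t3 := rfl

theorem tabK_ge {k : ℕ} (h : 4 ≤ k) : tabK T k = Trie.leaf 0 := by
  rw [tabK, cond_beq, cond_beq, cond_beq, if_neg (by omega), if_neg (by omega), if_neg (by omega)]

theorem optCode_lt_iff {o : Option (ℕ × ℤ)} (h : ∀ q ∈ o, -7 ≤ q.2 ∧ q.2 ≤ 7) :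
    optCode o = 0 ↔ o = none := by
  cases o with
  | none => simp [optCode]
  | some q => obtain ⟨h1, h2⟩ := h q rfl; simpa [optCode] using (encNZ_parts h1 h2).1

section
variable (hc : Checked D T)
include hc

theorem chainEntry_get {a : ℕ} (ha : a < D.nroots) {c i : ℕ} {q : ℕ × ℤ} (h : q ∈ (D.chainEntry a c)[i]?) :
    q.1 < D.nroots ∧ q.2 ≠ 0 ∧ -7 ≤ q.2 ∧ q.2 ≤ 7 ∧ c < D.nroots ∧ c ≠ a ∧ c ≠ D.neg a :=
  chainEntry_term hc ha (List.mem_of_getElem? h)

/-- the code of a term is zero, or that of an actual term, or the marker of the coroot -/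
theorem field1_cases {a c : ℕ} (ha : a < D.nroots + D.rank) (hcd : c < D.nroots + D.rank) :
    field (T.t1.get a) c = 0 ∨
      (∃ u < D.nroots, ∃ v : ℤ, v ≠ 0 ∧ -7 ≤ v ∧ v ≤ 7 ∧ field (T.t1.get a) c = encNZ u v) ∨
      (a < D.nroots ∧ c = D.neg a ∧ field (T.t1.get a) c = (a + 1) * 16) := by
  by_cases ha' : a < D.nroots
  · by_cases hc' : c < D.nroots
    · rw [field_t1 hc ha' hc']
      split
      · exact Or.inr (Or.inr ⟨ha', ‹_›, rfl⟩)
      · cases h : (D.chainEntry a c)[0]? with
        | none => exact Or.inl rfl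
        | some q =>
            obtain ⟨h1, h2, h3, h4, -⟩ := chainEntry_get hc ha' (i := 0) (h ▸ rfl : q ∈ (D.chainEntry a c)[0]?)
            exact Or.inr (Or.inl ⟨q.1, h1, q.2, h2, h3, h4, rfl⟩)
    · obtain ⟨h1, h2, -, h4⟩ := (cartan' hc (show c - D.nroots < D.rank by omega)).2 a ha'
      rw [show D.nroots + (c - D.nroots) = c by omega] at h4
      rw [h4, encZ_eq]
      split
      · exact Or.inl rfl
      · exact Or.inr (Or.inl ⟨a, ha', _, ‹_›, by omega, by omega, rfl⟩)
  · have hi : a - D.nroots < D.rank := by omega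
    rw [show a = D.nroots + (a - D.nroots) by omega]
    by_cases hc' : c < D.nroots
    · obtain ⟨h1, h2, h3, -⟩ := (cartan' hc hi).2 c hc'
      rw [h3, encZ_eq]
      split
      · exact Or.inl rfl
      · exact Or.inr (Or.inl ⟨c, hc', _, ‹_›, h1, h2, rfl⟩)
    · have := (cartan' hc hi).1 (c - D.nroots) (by omega)
      rw [show D.nroots + (c - D.nroots) = c by omega] at this
      exact Or.inl this

theorem good_optCode {a c i : ℕ} (ha : a < D.nroots) : Good D (decCode D T (optCode ((D.chainEntry a c)[i]?))) := by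
  cases h : (D.chainEntry a c)[i]? with
  | none => simpa [optCode] using good_nil (D := D)
  | some q =>
      obtain ⟨h1, -, h3, h4, -⟩ := chainEntry_get hc ha (h ▸ rfl : q ∈ (D.chainEntry a c)[i]?)
      intro p hp
      simp [optCode, decCode_encNZ h3 h4] at hp
      rw [hp]; show q.1 < _; omega

theorem good_field1 {a c : ℕ} (ha : a < D.nroots + D.rank) (hcd : c < D.nroots + D.rank) :
    Good D (decCode D T (field (T.t1.get a) c)) := by
  rcases field1_cases hc ha hcd with h | ⟨u, hu, v, -, h1, h2, h⟩ | ⟨-, -, h⟩ <;> rw [h]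
  · simpa using good_nil (D := D)
  · rw [decCode_encNZ h1 h2]; intro p hp; simp at hp; subst hp; show u < _; omega
  · rw [decCode_marker]; exact good_corVec a

theorem good_field {k a c : ℕ} (hk : k = 1 ∨ k = 2 ∨ k = 3) (ha : a < D.nroots) (hcd : c < D.nroots + D.rank) :
    Good D (decCode D T (field ((tabK T k).get a) c)) := by
  rcases hk with rfl | rfl | rfl
  · exact good_field1 hc (by omega) hcd
  · rw [tabK_two, field_t2 hc ha]
    split
    · rw [decCode_encNZ (by norm_num) (by norm_num)]; intro p hp; simp at hp; subst hp; show a < _; omega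
    · exact good_optCode hc ha
  · rw [tabK_three, field_t3 hc ha]; exact good_optCode hc ha

end

theorem coeffAt_applyRow (row j : ℕ) (L : List (ℕ × ℤ)) :
    coeffAt (applyRow D T row L) j = evalVec (fun u => coeffAt (decCode D T (field row u)) j) L := by
  induction L with
  | nil => rfl
  | cons p l ih =>
      show coeffAt (cat (scaleVec p.2 (decCode D T (field row p.1))) (applyRow D T row l)) j = _
      rw [coeffAt_cat, coeffAt_scaleVec, ih]; rfl

theorem coeffAt_sumRows (t : Trie) (c j : ℕ) (L : List (ℕ × ℤ)) :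
    coeffAt (sumRows D T (rowsOf t L) c) j = evalVec (fun u => coeffAt (decCode D T (field (t.get u) c)) j) L := by
  induction L with
  | nil => rfl
  | cons p l ih =>
      show coeffAt (cat (scaleVec p.2 (decCode D T (field (t.get p.1) c))) (sumRows D T (rowsOf t l) c)) j = _
      rw [coeffAt_cat, coeffAt_scaleVec, ih]; rfl

theorem sum_mul_coeffAt {L : List (ℕ × ℤ)} (hL : Good D L) (f : ℕ → ℤ) :
    ∑ x : D.Idx, f (cd D x) * coeffAt L (cd D x) = evalVec f L := by
  rw [← sum_coeffAt_smul (cd D) cd_injective f (good_exists hL)]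
  exact Finset.sum_congr rfl fun x _ => by rw [smul_eq_mul, mul_comm]

/-- entry of a product with a table matrix on the left -/
theorem tabMat_mul_apply (k a : ℕ) (N : Matrix D.Idx D.Idx ℤ) (L : List (ℕ × ℤ)) (hL : Good D L) (col : D.Idx)
    (h : ∀ x, N x col = coeffAt L (cd D x)) (row : D.Idx) :
    (tabMat D T k a * N) row col = coeffAt (applyRow D T ((tabK T k).get a) L) (cd D row) := by
  rw [Matrix.mul_apply, coeffAt_applyRow,
    ← sum_mul_coeffAt hL (fun u => coeffAt (decCode D T (field ((tabK T k).get a) u)) (cd D row))]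
  exact Finset.sum_congr rfl fun x _ => by rw [tabMat_apply, h]

theorem field_orRows {R : List (ℕ × ℤ)} {c : ℕ} (h : field (orRows R) c = 0) : ∀ p ∈ R, field p.1 c = 0 := by
  induction R with
  | nil => simp
  | cons p l ih =>
      change field (p.1 ||| orRows l) c = 0 at h
      rw [field_lor, Nat.or_eq_zero_iff] at h
      rw [List.forall_mem_cons]; exact ⟨h.1, ih h.2⟩

end CfsgLib.Chev
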