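import Cfsg.Agent.Lib.Chev.Auto
/-
The torus, the elements n_r(t) and h_r(t), and their action on root elements, over an arbitrary field.
-/
set_option autoImplicit false
set_option linter.unusedSectionVars false

namespace CfsgLib.Chev

open Cfsg.Lie
open scoped Matrix

variable {D : ChevalleyDatum} {T : Tabs} {F : Type*} [Field F]

/-- the value of the character `χ` at an element of the root lattice -/
def chi (χ : Fin D.rank → Fˣ) (v : Fin D.rank → ℤ) : Fˣ := ∏ j, χ j ^ v j

theorem chi_add (χ : Fin D.rank → Fˣ) (v w : Fin D.rank → ℤ) : chi χ (v + w) = chi χ v * chi χ w := by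
  simp [chi, zpow_add, Finset.prod_mul_distrib]

theorem chi_zero (χ : Fin D.rank → Fˣ) : chi χ 0 = 1 := by simp [chi]

theorem chi_smul (χ : Fin D.rank → Fˣ) (k : ℤ) (v : Fin D.rank → ℤ) : chi χ (k • v) = chi χ v ^ k := by
  simp only [chi, ← Finset.prod_zpow, Pi.smul_apply, smul_eq_mul]
  exact Finset.prod_congr rfl fun j _ => by rw [← zpow_mul, mul_comm]

theorem chi_neg (χ : Fin D.rank → Fˣ) (v : Fin D.rank → ℤ) : chi χ (-v) = (chi χ v)⁻¹ := by
  rw [← neg_one_smul ℤ v, chi_smul, _root_.zpow_neg_one]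

theorem chi_sub (χ : Fin D.rank → Fˣ) (v w : Fin D.rank → ℤ) : chi χ (v - w) = chi χ v / chi χ w := by
  rw [sub_eq_add_neg, chi_add, chi_neg, div_eq_mul_inv]

theorem chi_mul (χ ψ : Fin D.rank → Fˣ) (v : Fin D.rank → ℤ) : chi (χ * ψ) v = chi χ v * chi ψ v := by
  simp [chi, mul_zpow, Finset.prod_mul_distrib]

theorem chi_one (v : Fin D.rank → ℤ) : chi (1 : Fin D.rank → Fˣ) v = 1 := by simp [chi]

theorem chi_single (χ : Fin D.rank → Fˣ) (i : Fin D.rank) (k : ℤ) : chi χ (Pi.single i k) = χ i ^ k := by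
  rw [chi, Finset.prod_eq_single i] <;> simp +contextual [Pi.single_apply]

theorem prod_zpow_sum {G ι : Type*} [CommGroup G] (a : G) (s : Finset ι) (f : ι → ℤ) :
    ∏ j ∈ s, a ^ f j = a ^ ∑ j ∈ s, f j := by
  classical
  induction s using Finset.induction with
  | empty => simp
  | insert x t hx ih => rw [Finset.prod_insert hx, Finset.sum_insert hx, zpow_add, ih]

/-- the diagonal matrix of a character of the root lattice -/
noncomputable def torus (D : ChevalleyDatum) (T : Tabs) (F : Type*) [Field F] :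
    (Fin D.rank → Fˣ) →* GL D.Idx F where
  toFun χ :=
    ⟨Matrix.diagonal fun x => (chi χ (wI D T x) : F), Matrix.diagonal fun x => ((chi χ (wI D T x))⁻¹ : Fˣ),
      by simp, by simp⟩
  map_one' := by ext1; simp [chi_one]
  map_mul' χ ψ := by ext1; simp [chi_mul, Matrix.diagonal_mul_diagonal]

theorem coe_torus (χ : Fin D.rank → Fˣ) :
    ((torus D T F χ : GL D.Idx F) : Matrix D.Idx D.Idx F) = Matrix.diagonal fun x => (chi χ (wI D T x) : F) := rfl

/-- the action of a fundamental reflection on characters -/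
def reflChar (i : Fin D.rank) (χ : Fin D.rank → Fˣ) : Fin D.rank → Fˣ := fun j => chi χ (refl D i (Pi.single j 1))

theorem chi_reflChar (i : Fin D.rank) (χ : Fin D.rank → Fˣ) (v : Fin D.rank → ℤ) :
    chi (reflChar i χ) v = chi χ (refl D i v) := by
  have key : ∀ s : Finset (Fin D.rank),
      chi χ (refl D i (∑ j ∈ s, Pi.single j (v j))) = ∏ j ∈ s, reflChar i χ j ^ v j := by
    intro s
    induction s using Finset.induction with
    | empty => simp [refl_zero, chi_zero]
    | insert a t ha ih =>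
        rw [Finset.sum_insert ha, Finset.prod_insert ha, refl_add, chi_add, ih]
        congr 1
        rw [show (Pi.single a (v a) : Fin D.rank → ℤ) = v a • Pi.single a 1 by rw [← Pi.single_smul]; simp,
          refl_smul, chi_smul]
        rfl
  have h := key Finset.univ
  rw [Finset.univ_sum_single] at h
  exact h.symm

/-- n_r(t) -/
noncomputable def elN (D : ChevalleyDatum) (F : Type*) [Field F] (r : ℕ) (t : F) : GL D.Idx F :=
  elX D F r t * elX D F (D.neg r) (-t⁻¹) * elX D F r t

/-- h_r(t) -/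
noncomputable def elH (D : ChevalleyDatum) (F : Type*) [Field F] (r : ℕ) (t : F) : GL D.Idx F :=
  elN D F r t * elN D F r (-1)

/-- the character t ↦ t^{⟨r^∨, ·⟩} -/
noncomputable def corChar (D : ChevalleyDatum) (T : Tabs) (r : ℕ) (t : Fˣ) : Fin D.rank → Fˣ :=
  fun j => t ^ (∑ k : Fin D.rank, cv T r k * cm D k j)

theorem corChar_mul (r : ℕ) (s t : Fˣ) : corChar D T r (s * t) = corChar D T r s * corChar D T r t := by
  funext j; simp [corChar, mul_zpow]

theorem corChar_one (r : ℕ) : corChar D T r (1 : Fˣ) = 1 := by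
  funext j; simp [corChar]

theorem corChar_inv (r : ℕ) (t : Fˣ) : corChar D T r t⁻¹ = (corChar D T r t)⁻¹ := by
  funext j; simp [corChar, inv_zpow]

section
variable (hc : Checked D T)
include hc

theorem wI_col_neg {r : ℕ} (hr : r < D.nroots) :
    wI D T (Sum.inr ⟨D.neg r, neg_lt hc hr⟩) = -rv D T r := by rw [wI_inr, rv_neg hc hr]

theorem torus_elX (χ : Fin D.rank → Fˣ) {r : ℕ} (hr : r < D.nroots) (t : F) :
    torus D T F χ * elX D F r t = elX D F r (chi χ (rv D T r) * t) * torus D T F χ := by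
  ext1
  simp only [Units.val_mul, coe_elX hc F hr, xMat_eq hc F hr, coe_torus]
  ext a b
  rw [Matrix.diagonal_mul, Matrix.mul_diagonal]
  simp only [xTab, Matrix.add_apply, Matrix.smul_apply, Matrix.map_apply, smul_eq_mul]
  have term : ∀ k : ℕ, k = 1 ∨ k = 2 ∨ k = 3 →
      (chi χ (wI D T a) : F) * (t ^ k * ((Int.castRingHom F) (tabMat D T k r a b))) =
      ((chi χ (rv D T r) : F) * t) ^ k * (Int.castRingHom F) (tabMat D T k r a b) * (chi χ (wI D T b) : F) := by
    intro k hk
    by_cases hz : tabMat D T k r a b = 0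
    · simp [hz]
    · rw [weight_spec hc hk (by omega) hz, chi_add, chi_smul, zpow_natCast, Units.val_mul, Units.val_pow_eq_pow_val,
        mul_pow]
      ring
  have h1 := term 1 (Or.inl rfl)
  have h2 := term 2 (Or.inr (Or.inl rfl))
  have h3 := term 3 (Or.inr (Or.inr rfl))
  rw [pow_one, pow_one] at h1
  by_cases hab : a = b
  · subst hab
    rw [Matrix.one_apply_eq]
    linear_combination h1 + h2 + h3
  · rw [Matrix.one_apply_ne hab]
    linear_combination h1 + h2 + h3

theorem torus_conj_elX (χ : Fin D.rank → Fˣ) {r : ℕ} (hr : r < D.nroots) (t : F) :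
    torus D T F χ * elX D F r t * (torus D T F χ)⁻¹ = elX D F r (chi χ (rv D T r) * t) := by
  rw [torus_elX hc χ hr, mul_inv_cancel_right]

theorem torus_injective : Function.Injective (torus D T F) := by
  intro χ ψ h
  funext j
  have h' := congrArg (fun g : GL D.Idx F =>
    (g : Matrix D.Idx D.Idx F) (Sum.inr ⟨_, simple_lt hc j.2⟩) (Sum.inr ⟨_, simple_lt hc j.2⟩)) h
  simp only [coe_torus, Matrix.diagonal_apply_eq, wI_inr, rv_simple hc, chi_single, zpow_one] at h'
  exact Units.ext h'

theorem coe_elN {r : ℕ} (hr : r < D.nroots) (t : F) :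
    ((elN D F r t : GL D.Idx F) : Matrix D.Idx D.Idx F) = D.nMat F r t := by
  simp [elN, ChevalleyDatum.nMat, ChevalleyDatum.nWord, ChevalleyDatum.wordMat, coe_elX hc F hr,
    coe_elX hc F (neg_lt hc hr), Matrix.mul_assoc]

theorem coe_elH {r : ℕ} (hr : r < D.nroots) (t : F) :
    ((elH D F r t : GL D.Idx F) : Matrix D.Idx D.Idx F) = D.hMat F r t := by
  rw [elH, Units.val_mul, coe_elN hc hr, coe_elN hc hr]
  simp [ChevalleyDatum.hMat, ChevalleyDatum.nMat, ChevalleyDatum.hWord, ChevalleyDatum.wordMat]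

theorem elN_inv {r : ℕ} (hr : r < D.nroots) (t : F) : (elN D F r t)⁻¹ = elN D F r (-t) := by
  simp only [elN, mul_inv_rev, elX_inv hc F hr, elX_inv hc F (neg_lt hc hr), neg_neg, inv_neg, mul_assoc]

theorem torus_conj_elN (χ : Fin D.rank → Fˣ) {r : ℕ} (hr : r < D.nroots) (t : F) :
    torus D T F χ * elN D F r t * (torus D T F χ)⁻¹ = elN D F r (chi χ (rv D T r) * t) := by
  have hn := neg_lt hc hr
  have h : ∀ a b c : GL D.Idx F, torus D T F χ * (a * b * c) * (torus D T F χ)⁻¹ =
      (torus D T F χ * a * (torus D T F χ)⁻¹) * (torus D T F χ * b * (torus D T F χ)⁻¹) *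
      (torus D T F χ * c * (torus D T F χ)⁻¹) := fun a b c => by group
  rw [elN, h, torus_conj_elX hc χ hr, torus_conj_elX hc χ hn, rv_neg hc hr, chi_neg, elN]
  congr 2
  simp [mul_inv, mul_comm]

theorem coe_elN_simple_one (i : Fin D.rank) :
    ((elN D F (D.simple i) 1 : GL D.Idx F) : Matrix D.Idx D.Idx F) =
      (nZ D T (D.simple i)).map (Int.castRingHom F) := by
  have hp := simple_lt hc i.2
  have hn := neg_lt hc hp
  have hx : ∀ (r : ℕ) (e : ℤ), (xTab D T ℤ r e).map (Int.castRingHom F) = xTab D T F r (e : F) := by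
    intro r e
    ext a b
    simp only [xTab, Matrix.map_apply, Matrix.add_apply, Matrix.smul_apply, smul_eq_mul, map_add, map_mul, map_pow,
      Matrix.one_apply, apply_ite (Int.castRingHom F), map_one, map_zero, eq_intCast, Int.cast_id]
  rw [elN, Units.val_mul, Units.val_mul, coe_elX hc F hp, coe_elX hc F hn, xMat_eq hc F hp, xMat_eq hc F hn, nZ,
    Matrix.map_mul, Matrix.map_mul, hx, hx]
  simp

theorem nOne_elX (i : Fin D.rank) {s : ℕ} (hs : s < D.nroots) (t : F) :
    elN D F (D.simple i) 1 * elX D F s t =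
      elX D F (sig D T i s) ((eta D T i s : F) * t) * elN D F (D.simple i) 1 := by
  ext1
  simp only [Units.val_mul, coe_elX hc F hs, coe_elX hc F (sig_lt hc i hs), xMat_eq hc F hs,
    xMat_eq hc F (sig_lt hc i hs), coe_elN_simple_one hc i, xTab]
  have cast : ∀ k, k = 1 ∨ k = 2 ∨ k = 3 →
      (nZ D T (D.simple i)).map (Int.castRingHom F) * (tabMat D T k s).map (Int.castRingHom F) =
      ((eta D T i s : F) ^ k) • ((tabMat D T k (sig D T i s)).map (Int.castRingHom F) *
        (nZ D T (D.simple i)).map (Int.castRingHom F)) := by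
    intro k hk
    rw [← Matrix.map_mul, ← Matrix.map_mul, nZ_tabMat hc i hs hk]
    ext a b
    simp only [Matrix.map_apply, Matrix.smul_apply, smul_eq_mul, Int.coe_castRingHom, Int.cast_mul, Int.cast_pow]
  simp only [Matrix.mul_add, Matrix.add_mul, Matrix.mul_one, Matrix.one_mul, Matrix.mul_smul, Matrix.smul_mul,
    cast 1 (Or.inl rfl), cast 2 (Or.inr (Or.inl rfl)), cast 3 (Or.inr (Or.inr rfl)), smul_smul]
  module

theorem nOne_conj_elX (i : Fin D.rank) {s : ℕ} (hs : s < D.nroots) (t : F) :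
    elN D F (D.simple i) 1 * elX D F s t * (elN D F (D.simple i) 1)⁻¹ =
      elX D F (sig D T i s) ((eta D T i s : F) * t) := by
  rw [nOne_elX hc i hs, mul_inv_cancel_right]

theorem eta_cast (i : Fin D.rank) {s : ℕ} (hs : s < D.nroots) :
    (eta D T i s : F) = 1 ∨ (eta D T i s : F) = -1 := by
  rcases (eta_spec hc i hs).1 with h | h <;> simp [h]

theorem nOne_torus (i : Fin D.rank) (χ : Fin D.rank → Fˣ) :
    elN D F (D.simple i) 1 * torus D T F χ = torus D T F (reflChar i χ) * elN D F (D.simple i) 1 := by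
  ext1
  simp only [Units.val_mul, coe_elN_simple_one hc i, coe_torus]
  ext a b
  rw [Matrix.diagonal_mul, Matrix.mul_diagonal, Matrix.map_apply]
  by_cases hz : nZ D T (D.simple i) a b = 0
  · simp [hz]
  · rw [chi_reflChar, nZ_weight hc i hz, refl_refl hc, mul_comm]

theorem nOne_conj_torus (i : Fin D.rank) (χ : Fin D.rank → Fˣ) :
    elN D F (D.simple i) 1 * torus D T F χ * (elN D F (D.simple i) 1)⁻¹ = torus D T F (reflChar i χ) := by
  rw [nOne_torus hc, mul_inv_cancel_right]

theorem nOne_conj_elN (i : Fin D.rank) {s : ℕ} (hs : s < D.nroots) (t : F) :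
    elN D F (D.simple i) 1 * elN D F s t * (elN D F (D.simple i) 1)⁻¹ =
      elN D F (sig D T i s) ((eta D T i s : F) * t) := by
  have hn := neg_lt hc hs
  have h : ∀ n a b c : GL D.Idx F, n * (a * b * c) * n⁻¹ = (n * a * n⁻¹) * (n * b * n⁻¹) * (n * c * n⁻¹) :=
    fun n a b c => by group
  rw [show elN D F s t = elX D F s t * elX D F (D.neg s) (-t⁻¹) * elX D F s t from rfl, h, nOne_conj_elX hc i hs,
    nOne_conj_elX hc i hn, sig_neg hc i hs, eta_neg hc i hs]
  rw [elN]
  congr 2
  rcases eta_cast hc (F := F) i hs with e | e <;> simp [e]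

/-- h_r is the torus element of the coroot of r -/
theorem elN_mul_inv {r : ℕ} (hr : r < D.nroots) (a b : Fˣ) :
    elN D F r a * (elN D F r b)⁻¹ = torus D T F (corChar D T r (a / b)) := by
  revert a b
  refine root_induction hc
    (P := fun r => ∀ a b : Fˣ, elN D F r a * (elN D F r b)⁻¹ = torus D T F (corChar D T r (a / b)))
    (fun i a b => ?_) (fun i s hs hP a b => ?_) hr
  · have hsing : ∀ c : Fˣ, elN D F (D.simple i) (c : F) =
        torus D T F (Pi.mulSingle i c) * (torus D T F (reflChar i (Pi.mulSingle i c)))⁻¹ * elN D F (D.simple i) 1 := by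
      intro c
      have h := torus_conj_elN hc (Pi.mulSingle i c) (simple_lt hc i.2) (1 : F)
      rw [rv_simple hc, chi_single, zpow_one, Pi.mulSingle_eq_same, mul_one] at h
      rw [← h, ← nOne_conj_torus hc i (Pi.mulSingle i c)]
      group
    have hcor : ∀ c : Fˣ, Pi.mulSingle i c * (reflChar i (Pi.mulSingle i c))⁻¹ = corChar D T (D.simple i) c := by
      intro c
      funext j
      have hv : ∀ v : Fin D.rank → ℤ, chi (Pi.mulSingle i c) v = c ^ v i := fun v => by
        rw [chi, Finset.prod_eq_single i] <;> simp +contextual [Pi.mulSingle_apply]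
      rw [Pi.mul_apply, Pi.inv_apply, reflChar, hv, corChar, Finset.sum_eq_single i]
      · rw [cv_simple hc i.2 i.2, if_pos rfl, one_mul, refl, Pi.sub_apply, Pi.single_eq_same,
          Finset.sum_eq_single j (fun k _ hk => by rw [Pi.single_eq_of_ne hk, mul_zero]) (by simp),
          Pi.single_eq_same, mul_one, Pi.single_apply, Pi.mulSingle_apply]
        by_cases hij : i = j
        · subst hij; rw [if_pos rfl, if_pos rfl, ← zpow_neg]
          rw [show c * c ^ (-(1 - cm D i i)) = c ^ (1 + -(1 - cm D i i)) by rw [zpow_add, zpow_one]]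
          congr 1; ring
        · rw [if_neg hij, if_neg (Ne.symm hij), ← zpow_neg, one_mul]
          congr 1; ring
      · intro k _ hk; rw [cv_simple hc i.2 k.2, if_neg (fun h => hk (Fin.ext h.symm)), zero_mul]
      · simp
    rw [hsing a, hsing b, ← map_inv, ← map_mul, hcor, ← map_inv, ← map_mul, hcor, mul_inv_rev, ← mul_assoc,
      mul_inv_cancel_right, ← map_inv, ← map_mul, div_eq_mul_inv, corChar_mul, corChar_inv]
  · have hu := sig_lt hc i hs
    have hη : ∃ e : Fˣ, (e : F) = (eta D T i s : F) := by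
      rcases eta_cast hc (F := F) i hs with h | h
      · exact ⟨1, by simp [h]⟩
      · exact ⟨-1, by simp [h]⟩
    obtain ⟨e, he⟩ := hη
    have h1 := nOne_conj_elN hc (F := F) i hs ((e⁻¹ * a : Fˣ) : F)
    have h2 := nOne_conj_elN hc (F := F) i hs ((e⁻¹ * b : Fˣ) : F)
    rw [← he, ← Units.val_mul, mul_inv_cancel_left] at h1 h2
    rw [← h1, ← h2]
    have h3 := hP (e⁻¹ * a) (e⁻¹ * b)
    calc _ = elN D F (D.simple i) 1 *
          (elN D F s ((e⁻¹ * a : Fˣ) : F) * (elN D F s ((e⁻¹ * b : Fˣ) : F))⁻¹) * (elN D F (D.simple i) 1)⁻¹ := by group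
      _ = _ := by
        rw [h3, mul_div_mul_left_eq_div, nOne_conj_torus hc]
        congr 1
        funext j
        rw [reflChar, chi]
        simp only [corChar, ← zpow_mul, prod_zpow_sum]
        congr 1
        have hcv := (refl_spec hc i hs).2.2.2
        simp only [refl, Pi.sub_apply, mul_sub, Finset.sum_sub_distrib, Pi.single_apply, mul_ite, mul_one, mul_zero,
          Finset.sum_ite_eq', Finset.mem_univ, if_true, hcv, sub_mul, ite_mul, zero_mul]

theorem elH_eq_torus {r : ℕ} (hr : r < D.nroots) (t : Fˣ) :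
    elH D F r (t : F) = torus D T F (corChar D T r t) := by
  rw [elH, ← elN_inv hc hr (1 : F), ← Units.val_one, elN_mul_inv hc hr, div_one]

theorem elN_eq_mul {r : ℕ} (hr : r < D.nroots) (t : Fˣ) :
    elN D F r (t : F) = torus D T F (corChar D T r t) * elN D F r 1 := by
  have h := elN_mul_inv hc hr t 1
  rw [div_one, Units.val_one] at h
  rw [← h, inv_mul_cancel_right]

theorem chi_corChar {r s : ℕ} (hs : s < D.nroots) (t : Fˣ) :
    chi (corChar D T r t) (rv D T s) = t ^ (∑ k : Fin D.rank, cv T r k * D.cartan k s) := by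
  simp only [chi, corChar, ← zpow_mul]
  rw [prod_zpow_sum]
  congr 1
  simp only [cartan_linear hc _ hs, Finset.mul_sum, Finset.sum_mul, mul_assoc]
  exact Finset.sum_comm

theorem chi_corChar_simple (i : Fin D.rank) {s : ℕ} (hs : s < D.nroots) (t : Fˣ) :
    chi (corChar D T (D.simple i) t) (rv D T s) = t ^ D.cartan i s := by
  rw [chi_corChar hc hs, Finset.sum_eq_single i]
  · rw [cv_simple hc i.2 i.2, if_pos rfl, one_mul]
  · intro k _ hk; rw [cv_simple hc i.2 k.2, if_neg (fun h => hk (Fin.ext h.symm)), zero_mul]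
  · simp

theorem elX_eq_one_iff {r : ℕ} (hr : r < D.nroots) (t : F) : elX D F r t = 1 ↔ t = 0 := by
  refine ⟨fun h => ?_, fun h => by rw [h, elX_zero hc F hr]⟩
  obtain ⟨j, hj⟩ := exists_cv_ne_zero hc F hr
  have h' := congrArg (fun g : GL D.Idx F =>
    (g : Matrix D.Idx D.Idx F) (Sum.inl j) (Sum.inr ⟨D.neg r, neg_lt hc hr⟩)) h
  simp only [coe_elX hc F hr, xMat_eq hc F hr, xTab, Units.val_one, Matrix.add_apply, Matrix.smul_apply,
    Matrix.map_apply, smul_eq_mul, tabMat_apply, tabK_one, tabK_two, tabK_three, cd_inr,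
    field_t1 hc hr (neg_lt hc hr), field_t2 hc hr, field_t3 hc hr, chainEntry_neg hc hr, if_true, decCode_marker,
    decCode_encNZ (show (-7 : ℤ) ≤ -1 by norm_num) (show (-1 : ℤ) ≤ 7 by norm_num), coeffAt_corVec, cd_inl,
    Matrix.one_apply_ne (show (Sum.inl j : D.Idx) ≠ Sum.inr ⟨D.neg r, neg_lt hc hr⟩ by simp)] at h'
  rw [if_pos (show D.nroots ≤ D.nroots + j.val ∧ D.nroots + j.val < D.nroots + D.rank by omega),
    Nat.add_sub_cancel_left] at h'
  simp [optCode, coeffAt_cons, show r ≠ D.nroots + j.val by omega, hj] at h'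
  exact h'

end

end CfsgLib.Chev
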