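import Cfsg.Agent.Lib.BN.UnipCount
import Cfsg.Agent.Lib.ChevAut.Sylow
import Cfsg.Agent.Lib.Chev.Parabolic
import Cfsg.Agent.Lib.Chev.Order
import Cfsg.Agent.Lib.Chev.Comm

/-!
The number of unipotent elements of a tabulated Chevalley group over a finite field.
-/

set_option autoImplicit false
set_option linter.unusedSectionVars false

namespace CfsgLib.Chev

open Cfsg.Lie

variable {D : ChevalleyDatum} {T : Tabs} {F : Type*} [Field F]

section

variable (hc : Checked D T) (hcomm : CommOne D T)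
include hc hcomm

/-- an element of `U` whose conjugates under the Weyl elements of `J` stay in `B` lies in the radical -/
theorem mem_radical_of_conj {J : Set ℕ} {x : GL D.Idx F}
    (hx : x ∈ uGen D F (fun r => D.nroots / 2 ≤ r))
    (h : ∀ L : List (Fin D.rank), (∀ i ∈ L, (i : ℕ) ∈ J) →
      nProd D F L * x * (nProd D F L)⁻¹ ∈ D.borelSubgroup F) :
    x ∈ uGen D F (OutRoot D J) := by
  obtain ⟨L, hLJ, hL⟩ := exists_longest_sub hc J
  set n := nProd D F L
  have hn : n ∈ D.parabolicSubgroup F J := by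
    refine Subgroup.list_prod_mem _ fun y hy => ?_
    obtain ⟨i, hi, rfl⟩ := List.mem_map.1 hy
    exact elN_mem_parabolic hc (hLJ i hi)
  obtain ⟨a, ha, b, hb, rfl⟩ := uGen_split hc hcomm (closedPos_pos hc) (Q := OutRoot D J)
    (R := fun r => D.nroots / 2 ≤ r ∧ D.InRootSub J r)
    (fun r hr hp => by by_cases h : D.InRootSub J r; exacts [Or.inr ⟨hp, h⟩, Or.inl ⟨hp, h⟩]) hx
  have hbn : n * b * n⁻¹ ∈ uGen D F (fun r => r < D.nroots / 2) := by
    clear hx h
    induction hb using Subgroup.closure_induction with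
    | mem y hy =>
        obtain ⟨r, t, hr, hP, rfl⟩ := hy
        obtain ⟨c, -, hcx⟩ := nProd_conj_elX hc (F := F) L hr
        rw [hcx]
        exact elX_mem_uGen (sigs_lt hc L hr) (hL r hr hP.1 hP.2) _
    | one => simp
    | mul y z _ _ hy hz =>
        rw [show n * (y * z) * n⁻¹ = (n * y * n⁻¹) * (n * z * n⁻¹) by group]
        exact mul_mem hy hz
    | inv y _ hy =>
        rw [show n * y⁻¹ * n⁻¹ = (n * y * n⁻¹)⁻¹ by group]
        exact inv_mem hy
  have hann : n * a * n⁻¹ ∈ uGen D F (OutRoot D J) :=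
    ((Subgroup.mem_normalizer_iff).1 (parabolic_normalizes_radical hc hcomm J hn) a).1 ha
  have hbB : n * b * n⁻¹ ∈ D.borelSubgroup F := by
    rw [show n * b * n⁻¹ = (n * a * n⁻¹)⁻¹ * (n * (a * b) * n⁻¹) by group]
    exact mul_mem (inv_mem (pos_le_borel hc (uGen_mono (fun r _ h => h.1) hann))) (h L hLJ)
  have hb1 : b = 1 := conj_eq_one_iff.1 (borel_inf_neg hc hbB hbn)
  rw [hb1, mul_one]
  exact ha

/-- Steinberg's count of unipotent elements. -/
theorem card_unipotent [Finite F] (p : ℕ) [Fact p.Prime] [CharP F p] :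
    Nat.card {g : ↥(D.group F) // ∃ k : ℕ, orderOf g = p ^ k} = Nat.card F ^ (2 * (D.nroots / 2)) := by
  classical
  haveI : Fintype F := Fintype.ofFinite F
  haveI : Finite (GL D.Idx F) := inferInstance
  obtain ⟨P, hB, hN, hS⟩ := exists_bnPair hc hcomm (F := F)
  obtain ⟨U, hU⟩ := ChevAut.sylow_pos hc hcomm (F := F) p
  have hel : ∀ i : Fin D.rank,
      (⟨elN D F (D.simple i.val) 1, elN_mem_group hc (simple_lt hc i.2) 1⟩ : ↥(D.group F)) ∈ P.S := fun i => by
    rw [hS]; exact ⟨i, i.2, coe_elN hc (simple_lt hc i.2) 1⟩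
  let el : Fin D.rank → P.S := fun i => ⟨_, hel i⟩
  have hel' : ∀ s : P.S, ∃ i : Fin D.rank, el i = s := by
    rintro ⟨s, hs⟩
    have hs' := hs
    rw [hS] at hs'
    obtain ⟨i, hi, hsi⟩ := hs'
    exact ⟨⟨i, hi⟩, Subtype.ext (Subtype.ext (by ext1; rw [hsi]; exact coe_elN hc (simple_lt hc hi) 1))⟩
  have hmemU : ∀ g : ↥(D.group F), g ∈ (U : Subgroup ↥(D.group F)) ↔
      (g : GL D.Idx F) ∈ uGen D F (fun r => D.nroots / 2 ≤ r) := fun g => by
    rw [hU, Subgroup.mem_subgroupOf]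
  have hmemB : ∀ g : ↥(D.group F), g ∈ P.B ↔ (g : GL D.Idx F) ∈ D.borelSubgroup F := fun g => by
    rw [hB, Subgroup.mem_subgroupOf]
  have hmemN : ∀ g : ↥(D.group F), g ∈ P.N ↔ (g : GL D.Idx F) ∈ D.monomialSubgroup F := fun g => by
    rw [hN, Subgroup.mem_subgroupOf]
  have hUB : (U : Subgroup ↥(D.group F)) ≤ P.B := fun g hg =>
    (hmemB g).2 (pos_le_borel hc ((hmemU g).1 hg))
  have hnorm : ∀ b ∈ P.B, ∀ u ∈ (U : Subgroup ↥(D.group F)), b * u * b⁻¹ ∈ (U : Subgroup ↥(D.group F)) := by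
    intro b hb u hu
    rw [hmemU] at hu ⊢
    exact borel_conj_pos hc ((hmemB b).1 hb) hu
  have hgen : ∀ b ∈ P.B, ∃ u ∈ (U : Subgroup ↥(D.group F)), ∃ h ∈ P.B ⊓ P.N, b = u * h := by
    intro b hb
    obtain ⟨u, hu, h, hh, e⟩ := (mem_borel hc).1 ((hmemB b).1 hb)
    exact ⟨⟨u, pos_le_group hc hu⟩, (hmemU _).2 hu, ⟨h, diagonal_le_group hc hh⟩,
      ⟨(hmemB _).2 (diagonal_le_borel hc hh), (hmemN _).2 (diagonal_le_monomial hc hh)⟩, Subtype.ext e⟩
  have key : ∀ (J : Finset P.S) (b : ↥(D.group F)), b ∈ (U : Subgroup ↥(D.group F)) →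
      (∀ n ∈ P.N, n ∈ BN.Pk P J → n⁻¹ * b * n ∈ P.B) →
      (b : GL D.Idx F) ∈ uGen D F (OutRoot D {j : ℕ | ∃ h : j < D.rank, el ⟨j, h⟩ ∈ J}) := by
    intro J b hb hfix
    refine mem_radical_of_conj hc hcomm ((hmemU b).1 hb) fun L hL => ?_
    let n : ↥(D.group F) := ⟨nProd D F L, monomial_le_group hc (nProd_mem_monomial hc L)⟩
    have hn : n ∈ P.N := (hmemN n).2 (nProd_mem_monomial hc L)
    have hnJ : n ∈ BN.Pk P J := by
      have e : n = (L.map fun i => ((el i : P.S) : ↥(D.group F))).prod := by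
        refine Subtype.ext ?_
        rw [SubmonoidClass.coe_list_prod, List.map_map]
        rfl
      rw [e]
      refine Subgroup.list_prod_mem _ fun y hy => ?_
      obtain ⟨i, hi, rfl⟩ := List.mem_map.1 hy
      obtain ⟨_, hJ⟩ := hL i hi
      exact BN.subset_parabolic P ⟨el i, Finset.mem_coe.2 hJ, rfl⟩
    have h := (hmemB _).1 (hfix n⁻¹ (inv_mem hn) (inv_mem hnJ))
    simpa [n] using h
  rw [BN.card_isPEl U hUB hnorm hgen ?_ ?_]
  · rw [hU, Nat.card_congr (Subgroup.subgroupOfEquivOfLe (ChevAut.up_le_group hc)).toEquiv,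
      card_uGen hc hcomm (closedPos_pos hc), ← pow_mul, Nat.card_eq_fintype_card, mul_comm 2]
    congr 2
    have h2 := nroots_eq_two_mul hc
    rw [← Finset.card_map Fin.valEmbedding]
    have e : (Finset.univ.filter fun r : Fin D.nroots => D.nroots / 2 ≤ r.val).map Fin.valEmbedding =
        Finset.Ico (D.nroots / 2) D.nroots := by
      ext r
      simp only [Finset.mem_map, Finset.mem_filter, Finset.mem_univ, true_and, Finset.mem_Ico,
        Fin.valEmbedding_apply]
      exact ⟨by rintro ⟨x, hx, rfl⟩; exact ⟨hx, x.2⟩, fun h => ⟨⟨r, h.2⟩, h.1, rfl⟩⟩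
    rw [e, Nat.card_Ico]
    omega
  · intro J b hb hfix h hh
    rw [hmemU]
    have hb' := key J b hb hfix
    set J' : Set ℕ := {j : ℕ | ∃ h : j < D.rank, el ⟨j, h⟩ ∈ J} with hJ'def
    have hle : BN.Pk P J ≤ (D.parabolicSubgroup F J').comap (D.group F).subtype := by
      refine sup_le (fun g hg => Subgroup.mem_sup_left ((hmemB g).1 hg)) ((Subgroup.closure_le _).2 ?_)
      rintro _ ⟨s, hs, rfl⟩
      obtain ⟨i, rfl⟩ := hel' s
      exact elN_mem_parabolic hc (J := J') ⟨i.2, hs⟩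
    have h2 := ((Subgroup.mem_normalizer_iff).1 (parabolic_normalizes_radical hc hcomm J' (hle hh))
      (b : GL D.Idx F)).1 hb'
    exact uGen_mono (fun r _ h => h.1) h2
  · intro b hb hfix
    haveI : Fintype P.S := Fintype.ofFinite _
    have hb' := key Finset.univ b hb fun n hn _ => hfix n hn
    have hempty : uGen D F (OutRoot D {j : ℕ | ∃ h : j < D.rank, el ⟨j, h⟩ ∈ Finset.univ}) = ⊥ := by
      rw [eq_bot_iff]
      refine uGen_le_iff.2 fun r hr hout t => ?_
      exfalso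
      refine hout.2 ((inRootSub_iff hc).2 ⟨hr, fun i hi => absurd ?_ hi⟩)
      exact ⟨i.2, Finset.mem_univ _⟩
    rw [hempty, Subgroup.mem_bot] at hb'
    exact Subtype.ext hb'

end

end CfsgLib.Chev
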