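import Cfsg.Agent.Lib.Chev.Group
/-
Unipotent subgroups: closed sets of positive roots, normal form as ordered products, triangularity.
-/
set_option autoImplicit false
set_option linter.unusedSectionVars false

namespace CfsgLib.Chev

open Cfsg.Lie
open scoped Matrix

variable {D : ChevalleyDatum} {T : Tabs} {F : Type*} [Field F]

/-- a set of positive roots closed under addition -/
def ClosedPos (D : ChevalleyDatum) (T : Tabs) (P : ℕ → Prop) : Prop :=
  (∀ r, r < D.nroots → P r → D.nroots / 2 ≤ r) ∧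
    ∀ r s v, r < D.nroots → s < D.nroots → P r → P s → CombRoot D T r s v → P v

open Classical in
/-- the roots of `P` from `k` on, in increasing order -/
noncomputable def rootsFrom (D : ChevalleyDatum) (P : ℕ → Prop) (k : ℕ) : List ℕ :=
  (List.range' k (D.nroots - k)).filter fun r => decide (P r)

/-- the ordered product ∏ x_r(t r) over a list of roots -/
noncomputable def uProd (D : ChevalleyDatum) (F : Type*) [Field F] (L : List ℕ) (t : ℕ → F) : GL D.Idx F :=
  (L.map fun r => elX D F r (t r)).prod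

theorem mem_rootsFrom {P : ℕ → Prop} {k r : ℕ} : r ∈ rootsFrom D P k ↔ k ≤ r ∧ r < D.nroots ∧ P r := by
  simp only [rootsFrom, List.mem_filter, List.mem_range'_1, decide_eq_true_eq]
  constructor
  · rintro ⟨⟨h1, h2⟩, h3⟩; exact ⟨h1, by omega, h3⟩
  · rintro ⟨h1, h2, h3⟩; exact ⟨⟨h1, by omega⟩, h3⟩

theorem rootsFrom_eq_cons {P : ℕ → Prop} {k : ℕ} (hk : k < D.nroots) (hP : P k) :
    rootsFrom D P k = k :: rootsFrom D P (k + 1) := by
  rw [rootsFrom, show D.nroots - k = (D.nroots - (k + 1)) + 1 by omega, List.range'_succ,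
    List.filter_cons_of_pos (by simpa using hP)]
  rfl

theorem rootsFrom_eq_skip {P : ℕ → Prop} {k : ℕ} (hk : k < D.nroots) (hP : ¬ P k) :
    rootsFrom D P k = rootsFrom D P (k + 1) := by
  rw [rootsFrom, show D.nroots - k = (D.nroots - (k + 1)) + 1 by omega, List.range'_succ,
    List.filter_cons_of_neg (by simpa using hP)]
  rfl

theorem rootsFrom_ge {P : ℕ → Prop} {k : ℕ} (hk : D.nroots ≤ k) : rootsFrom D P k = [] := by
  rw [rootsFrom, show D.nroots - k = 0 by omega]; simp

theorem uProd_congr {L : List ℕ} {t t' : ℕ → F} (h : ∀ r ∈ L, t r = t' r) : uProd D F L t = uProd D F L t' := by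
  rw [uProd, uProd]; congr 1
  exact List.map_congr_left fun r hr => by rw [h r hr]

/-- entries off the diagonal raise the functional `f` by at least `d` -/
def Raises (D : ChevalleyDatum) (T : Tabs) (f : (Fin D.rank → ℤ) → ℤ) (d : ℤ) (M : Matrix D.Idx D.Idx F) : Prop :=
  ∀ x y, M x y ≠ (1 : Matrix D.Idx D.Idx F) x y → f (wI D T y) + d ≤ f (wI D T x)

theorem Raises.one {f : (Fin D.rank → ℤ) → ℤ} {d : ℤ} : Raises D T f d (1 : Matrix D.Idx D.Idx F) :=
  fun _ _ h => absurd rfl h

theorem Raises.mul {f : (Fin D.rank → ℤ) → ℤ} {d : ℤ} (hd : 0 ≤ d) {M N : Matrix D.Idx D.Idx F}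
    (hM : Raises D T f d M) (hN : Raises D T f d N) : Raises D T f d (M * N) := by
  intro x y h
  by_contra hh
  apply h
  rw [Matrix.mul_apply, Finset.sum_eq_single x]
  · by_cases hxy : x = y
    · subst hxy
      have h1 : M x x = 1 := by by_contra hne; exact hh (hM x x (by rwa [Matrix.one_apply_eq]))
      have h2 : N x x = 1 := by by_contra hne; exact hh (hN x x (by rwa [Matrix.one_apply_eq]))
      rw [h1, h2, mul_one, Matrix.one_apply_eq]
    · have h2 : N x y = 0 := by by_contra hne; exact hh (hN x y (by rwa [Matrix.one_apply_ne hxy]))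
      rw [h2, mul_zero, Matrix.one_apply_ne hxy]
  · intro z _ hz
    by_cases h1 : M x z = 0
    · rw [h1, zero_mul]
    by_cases h2 : N z y = 0
    · rw [h2, mul_zero]
    exfalso
    have g1 := hM x z (by rwa [Matrix.one_apply_ne (Ne.symm hz)])
    by_cases hzy : z = y
    · subst hzy; exact hh g1
    · have g2 := hN z y (by rwa [Matrix.one_apply_ne hzy])
      exact hh (by omega)
  · simp

section
variable (hc : Checked D T)
include hc

theorem raises_elX {f : (Fin D.rank → ℤ) → ℤ} (hf : ∀ v w, f (v + w) = f v + f w)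
    (hf' : ∀ (c : ℤ) v, f (c • v) = c * f v) {d : ℤ} {r : ℕ} (hr : r < D.nroots) (hd : 0 ≤ d) (hdr : d ≤ f (rv D T r))
    (t : F) : Raises D T f d ((elX D F r t : GL D.Idx F) : Matrix D.Idx D.Idx F) := by
  intro x y h
  rw [coe_elX hc F hr, xMat_eq hc F hr] at h
  by_contra hh
  apply h
  have hz : ∀ k, k = 1 ∨ k = 2 ∨ k = 3 → tabMat D T k r x y = 0 := by
    intro k hk
    by_contra hne
    have hw := weight_spec hc hk (by omega) hne
    rw [hw, hf, hf'] at hh
    have : (1 : ℤ) ≤ (k : ℤ) := by rcases hk with rfl | rfl | rfl <;> norm_num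
    nlinarith
  simp only [xTab, Matrix.add_apply, Matrix.smul_apply, Matrix.map_apply, hz 1 (Or.inl rfl),
    hz 2 (Or.inr (Or.inl rfl)), hz 3 (Or.inr (Or.inr rfl))]
  simp

/-- a group of root elements raising `f` -/
theorem raises_uGen {f : (Fin D.rank → ℤ) → ℤ} (hf : ∀ v w, f (v + w) = f v + f w)
    (hf' : ∀ (c : ℤ) v, f (c • v) = c * f v) {d : ℤ} (hd : 0 ≤ d) {P : ℕ → Prop}
    (hP : ∀ r, r < D.nroots → P r → d ≤ f (rv D T r)) {g : GL D.Idx F} (hg : g ∈ uGen D F P) :
    Raises D T f d (g : Matrix D.Idx D.Idx F) := by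
  have key : Raises D T f d (g : Matrix D.Idx D.Idx F) ∧ Raises D T f d ((g⁻¹ : GL D.Idx F) : Matrix D.Idx D.Idx F) := by
    induction hg using Subgroup.closure_induction with
    | mem x hx =>
        obtain ⟨r, t, hr, hPr, rfl⟩ := hx
        rw [elX_inv hc F hr]
        exact ⟨raises_elX hc hf hf' hr hd (hP r hr hPr) t, raises_elX hc hf hf' hr hd (hP r hr hPr) _⟩
    | one => rw [inv_one, Units.val_one]; exact ⟨Raises.one, Raises.one⟩
    | mul x y _ _ hx hy =>
        rw [mul_inv_rev, Units.val_mul, Units.val_mul]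
        exact ⟨hx.1.mul hd hy.1, hy.2.mul hd hx.2⟩
    | inv x _ hx => rw [inv_inv]; exact ⟨hx.2, hx.1⟩
  exact key.1

theorem closedPos_pos : ClosedPos D T (fun r => D.nroots / 2 ≤ r) := by
  refine ⟨fun _ _ h => h, fun r s v hr hs h1 h2 ⟨hv, i, j, hi, hj, e⟩ => ?_⟩
  dsimp only at h1 h2 ⊢
  rw [← key_pos_iff hc hv, e, keyLin_add, keyLin_smul, keyLin_smul]
  have := (key_pos_iff hc hr).2 h1; have := (key_pos_iff hc hs).2 h2
  positivity

theorem combRoot_gt {r s v : ℕ} (hr : r < D.nroots) (hs : s < D.nroots) (h1 : D.nroots / 2 ≤ r)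
    (h2 : D.nroots / 2 ≤ s) (h : CombRoot D T r s v) : r < v ∧ s < v := by
  obtain ⟨hv, i, j, hi, hj, e⟩ := h
  have := (key_pos_iff hc hr).2 h1; have := (key_pos_iff hc hs).2 h2
  rw [← key_lt_iff hc hr hv, ← key_lt_iff hc hs hv, e, keyLin_add, keyLin_smul, keyLin_smul]
  have hi' : (1 : ℤ) ≤ (i : ℤ) := by exact_mod_cast hi
  have hj' : (1 : ℤ) ≤ (j : ℤ) := by exact_mod_cast hj
  constructor <;> nlinarith

theorem ne_neg_of_pos {r s : ℕ} (hr : r < D.nroots) (h1 : D.nroots / 2 ≤ r) (h2 : D.nroots / 2 ≤ s) :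
    s ≠ D.neg r := by
  have := neg_eq hc hr; have := nroots_eq_two_mul hc; omega

variable (hcomm : CommOne D T)
include hcomm

theorem uGen_normal_form {P : ℕ → Prop} (hP : ClosedPos D T P) (k : ℕ) {g : GL D.Idx F}
    (hg : g ∈ uGen D F (fun r => P r ∧ k ≤ r)) : ∃ t, g = uProd D F (rootsFrom D P k) t := by
  suffices h : ∀ d k, D.nroots - k = d → ∀ g ∈ uGen D F (fun r => P r ∧ k ≤ r),
      ∃ t, g = uProd D F (rootsFrom D P k) t from h _ k rfl g hg
  intro d
  induction d with
  | zero =>
      intro k hk g hg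
      refine ⟨fun _ => 0, ?_⟩
      have hb : uGen D F (fun r => P r ∧ k ≤ r) = ⊥ := by
        rw [eq_bot_iff, uGen_le_iff]; intro r hr ⟨_, h⟩; omega
      rw [hb, Subgroup.mem_bot] at hg
      rw [hg, rootsFrom_ge (by omega)]; rfl
  | succ d ih =>
      intro k hk g hg
      by_cases hPk : P k
      · have hkn : k < D.nroots := by omega
        have hnorm : ∀ a : F, elX D F k a ∈
            Subgroup.normalizer (uGen D F (fun r => P r ∧ k + 1 ≤ r) : Set (GL D.Idx F)) :=
          elX_mem_normalizer hc hcomm hkn fun s hs ⟨hPs, hks⟩ _ =>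
            ⟨ne_neg_of_pos hc hkn (hP.1 k hkn hPk) (hP.1 s hs hPs), fun v hv =>
              ⟨hP.2 k s v hkn hs hPk hPs hv, (combRoot_gt hc hkn hs (hP.1 k hkn hPk) (hP.1 s hs hPs) hv).1⟩⟩
        have hform : ∃ a v, v ∈ uGen D F (fun r => P r ∧ k + 1 ≤ r) ∧ g = elX D F k a * v := by
          induction hg using Subgroup.closure_induction with
          | mem x hx =>
              obtain ⟨r, a, hr, ⟨hPr, hkr⟩, rfl⟩ := hx
              by_cases e : r = k
              · subst e; exact ⟨a, 1, one_mem _, (mul_one _).symm⟩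
              · exact ⟨0, elX D F r a, elX_mem_uGen hr ⟨hPr, by omega⟩ a, by rw [elX_zero hc F hkn, one_mul]⟩
          | one => exact ⟨0, 1, one_mem _, by rw [elX_zero hc F hkn, one_mul]⟩
          | mul x y _ _ hx hy =>
              obtain ⟨a, v, hv, rfl⟩ := hx; obtain ⟨b, w, hw, rfl⟩ := hy
              refine ⟨a + b, (elX D F k b)⁻¹ * v * elX D F k b * w, mul_mem ?_ hw, by
                rw [← elX_add hc F hkn]; group⟩
              exact ((Subgroup.mem_normalizer_iff'').1 (hnorm b) v).1 hv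
          | inv x _ hx =>
              obtain ⟨a, v, hv, rfl⟩ := hx
              refine ⟨-a, elX D F k a * v⁻¹ * (elX D F k a)⁻¹, ?_, by rw [← elX_inv hc F hkn]; group⟩
              exact ((Subgroup.mem_normalizer_iff).1 (hnorm a) _).1 (inv_mem hv)
        obtain ⟨a, v, hv, rfl⟩ := hform
        obtain ⟨t, rfl⟩ := ih (k + 1) (by omega) v hv
        classical
        refine ⟨Function.update t k a, ?_⟩
        rw [rootsFrom_eq_cons hkn hPk, uProd, uProd, List.map_cons, List.prod_cons, Function.update_self]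
        congr 2
        exact List.map_congr_left fun r hr => by
          rw [Function.update_of_ne]; have := (mem_rootsFrom.1 hr).1; omega
      · rw [rootsFrom_eq_skip (by omega) hPk]
        refine ih (k + 1) (by omega) g (uGen_mono ?_ hg)
        rintro r hr ⟨h1, h2⟩
        refine ⟨h1, ?_⟩
        rcases Nat.lt_or_ge k r with h | h
        · omega
        · have : r = k := by omega
          exact absurd (this ▸ h1) hPk

omit hcomm

theorem uProd_mem {P : ℕ → Prop} (k : ℕ) (t : ℕ → F) :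
    uProd D F (rootsFrom D P k) t ∈ uGen D F (fun r => P r ∧ k ≤ r) := by
  refine Subgroup.list_prod_mem _ fun g hg => ?_
  obtain ⟨r, hr, rfl⟩ := List.mem_map.1 hg
  obtain ⟨h1, h2, h3⟩ := mem_rootsFrom.1 hr
  exact elX_mem_uGen h2 ⟨h3, h1⟩ _

/-- the coordinate at the least root can be read off from the matrix -/
theorem coord_eq {k : ℕ} (hk : k < D.nroots) (hkp : D.nroots / 2 ≤ k) (a : F) {v : GL D.Idx F}
    (hv : v ∈ uGen D F (fun r => k < r)) (j : Fin D.rank) :
    ((elX D F k a * v : GL D.Idx F) : Matrix D.Idx D.Idx F) (Sum.inl j) (Sum.inr ⟨D.neg k, neg_lt hc hk⟩) =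
      (cv T k j : F) * a := by
  set y : D.Idx := Sum.inr ⟨D.neg k, neg_lt hc hk⟩ with hy
  have hkey : keyLin D (wI D T y) = -keyLin D (rv D T k) := by rw [hy, wI_inr, rv_neg hc hk, keyLin_neg]
  have hpos := (key_pos_iff hc hk).2 hkp
  have hR := raises_uGen hc (keyLin_add (D := D)) (keyLin_smul (D := D)) (d := keyLin D (rv D T k) + 1) (by omega)
    (fun r hr hkr => by have := (key_lt_iff hc hk hr).2 hkr; omega) hv
  have hne : ∀ z : D.Idx, (v : Matrix D.Idx D.Idx F) z y ≠ (1 : Matrix D.Idx D.Idx F) z y →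
      1 ≤ keyLin D (wI D T z) := fun z hz => by have := hR z y hz; omega
  rw [Units.val_mul, Matrix.mul_apply, Finset.sum_eq_single y]
  · have h1 : (v : Matrix D.Idx D.Idx F) y y = 1 := by
      by_contra h; have := hne y (by rwa [Matrix.one_apply_eq]); omega
    rw [h1, mul_one, coe_elX hc F hk, xMat_eq hc F hk]
    simp only [xTab, Matrix.add_apply, Matrix.smul_apply, Matrix.map_apply, tabMat_apply, tabK_one, tabK_two,
      tabK_three, hy, cd_inr, cd_inl, field_t1 hc hk (neg_lt hc hk), field_t2 hc hk, field_t3 hc hk,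
      chainEntry_neg hc hk, if_true, decCode_marker,
      decCode_encNZ (show (-7 : ℤ) ≤ -1 by norm_num) (show (-1 : ℤ) ≤ 7 by norm_num), coeffAt_corVec]
    rw [if_pos (show D.nroots ≤ D.nroots + j.val ∧ D.nroots + j.val < D.nroots + D.rank by omega),
      Nat.add_sub_cancel_left]
    simp [optCode, coeffAt_cons, show k ≠ D.nroots + j.val by omega, mul_comm]
  · intro z _ hz
    by_cases h2 : (v : Matrix D.Idx D.Idx F) z y = 0
    · rw [h2, mul_zero]
    have g := hne z (by rwa [Matrix.one_apply_ne hz])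
    have hzl : (Sum.inl j : D.Idx) ≠ z := fun e => by rw [← e, wI_inl, keyLin_zero] at g; omega
    have hx := raises_elX hc (keyLin_add (D := D)) (keyLin_smul (D := D)) hk (d := 0) le_rfl (by omega) a
      (Sum.inl j) z
    by_contra hne'
    have := hx (by rw [Matrix.one_apply_ne hzl]; exact left_ne_zero_of_mul hne')
    rw [wI_inl, keyLin_zero] at this; omega
  · simp

theorem uProd_inj {P : ℕ → Prop} (hpos : ∀ r, r < D.nroots → P r → D.nroots / 2 ≤ r) (k : ℕ) {t t' : ℕ → F}
    (h : uProd D F (rootsFrom D P k) t = uProd D F (rootsFrom D P k) t') :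
    ∀ r ∈ rootsFrom D P k, t r = t' r := by
  suffices key : ∀ d k, D.nroots - k = d → uProd D F (rootsFrom D P k) t = uProd D F (rootsFrom D P k) t' →
      ∀ r ∈ rootsFrom D P k, t r = t' r from key _ k rfl h
  intro d
  induction d with
  | zero => intro k hk _ r hr; rw [rootsFrom_ge (by omega)] at hr; simp at hr
  | succ d ih =>
      intro k hk h r hr
      by_cases hPk : P k
      · have hkn : k < D.nroots := by omega
        rw [rootsFrom_eq_cons hkn hPk] at h hr
        rw [uProd, uProd, List.map_cons, List.map_cons, List.prod_cons, List.prod_cons] at h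
        obtain ⟨j, hj⟩ := exists_cv_ne_zero hc F hkn
        have hm : ∀ u : ℕ → F, uProd D F (rootsFrom D P (k + 1)) u ∈ uGen D F (fun r => k < r) :=
          fun u => uGen_mono (fun r _ hr => hr.2) (uProd_mem hc (k + 1) u)
        have e := congrArg (fun g : GL D.Idx F =>
          (g : Matrix D.Idx D.Idx F) (Sum.inl j) (Sum.inr ⟨D.neg k, neg_lt hc hkn⟩)) h
        erw [coord_eq hc hkn (hpos k hkn hPk) _ (hm t) j, coord_eq hc hkn (hpos k hkn hPk) _ (hm t') j] at e
        have hk' : t k = t' k := mul_left_cancel₀ hj e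
        rcases List.mem_cons.1 hr with rfl | hr
        · exact hk'
        · rw [hk'] at h
          exact ih (k + 1) (by omega) (mul_left_cancel h) r hr
      · rw [rootsFrom_eq_skip (by omega) hPk] at h hr
        exact ih (k + 1) (by omega) h r hr

theorem mem_uGen_of_uProd {P : ℕ → Prop} (t : ℕ → F) :
    uProd D F (rootsFrom D P 0) t ∈ uGen D F P :=
  uGen_mono (fun _ _ h => h.1) (uProd_mem hc 0 t)

include hcomm

theorem uGen_exists {P : ℕ → Prop} (hP : ClosedPos D T P) {g : GL D.Idx F} (hg : g ∈ uGen D F P) :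
    ∃ t, g = uProd D F (rootsFrom D P 0) t :=
  uGen_normal_form hc hcomm hP 0 (uGen_mono (fun _ _ h => ⟨h, Nat.zero_le _⟩) hg)

/-- a group of root elements of a closed set is split by a partition into two closed sets -/
theorem uGen_split {P Q R : ℕ → Prop} (hP : ClosedPos D T P) (hcover : ∀ r, r < D.nroots → P r → Q r ∨ R r)
    {g : GL D.Idx F} (hg : g ∈ uGen D F P) :
    ∃ a ∈ uGen D F Q, ∃ b ∈ uGen D F R, g = a * b := by
  have key : ∀ k, ∃ a ∈ uGen D F Q, ∃ c ∈ uGen D F (fun r => P r ∧ k ≤ r), ∃ b ∈ uGen D F R, g = a * c * b := by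
    intro k
    induction k with
    | zero => exact ⟨1, one_mem _, g, uGen_mono (fun _ _ h => ⟨h, Nat.zero_le _⟩) hg, 1, one_mem _, by group⟩
    | succ k ih =>
        obtain ⟨a, ha, c, hcm, b, hb, rfl⟩ := ih
        obtain ⟨t, rfl⟩ := uGen_normal_form hc hcomm hP k hcm
        by_cases hk : k < D.nroots ∧ P k
        · obtain ⟨hkn, hPk⟩ := hk
          have hv : uProd D F (rootsFrom D P (k + 1)) t ∈ uGen D F (fun r => P r ∧ k + 1 ≤ r) := uProd_mem hc _ _
          have e : uProd D F (rootsFrom D P k) t = elX D F k (t k) * uProd D F (rootsFrom D P (k + 1)) t := by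
            rw [rootsFrom_eq_cons hkn hPk, uProd, List.map_cons, List.prod_cons]; rfl
          rcases hcover k hkn hPk with hq | hr
          · exact ⟨a * elX D F k (t k), mul_mem ha (elX_mem_uGen hkn hq _), _, hv, b, hb, by rw [e]; group⟩
          · have hn := elX_mem_normalizer hc hcomm hkn (P := fun r => P r ∧ k + 1 ≤ r)
              (fun s hs ⟨hPs, hks⟩ _ => ⟨ne_neg_of_pos hc hkn (hP.1 k hkn hPk) (hP.1 s hs hPs), fun v hv =>
                ⟨hP.2 k s v hkn hs hPk hPs hv, (combRoot_gt hc hkn hs (hP.1 k hkn hPk) (hP.1 s hs hPs) hv).1⟩⟩) (t k)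
            exact ⟨a, ha, _, ((Subgroup.mem_normalizer_iff).1 hn _).1 hv, elX D F k (t k) * b,
              mul_mem (elX_mem_uGen hkn hr _) hb, by rw [e]; group⟩
        · refine ⟨a, ha, _, ?_, b, hb, rfl⟩
          exact uGen_mono (fun r hr ⟨h1, h2⟩ => ⟨h1, by
            rcases Nat.lt_or_ge k r with h | h
            · omega
            · have : r = k := by omega
              exact absurd ⟨this ▸ hr, this ▸ h1⟩ hk⟩) hcm
  obtain ⟨a, ha, c, hcm, b, hb, rfl⟩ := key D.nroots
  have hb' : uGen D F (fun r => P r ∧ D.nroots ≤ r) = ⊥ := by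
    rw [eq_bot_iff, uGen_le_iff]; intro r hr ⟨_, h⟩; omega
  rw [hb', Subgroup.mem_bot] at hcm
  exact ⟨a, ha, b, hb, by rw [hcm, mul_one]⟩

end

end CfsgLib.Chev
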