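import Cfsg.Agent.Lib.Chev.RootElem
/-
Root coordinates, weights of matrix entries, order of the roots, reflections in the fundamental roots.
-/
set_option autoImplicit false

namespace CfsgLib.Chev

open Cfsg.Lie Matrix

variable {D : ChevalleyDatum} {T : Tabs}

/-- coordinates of root `a` on the fundamental roots (zero if out of range) -/
noncomputable def rv (D : ChevalleyDatum) (T : Tabs) (a : ℕ) : Fin D.rank → ℤ := fun j => wt D T a j

/-- the weight of a basis vector -/
noncomputable def wI (D : ChevalleyDatum) (T : Tabs) (x : D.Idx) : Fin D.rank → ℤ := rv D T (cd D x)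

/-- a linear functional ordering the roots like their indices -/
def keyLin (D : ChevalleyDatum) (v : Fin D.rank → ℤ) : ℤ := ∑ j, v j * 16 ^ (D.rank - 1 - j.val)

/-- the Cartan matrix -/
def cm (D : ChevalleyDatum) (i j : Fin D.rank) : ℤ := D.cartan i (D.simple j)

/-- the reflection in fundamental root `i` -/
def refl (D : ChevalleyDatum) (i : Fin D.rank) (v : Fin D.rank → ℤ) : Fin D.rank → ℤ :=
  v - Pi.single i (∑ j, cm D i j * v j)

theorem keyLin_add (v w : Fin D.rank → ℤ) : keyLin D (v + w) = keyLin D v + keyLin D w := by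
  simp [keyLin, add_mul, Finset.sum_add_distrib]

theorem keyLin_smul (c : ℤ) (v : Fin D.rank → ℤ) : keyLin D (c • v) = c * keyLin D v := by
  simp [keyLin, Finset.mul_sum, mul_assoc]

theorem keyLin_zero : keyLin D 0 = 0 := by simp [keyLin]

theorem keyLin_neg (v : Fin D.rank → ℤ) : keyLin D (-v) = -keyLin D v := by simp [keyLin]

theorem horner_eq (f : ℕ → ℤ) (l : ℕ) :
    (Nat.rec (motive := fun _ => ℤ) 0 (fun i ih => ih * 16 + f i) l : ℤ) = ∑ j : Fin l, f j * 16 ^ (l - 1 - j.val) := by
  induction l with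
  | zero => simp
  | succ k ih =>
      show (Nat.rec (motive := fun _ => ℤ) 0 (fun i ih => ih * 16 + f i) k : ℤ) * 16 + f k = _
      rw [ih, Fin.sum_univ_castSucc, Finset.sum_mul]
      congr 1
      · refine Finset.sum_congr rfl fun j _ => ?_
        simp only [Fin.val_castSucc]
        rw [mul_assoc, ← pow_succ]
        congr 2; omega
      · simp

theorem keyLin_rv (a : ℕ) : keyLin D (rv D T a) = keyZ D T a := (horner_eq (fun i => wt D T a i) D.rank).symm

theorem pairSum_eq (v f : ℕ → ℤ) : pairSum D v f = ∑ j : Fin D.rank, v j * f j := by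
  unfold pairSum
  generalize D.rank = l
  induction l with
  | zero => simp
  | succ k ih =>
      show (Nat.rec (motive := fun _ => ℤ) 0 (fun j ih => Int.add ih (Int.mul (v j) (f j))) k : ℤ) + v k * f k = _
      rw [ih, Fin.sum_univ_castSucc]; rfl

theorem rv_ge {a : ℕ} (h : D.nroots ≤ a) : rv D T a = 0 := by
  funext j; rw [rv, wt, cond_blt, if_neg (by omega)]; rfl

@[simp] theorem wI_inl (i : Fin D.rank) : wI D T (Sum.inl i) = 0 := rv_ge (by simp)

@[simp] theorem wI_inr (u : Fin D.nroots) : wI D T (Sum.inr u) = rv D T u.val := rfl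

theorem refl_add (i : Fin D.rank) (v w : Fin D.rank → ℤ) : refl D i (v + w) = refl D i v + refl D i w := by
  simp only [refl, Pi.add_apply, mul_add, Finset.sum_add_distrib, Pi.single_add]; abel

theorem refl_smul (i : Fin D.rank) (c : ℤ) (v : Fin D.rank → ℤ) : refl D i (c • v) = c • refl D i v := by
  have h : ∑ j, cm D i j * (c • v) j = c * ∑ j, cm D i j * v j := by
    rw [Finset.mul_sum]
    exact Finset.sum_congr rfl fun j _ => by simp [mul_left_comm]
  funext j
  rw [refl, refl, h]
  simp only [Pi.sub_apply, Pi.smul_apply, smul_eq_mul, Pi.single_apply]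
  split <;> ring

theorem refl_zero (i : Fin D.rank) : refl D i 0 = 0 := by simp [refl]

section
variable (hc : Checked D T)
include hc

theorem keyZ_strictMono {a b : ℕ} (hab : a < b) (hb : b < D.nroots) : keyZ D T a < keyZ D T b := by
  induction b with
  | zero => omega
  | succ k ih =>
      have h1 := (root_spec hc (show k < D.nroots by omega)).1 hb
      rcases Nat.lt_succ_iff_lt_or_eq.1 hab with h | h
      · exact (ih h (by omega)).trans h1
      · subst h; exact h1

theorem key_lt_iff {a b : ℕ} (ha : a < D.nroots) (hb : b < D.nroots) :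
    keyLin D (rv D T a) < keyLin D (rv D T b) ↔ a < b := by
  rw [keyLin_rv, keyLin_rv]
  refine ⟨fun h => ?_, fun h => keyZ_strictMono hc h hb⟩
  by_contra hh
  rcases (not_lt.1 hh).eq_or_lt with rfl | h'
  · omega
  · exact absurd (keyZ_strictMono hc h' ha) (by omega)

theorem rv_inj {a b : ℕ} (ha : a < D.nroots) (hb : b < D.nroots) (h : rv D T a = rv D T b) : a = b := by
  rcases lt_trichotomy a b with hh | hh | hh
  · exact absurd ((key_lt_iff hc ha hb).2 hh) (by rw [h]; omega)
  · exact hh
  · exact absurd ((key_lt_iff hc hb ha).2 hh) (by rw [h]; omega)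

theorem key_pos_iff {a : ℕ} (ha : a < D.nroots) : 0 < keyLin D (rv D T a) ↔ D.nroots / 2 ≤ a := by
  rw [keyLin_rv]
  refine ⟨fun h => ?_, (root_spec hc ha).2.2.1⟩
  by_contra hh
  have := (root_spec hc ha).2.1 (by omega); omega

theorem key_neg_iff {a : ℕ} (ha : a < D.nroots) : keyLin D (rv D T a) < 0 ↔ a < D.nroots / 2 := by
  rw [keyLin_rv]
  refine ⟨fun h => ?_, (root_spec hc ha).2.1⟩
  by_contra hh
  have := (root_spec hc ha).2.2.1 (by omega); omega

theorem rv_ne_zero {a : ℕ} (ha : a < D.nroots) : rv D T a ≠ 0 := by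
  intro h
  have h1 := key_pos_iff hc ha
  have h2 := key_neg_iff hc ha
  rw [h, keyLin_zero] at h1 h2
  simp at h1 h2; omega

theorem rv_neg {a : ℕ} (ha : a < D.nroots) : rv D T (D.neg a) = -rv D T a := by
  funext j; exact ((root_spec hc ha).2.2.2.2 j j.2).2.2.1

theorem rv_simple (i : Fin D.rank) : rv D T (D.simple i) = Pi.single i 1 := by
  funext j
  rw [rv, wt_simple hc i.2 j.2, Pi.single_apply]
  exact if_congr ⟨fun h => Fin.ext h.symm, fun h => by rw [h]⟩ rfl rfl

theorem isPosRoot_iff {r : ℕ} : D.IsPosRoot r ↔ r < D.nroots ∧ D.nroots / 2 ≤ r := by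
  constructor
  · rintro ⟨hr, h⟩
    refine ⟨hr, ?_⟩
    by_contra hh
    obtain ⟨i, hi, hne⟩ := (root_spec hc hr).2.2.2.1
    have hle := (((root_spec hc hr).2.2.2.2 i hi).1 (by omega)).1
    have hsz := coroot_size hc hr
    have hl : i < (D.coroot.getD r #[]).toList.length := by rw [Array.length_toList]; omega
    have := h _ (List.getElem_mem hl)
    rw [← List.getD_eq_getElem _ 0 hl, ← array_getD_eq, coroot_eq hc hr hi] at this
    omega
  · rintro ⟨hr, hh⟩
    refine ⟨hr, fun c hmem => ?_⟩
    obtain ⟨i, hl, rfl⟩ := List.mem_iff_getElem.1 hmem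
    have hi : i < D.rank := by rw [Array.length_toList, coroot_size hc hr] at hl; exact hl
    rw [← List.getD_eq_getElem _ 0 hl, ← array_getD_eq, coroot_eq hc hr hi]
    exact (((root_spec hc hr).2.2.2.2 i hi).2.1 hh).1

theorem isNegRoot_iff {r : ℕ} : D.IsNegRoot r ↔ r < D.nroots / 2 := by
  constructor
  · rintro ⟨hr, h⟩
    by_contra hh
    obtain ⟨i, hi, hne⟩ := (root_spec hc hr).2.2.2.1
    have hle := (((root_spec hc hr).2.2.2.2 i hi).2.1 (by omega)).1
    have hsz := coroot_size hc hr
    have hl : i < (D.coroot.getD r #[]).toList.length := by rw [Array.length_toList]; omega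
    have := h _ (List.getElem_mem hl)
    rw [← List.getD_eq_getElem _ 0 hl, ← array_getD_eq, coroot_eq hc hr hi] at this
    omega
  · intro hh
    have hr : r < D.nroots := by have := Nat.div_le_self D.nroots 2; omega
    refine ⟨hr, fun c hmem => ?_⟩
    obtain ⟨i, hl, rfl⟩ := List.mem_iff_getElem.1 hmem
    have hi : i < D.rank := by rw [Array.length_toList, coroot_size hc hr] at hl; exact hl
    rw [← List.getD_eq_getElem _ 0 hl, ← array_getD_eq, coroot_eq hc hr hi]
    exact (((root_spec hc hr).2.2.2.2 i hi).1 hh).1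

theorem inRootSub_iff {J : Set ℕ} {r : ℕ} :
    D.InRootSub J r ↔ r < D.nroots ∧ ∀ i : Fin D.rank, (i : ℕ) ∉ J → rv D T r i = 0 := by
  constructor
  · rintro ⟨hr, h⟩
    refine ⟨hr, fun i hi => ?_⟩
    have := h i i.2 hi
    rw [coroot_eq hc hr i.2] at this
    exact ((root_spec hc hr).2.2.2.2 i i.2).2.2.2.2.1 this
  · rintro ⟨hr, h⟩
    refine ⟨hr, fun i hi hJ => ?_⟩
    rw [coroot_eq hc hr hi]
    exact ((root_spec hc hr).2.2.2.2 i hi).2.2.2.2.2 (h ⟨i, hi⟩ hJ)

theorem cartan_linear (i : Fin D.rank) {c : ℕ} (hcn : c < D.nroots) :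
    D.cartan i c = ∑ j, cm D i j * rv D T c j := by
  have h := allNat_iff.1 hc.lin c hcn
  rw [cond_false_iff] at h
  have h2 := allNat_iff.1 h.2 i i.2
  rw [decide_eq_true_iff, pairSum_eq, cval_eq hc i.2 hcn] at h2
  rw [h2]
  exact Finset.sum_congr rfl fun j _ => by rw [cval_eq hc i.2 (simple_lt hc j.2), mul_comm]; rfl

theorem coroot_pair_self {c : ℕ} (hcn : c < D.nroots) : ∑ i : Fin D.rank, cv T c i * D.cartan i c = 2 := by
  have h := allNat_iff.1 hc.lin c hcn
  rw [cond_false_iff, decide_eq_true_iff, pairSum_eq] at h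
  rw [← h.1]
  exact Finset.sum_congr rfl fun i _ => by rw [cval_eq hc i.2 hcn]

theorem cm_self (i : Fin D.rank) : cm D i i = 2 := by
  have h := coroot_pair_self hc (simple_lt hc i.2)
  rw [Finset.sum_eq_single i] at h
  · rw [cv_simple hc i.2 i.2, if_pos rfl, one_mul] at h; exact h
  · intro j _ hj; rw [cv_simple hc i.2 j.2, if_neg (fun hh => hj (Fin.ext hh.symm)), zero_mul]
  · simp

theorem refl_refl (i : Fin D.rank) (v : Fin D.rank → ℤ) : refl D i (refl D i v) = v := by
  have h : ∑ j, cm D i j * refl D i v j = -∑ j, cm D i j * v j := by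
    simp only [refl, Pi.sub_apply, mul_sub, Finset.sum_sub_distrib, Pi.single_apply, mul_ite, mul_zero,
      Finset.sum_ite_eq', Finset.mem_univ, if_true, cm_self hc]
    ring
  conv_lhs => rw [refl, h]
  rw [refl, Pi.single_neg]; abel

theorem refl_spec (i : Fin D.rank) {s : ℕ} (hs : s < D.nroots) :
    sigOK D T i s = true ∧ sig D T i s < D.nroots ∧ rv D T (sig D T i s) = refl D i (rv D T s) ∧
      ∀ j : Fin D.rank, cv T (sig D T i s) j =
        cv T s j - if j = i then ∑ k : Fin D.rank, cv T s k * cm D k i else 0 := by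
  have h := allNat_iff.1 (allNat_iff.1 hc.refl i i.2) s hs
  simp only [cond_false_iff, nat_blt_iff, allNat_iff, decide_eq_true_iff] at h
  obtain ⟨h1, h2, h3⟩ := h
  refine ⟨h1, h2, funext fun j => ?_, fun j => ?_⟩
  · rw [rv, (h3 j j.2).1, cval_eq hc i.2 hs, cartan_linear hc i hs, cond_beq, refl, Pi.sub_apply, Pi.single_apply]
    by_cases hh : (i : ℕ) = j
    · rw [if_pos hh, if_pos (Fin.ext hh.symm)]; rfl
    · rw [if_neg hh, if_neg (fun h => hh (by rw [h]))]; simp [rv]
  · rw [(h3 j j.2).2, cond_beq, pairSum_eq]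
    by_cases hh : (i : ℕ) = j
    · rw [if_pos hh, if_pos (Fin.ext hh.symm)]
      show (cv T s j - _ : ℤ) = _
      congr 1
      exact Finset.sum_congr rfl fun k _ => by rw [cval_eq hc k.2 (simple_lt hc i.2)]; rfl
    · rw [if_neg hh, if_neg (fun h => hh (by rw [h]))]; simp

theorem sig_lt (i : Fin D.rank) {s : ℕ} (hs : s < D.nroots) : sig D T i s < D.nroots := (refl_spec hc i hs).2.1

theorem rv_sig (i : Fin D.rank) {s : ℕ} (hs : s < D.nroots) : rv D T (sig D T i s) = refl D i (rv D T s) :=
  (refl_spec hc i hs).2.2.1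

theorem sig_sig (i : Fin D.rank) {s : ℕ} (hs : s < D.nroots) : sig D T i (sig D T i s) = s :=
  rv_inj hc (sig_lt hc i (sig_lt hc i hs)) hs (by rw [rv_sig hc i (sig_lt hc i hs), rv_sig hc i hs, refl_refl hc])

theorem sig_neg (i : Fin D.rank) {s : ℕ} (hs : s < D.nroots) : sig D T i (D.neg s) = D.neg (sig D T i s) := by
  refine rv_inj hc (sig_lt hc i (neg_lt hc hs)) (neg_lt hc (sig_lt hc i hs)) ?_
  rw [rv_sig hc i (neg_lt hc hs), rv_neg hc hs, rv_neg hc (sig_lt hc i hs), rv_sig hc i hs,
    ← neg_one_smul ℤ (rv D T s), refl_smul, neg_one_smul]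

theorem sig_simple (i : Fin D.rank) : sig D T i (D.simple i) = D.neg (D.simple i) := by
  show cond (Nat.beq (D.simple i) (D.simple i)) (negN D (D.simple i)) _ = _
  rw [cond_beq, if_pos rfl, negN_eq hc (simple_lt hc i.2)]

/-- a root supported on one fundamental root is plus or minus that root -/
theorem eq_simple_of_support (i : Fin D.rank) {s : ℕ} (hs : s < D.nroots)
    (h : ∀ j, j ≠ i → rv D T s j = 0) : s = D.simple i ∨ s = D.neg (D.simple i) := by
  have hsum := coroot_pair_self hc hs
  rw [Finset.sum_eq_single i] at hsum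
  · rw [cartan_linear hc i hs, Finset.sum_eq_single i, cm_self hc] at hsum
    · have h' : cv T s i * rv D T s i = 1 := by linarith
      rcases Int.eq_one_or_neg_one_of_mul_eq_one (by rwa [mul_comm] at h') with hh | hh
      · exact Or.inl (rv_inj hc hs (simple_lt hc i.2) (funext fun j => by
          rw [rv_simple hc, Pi.single_apply]; split
          · subst j; exact hh
          · exact h j ‹_›))
      · exact Or.inr (rv_inj hc hs (neg_lt hc (simple_lt hc i.2)) (funext fun j => by
          rw [rv_neg hc (simple_lt hc i.2), rv_simple hc, Pi.neg_apply, Pi.single_apply]; split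
          · subst j; exact hh
          · simpa using h j ‹_›))
    · intro j _ hj; rw [h j hj, mul_zero]
    · simp
  · intro j _ hj
    have := ((root_spec hc hs).2.2.2.2 j j.2).2.2.2.2.2 (h j hj)
    rw [this, zero_mul]
  · simp

/-- a fundamental reflection permutes the other positive roots -/
theorem sig_pos (i : Fin D.rank) {s : ℕ} (hs : s < D.nroots) (hp : D.nroots / 2 ≤ s) (hne : s ≠ D.simple i) :
    D.nroots / 2 ≤ sig D T i s ∧ sig D T i s ≠ D.simple i := by
  have hsn := sig_lt hc i hs
  constructor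
  · by_contra hh
    rcases eq_simple_of_support hc i hs (fun j hj => by
      have h1 : 0 ≤ rv D T s j := (((root_spec hc hs).2.2.2.2 j j.2).2.1 hp).2
      have h2 : rv D T (sig D T i s) j ≤ 0 := (((root_spec hc hsn).2.2.2.2 j j.2).1 (by omega)).2
      rw [rv_sig hc i hs, refl, Pi.sub_apply, Pi.single_apply, if_neg hj, sub_zero] at h2
      omega) with h | h
    · exact hne h
    · have := neg_eq hc (simple_lt hc i.2); have := half_le_simple hc i.2; have := nroots_eq_two_mul hc; omega
  · intro h
    have := sig_sig hc i hs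
    rw [h, sig_simple hc] at this
    have := neg_eq hc (simple_lt hc i.2); have := half_le_simple hc i.2; have := nroots_eq_two_mul hc; omega

/-- induction over the roots by fundamental reflections -/
theorem root_induction {P : ℕ → Prop} (base : ∀ i : Fin D.rank, P (D.simple i))
    (step : ∀ (i : Fin D.rank) (s : ℕ), s < D.nroots → P s → P (sig D T i s)) {r : ℕ} (hr : r < D.nroots) : P r := by
  have key : ∀ a, a < D.nroots → D.nroots / 2 ≤ a → P a ∧ P (D.neg a) := by
    intro a
    induction a using Nat.strong_induction_on with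
    | _ a ih =>
      intro ha hp
      by_cases hs : ∃ i < D.rank, a = D.simple i
      · obtain ⟨i, hi, rfl⟩ := hs
        refine ⟨base ⟨i, hi⟩, ?_⟩
        have := step ⟨i, hi⟩ _ ha (base ⟨i, hi⟩)
        rwa [sig_simple hc] at this
      · push Not at hs
        obtain ⟨⟨i, hi, h1, h2⟩, -⟩ := gen_spec hc ha hp hs
        have hn := sig_lt hc ⟨i, hi⟩ ha
        obtain ⟨k1, k2⟩ := ih _ h1 hn h2
        have := step ⟨i, hi⟩ _ hn k1
        have := step ⟨i, hi⟩ _ (neg_lt hc hn) k2
        rw [sig_neg hc ⟨i, hi⟩ hn, sig_sig hc ⟨i, hi⟩ ha] at this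
        refine ⟨?_, this⟩
        have h := step ⟨i, hi⟩ _ hn k1
        rwa [sig_sig hc ⟨i, hi⟩ ha] at h
  by_cases hp : D.nroots / 2 ≤ r
  · exact (key r hr hp).1
  · have hn := neg_lt hc hr
    have := neg_eq hc hr
    have := nroots_eq_two_mul hc
    have h := (key _ hn (by omega)).2
    rwa [neg_neg_root hc hr] at h

/-- the coroot of a root does not vanish over any field -/
theorem exists_cv_ne_zero (F : Type*) [Field F] {r : ℕ} (hr : r < D.nroots) :
    ∃ j : Fin D.rank, (cv T r j : F) ≠ 0 := by
  refine root_induction hc (P := fun a => ∃ j : Fin D.rank, (cv T a j : F) ≠ 0) (fun i => ⟨i, ?_⟩)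
    (fun i s hs hP => ?_) hr
  · rw [cv_simple hc i.2 i.2, if_pos rfl]; simp
  · by_contra hh
    push Not at hh
    obtain ⟨j, hj⟩ := hP
    apply hj
    have h1 := (refl_spec hc i (sig_lt hc i hs)).2.2.2 j
    rw [sig_sig hc i hs] at h1
    rw [h1]
    split
    · push_cast; simp [hh]
    · simp [hh]

/-- proportional roots agree up to sign -/
theorem eq_or_eq_neg_of_prop {r : ℕ} (hr : r < D.nroots) :
    ∀ s, s < D.nroots → ∀ a b : ℤ, b ≠ 0 → a • rv D T r + b • rv D T s = 0 → s = r ∨ s = D.neg r := by
  refine root_induction hc (P := fun r => ∀ s, s < D.nroots → ∀ a b : ℤ, b ≠ 0 →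
    a • rv D T r + b • rv D T s = 0 → s = r ∨ s = D.neg r) (fun i s hs a b hb h => ?_) (fun i r' hr' hP s hs a b hb h => ?_) hr
  · apply eq_simple_of_support hc i hs
    intro j hj
    have := congrFun h j
    rw [rv_simple hc] at this
    simpa [Pi.single_apply, hj, hb] using this
  · have h' := congrArg (refl D i) h
    rw [refl_add, refl_smul, refl_smul, refl_zero, rv_sig hc i hr', refl_refl hc, ← rv_sig hc i hs] at h'
    rcases hP _ (sig_lt hc i hs) a b hb h' with e | e
    · left; rw [← e, sig_sig hc i hs]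
    · right; rw [← sig_neg hc i hr', ← e, sig_sig hc i hs]

/-- weights of table entries -/
theorem weight_spec {k a : ℕ} (hk : k = 1 ∨ k = 2 ∨ k = 3) (ha : a < D.nroots + D.rank) {row col : D.Idx}
    (h : tabMat D T k a row col ≠ 0) : wI D T row = wI D T col + (k : ℤ) • rv D T a := by
  rw [tabMat_apply] at h
  have hw := allNat_iff.1 (allNat_iff.1 hc.weight a ha) (cd D col) (cd_lt col)
  rw [cond_beq] at hw
  have hne : field ((tabK T k).get a) (cd D col) ≠ 0 := by intro h0; rw [h0] at h; simp at h
  split at hw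
  · rename_i h0
    change field (T.t1.get a ||| T.t2.get a ||| T.t3.get a) _ = 0 at h0
    rw [field_lor, field_lor, Nat.or_eq_zero_iff, Nat.or_eq_zero_iff] at h0
    rcases hk with rfl | rfl | rfl
    · exact absurd h0.1.1 hne
    · exact absurd h0.1.2 hne
    · exact absurd h0.2 hne
  · simp only [cond_false_iff] at hw
    have hcode : weightOK D T k a (cd D col) (field ((tabK T k).get a) (cd D col)) = true := by
      rcases hk with rfl | rfl | rfl
      · exact hw.1
      · exact hw.2.1
      · exact hw.2.2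
    generalize field ((tabK T k).get a) (cd D col) = code at hne hcode h
    rw [weightOK, cond_beq, if_neg hne] at hcode
    change cond (Nat.beq (code % 16) 0) _ _ = true at hcode
    rw [cond_beq] at hcode
    rw [show decCode D T code = cond (Nat.beq code 0) [] (cond (Nat.beq (code % 16) 0) (corVec D T (codeIdx code - 1))
      [(codeIdx code, Int.subNatNat (code % 16) 8)]) from rfl, cond_beq, if_neg hne, cond_beq] at h
    split at hcode
    · rw [if_pos ‹_›, coeffAt_corVec] at h
      rw [cond_false_iff, decide_eq_true_iff, allNat_iff] at hcode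
      obtain ⟨hk1, hsum⟩ := hcode
      rcases row with j | u
      · funext i
        have := hsum i i.2
        rw [decide_eq_true_iff] at this
        rw [hk1, one_smul, wI_inl, Pi.zero_apply, Pi.add_apply]
        exact this.symm
      · rw [cd_inr, if_neg (by omega)] at h; exact absurd rfl h
    · rw [if_neg ‹_›, coeffAt_cons] at h
      rw [cond_false_iff, allNat_iff] at hcode
      obtain ⟨-, hsum⟩ := hcode
      by_cases hrow : codeIdx code = cd D row
      · funext i
        have := hsum i i.2
        rw [decide_eq_true_iff] at this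
        simp only [wI, rv, ← hrow, Pi.add_apply, Pi.smul_apply, smul_eq_mul]
        exact this
      · rw [if_neg hrow] at h; simp at h

end

end CfsgLib.Chev
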