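import Cfsg.Agent.Lib.Chev.Bruhat
/-
The sum of x^(length) over the permutation group of the roots generated by fundamental reflections, computed along
a chain of parabolic subgroups by enumerating the orbit of a fundamental coweight.
-/
set_option autoImplicit false
set_option linter.unusedSectionVars false

namespace CfsgLib.Chev

open Cfsg.Lie

variable {D : ChevalleyDatum} {T : Tabs}

/-- the permutation of the roots given by a word -/
noncomputable def wfun (D : ChevalleyDatum) (T : Tabs) (L : List (Fin D.rank)) : Fin D.nroots → ℕ :=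
  fun r => sigs D T L r.val

/-- the set of permutations given by words in the letters of `J` -/
def WSet (D : ChevalleyDatum) (T : Tabs) (J : List (Fin D.rank)) : Set (Fin D.nroots → ℕ) :=
  {f | ∃ L : List (Fin D.rank), (∀ i ∈ L, i ∈ J) ∧ f = wfun D T L}

/-- the positive roots sent to negative ones -/
def invSet (D : ChevalleyDatum) (f : Fin D.nroots → ℕ) : Finset (Fin D.nroots) :=
  Finset.univ.filter fun r => D.nroots / 2 ≤ r.val ∧ f r < D.nroots / 2

/-- the coordinate of the coweight of `j` transformed by a word -/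
def coord (D : ChevalleyDatum) (j : Fin D.rank) (L : List (Fin D.rank)) (k : Fin D.rank) : ℤ :=
  refls D L.reverse (Pi.single k 1) j

/-- entries of a list of coordinates -/
def gz (v : List ℤ) (k : ℕ) : ℤ := v.getD k 0

/-- a fundamental reflection acting on coweight coordinates -/
def actv (C : List (List ℤ)) (n i : ℕ) (v : List ℤ) : List ℤ :=
  (List.range n).map fun k => gz v k - gz (C.getD i []) k * gz v i

/-- insertion without repetition -/
def addNew (v : List ℤ) (l : List (List ℤ)) : List (List ℤ) := if l.contains v then l else v :: l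

/-- the next level of the orbit -/
def upLevel (C : List (List ℤ)) (n : ℕ) (J : List ℕ) (l : List (List ℤ)) : List (List ℤ) :=
  ((l.flatMap fun v => (J.filter fun i => decide (0 < gz v i)).map fun i => actv C n i v)).foldr addNew []

/-- the levels of the orbit of a fundamental coweight -/
def level (C : List (List ℤ)) (n : ℕ) (J : List ℕ) (j : ℕ) : ℕ → List (List ℤ)
  | 0 => [(List.range n).map fun k => if k = j then 1 else 0]
  | k + 1 => upLevel C n J (level C n J j k)

/-- the list of levels, computed once -/
def levelList (C : List (List ℤ)) (n : ℕ) (J : List ℕ) : ℕ → List (List ℤ) → List (List (List ℤ))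
  | 0, _ => []
  | m + 1, l => l :: levelList C n J m (upLevel C n J l)

/-- the certificate: the first `m` levels are disjoint and closed under the reflections in `J` -/
def orbitCheck (C : List (List ℤ)) (n : ℕ) (J : List ℕ) (j m : ℕ) : Bool :=
  let all := (levelList C n J m [(List.range n).map fun k => if k = j then 1 else 0]).flatten
  decide all.Nodup && (all.all fun v => J.all fun i => all.contains (actv C n i v))

theorem levelList_eq (C : List (List ℤ)) (n : ℕ) (J : List ℕ) (j : ℕ) : ∀ m k,
    levelList C n J m (level C n J j k) = (List.range' k m).map (level C n J j)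
  | 0, k => rfl
  | m + 1, k => by
      rw [levelList, List.range'_succ, List.map_cons, ← levelList_eq C n J j m (k + 1)]
      rfl

theorem foldr_addNew_mem {l : List (List ℤ)} {v : List ℤ} : v ∈ l.foldr addNew [] ↔ v ∈ l := by
  induction l generalizing v with
  | nil => simp
  | cons a l ih =>
      rw [List.foldr_cons, addNew]
      by_cases h : (l.foldr addNew []).contains a = true
      · rw [if_pos h, ih, List.mem_cons]
        rw [List.contains_iff_mem, ih] at h
        exact ⟨Or.inr, fun g => g.elim (fun e => e ▸ h) id⟩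
      · rw [if_neg h, List.mem_cons, List.mem_cons, ih]

theorem mem_invSet {L : List (Fin D.rank)} {r : Fin D.nroots} :
    r ∈ invSet D (wfun D T L) ↔ D.nroots / 2 ≤ r.val ∧ sigs D T L r < D.nroots / 2 := by
  unfold invSet wfun
  exact Finset.mem_filter.trans (and_iff_right (Finset.mem_univ r))

theorem invSet_nil : invSet D (wfun D T []) = ∅ := by
  ext r
  rw [mem_invSet, show sigs D T [] r.val = r.val from rfl]
  simp

theorem refls_sum (L : List (Fin D.rank)) (v : Fin D.rank → ℤ) :
    refls D L v = ∑ k, v k • refls D L (Pi.single k 1) := by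
  have key : ∀ s : Finset (Fin D.rank), refls D L (∑ k ∈ s, v k • (Pi.single k 1 : Fin D.rank → ℤ)) =
      ∑ k ∈ s, v k • refls D L (Pi.single k 1) := by
    intro s
    induction s using Finset.induction_on with
    | empty => simp [refls_zero]
    | @insert a s ha ih => rw [Finset.sum_insert ha, Finset.sum_insert ha, refls_add, refls_smul, ih]
  rw [← key, ← pi_eq_sum_univ']

theorem refls_append (L M : List (Fin D.rank)) (v : Fin D.rank → ℤ) :
    refls D (L ++ M) v = refls D L (refls D M v) := by
  simp [refls, List.foldr_append]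

theorem refls_off {J : List (Fin D.rank)} {L : List (Fin D.rank)} (hL : ∀ i ∈ L, i ∈ J) {k : Fin D.rank}
    (hk : k ∉ J) (v : Fin D.rank → ℤ) : refls D L v k = v k := by
  induction L with
  | nil => rfl
  | cons i L ih =>
      show refl D i (refls D L v) k = v k
      rw [refl, Pi.sub_apply, Pi.single_eq_of_ne (fun e : k = i => hk (e ▸ hL i List.mem_cons_self)), sub_zero,
        ih fun x hx => hL x (List.mem_cons_of_mem _ hx)]

theorem coord_cons (j i : Fin D.rank) (L : List (Fin D.rank)) (k : Fin D.rank) :
    coord D j (i :: L) k = coord D j L k - cm D i k * coord D j L i := by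
  rw [coord, List.reverse_cons, refls_append]
  show refls D L.reverse (refl D i (Pi.single k 1)) j = _
  rw [refl, show (Pi.single i (∑ l, cm D i l * (Pi.single k (1 : ℤ) : Fin D.rank → ℤ) l) : Fin D.rank → ℤ) =
    cm D i k • Pi.single i (1 : ℤ) by
      rw [← Pi.single_smul]; simp [Pi.single_apply],
    sub_eq_add_neg, ← neg_smul, refls_add, refls_smul, Pi.add_apply, Pi.smul_apply, smul_eq_mul, coord, coord]
  ring

section
variable (hc : Checked D T)
include hc

theorem refls_reverse (L : List (Fin D.rank)) (v : Fin D.rank → ℤ) : refls D L.reverse (refls D L v) = v := by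
  induction L generalizing v with
  | nil => rfl
  | cons i L ih =>
      rw [List.reverse_cons, refls_append]
      show refls D L.reverse (refl D i (refl D i (refls D L v))) = v
      rw [refl_refl hc, ih]

theorem wfun_lt (L : List (Fin D.rank)) (r : Fin D.nroots) : wfun D T L r < D.nroots := sigs_lt hc L r.2

theorem wset_finite (J : List (Fin D.rank)) : (WSet D T J).Finite := by
  refine Set.Finite.subset (Set.finite_range fun g : Fin D.nroots → Fin D.nroots => fun r => ((g r : Fin D.nroots) : ℕ)) ?_
  rintro f ⟨L, -, rfl⟩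
  exact ⟨fun r => ⟨wfun D T L r, wfun_lt hc L r⟩, rfl⟩

/-- the length generating function of a parabolic subgroup of the Weyl group -/
noncomputable def wsum (hc : Checked D T) (J : List (Fin D.rank)) (x : ℕ) : ℕ :=
  ∑ f ∈ (wset_finite hc J).toFinset, x ^ (invSet D f).card

theorem wsum_nil (x : ℕ) : wsum hc [] x = 1 := by
  have e : (wset_finite hc ([] : List (Fin D.rank))).toFinset = {wfun D T []} := by
    ext f
    rw [Set.Finite.mem_toFinset, Finset.mem_singleton]
    constructor
    · rintro ⟨L, hL, rfl⟩
      rcases L with _ | ⟨a, L⟩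
      · rfl
      · exact absurd (hL a List.mem_cons_self) (by simp)
    · rintro rfl; exact ⟨[], by simp, rfl⟩
  rw [wsum, e, Finset.sum_singleton, invSet_nil]
  simp

theorem sigs_id_of_pos {L : List (Fin D.rank)} (h : ∀ i : Fin D.rank, D.nroots / 2 ≤ sigs D T L (D.simple i.val))
    {r : ℕ} (hr : r < D.nroots) : sigs D T L r = r := by
  have := sigs_eq_of_mem hc (F := ℚ) (L := L) (M := []) (by simpa using nProd_mem_of_pos hc (F := ℚ) L h) hr
  simpa [sigs] using this

theorem rv_sigs_simple (L : List (Fin D.rank)) (i : Fin D.rank) :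
    rv D T (sigs D T L (D.simple i.val)) = refls D L (Pi.single i 1) := by
  rw [rv_sigs hc L (simple_lt hc i.2), rv_simple hc]

theorem nonneg_of_pos {r : ℕ} (hr : r < D.nroots) (hp : D.nroots / 2 ≤ r) (k : Fin D.rank) : 0 ≤ rv D T r k :=
  (((root_spec hc hr).2.2.2.2 k k.2).2.1 hp).2

theorem nonpos_of_neg {r : ℕ} (hr : r < D.nroots) (hp : r < D.nroots / 2) (k : Fin D.rank) : rv D T r k ≤ 0 :=
  (((root_spec hc hr).2.2.2.2 k k.2).1 hp).2

theorem sig_neg_of_neg (i : Fin D.rank) {u : ℕ} (hu : u < D.nroots) (hneg : u < D.nroots / 2)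
    (hne : u ≠ D.neg (D.simple i.val)) : sig D T i u < D.nroots / 2 := by
  have hn := neg_lt hc hu
  have h2 := nroots_eq_two_mul hc
  have h1 := sig_pos hc i hn (by rw [neg_eq hc hu]; omega)
    (fun e => hne (by rw [← e, neg_neg_root hc hu]))
  rw [sig_neg hc i hu, neg_eq hc (sig_lt hc i hu)] at h1
  have := sig_lt hc i hu (T := T)
  omega

/-- words in `J` fixing the coordinate at `j` are words in the other letters -/
theorem word_of_fix {J J' : List (Fin D.rank)} {j : Fin D.rank} (hJ : ∀ i, i ∈ J → i = j ∨ i ∈ J') :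
    ∀ (m : ℕ) (L : List (Fin D.rank)), L.length = m → (∀ i ∈ L, i ∈ J) → (∀ v, refls D L v j = v j) →
      ∃ M : List (Fin D.rank), (∀ i ∈ M, i ∈ J') ∧ ∀ r, r < D.nroots → sigs D T M r = sigs D T L r := by
  intro m
  induction m using Nat.strong_induction_on with
  | _ m ih =>
    intro L hm hLJ hfix
    by_cases h : ∀ i : Fin D.rank, D.nroots / 2 ≤ sigs D T L (D.simple i.val)
    · exact ⟨[], by simp, fun r hr => (sigs_id_of_pos hc h hr).symm⟩
    push Not at h
    obtain ⟨i, hi⟩ := h
    have hp := simple_lt hc i.2
    have hiJ : i ∈ J := by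
      by_contra hh
      have h1 := nonpos_of_neg hc (sigs_lt hc L hp) hi i
      rw [rv_sigs_simple hc, refls_off hLJ hh, Pi.single_eq_same] at h1
      omega
    have hij : i ≠ j := by
      rintro rfl
      have h1 := nonpos_of_neg hc (sigs_lt hc L hp) hi i
      rw [rv_sigs_simple hc, hfix, Pi.single_eq_same] at h1
      omega
    obtain ⟨L', h1, hsub, h2⟩ := exchange_mod hc (F := ℚ) L i hi
    have hs := fun r (hr : r < D.nroots) => sigs_eq_of_mem hc h2 hr
    have hrefl : ∀ v, refls D L' v = refls D L (refl D i v) := by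
      intro v
      have e : ∀ k, refls D L' (Pi.single k (1 : ℤ)) = refls D (L ++ [i]) (Pi.single k 1) := fun k => by
        rw [← rv_sigs_simple hc, ← rv_sigs_simple hc, hs _ (simple_lt hc k.2)]
      rw [show refls D L (refl D i v) = refls D (L ++ [i]) v from (refls_append L [i] v).symm, refls_sum L' v,
        refls_sum (L ++ [i]) v]
      exact Finset.sum_congr rfl fun k _ => by rw [e]
    obtain ⟨M, hM1, hM2⟩ := ih L'.length (by omega) L' rfl (fun x hx => hLJ x (hsub.subset hx)) (fun v => by
      rw [hrefl, hfix, refl, Pi.sub_apply, Pi.single_eq_of_ne (Ne.symm hij), sub_zero])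
    refine ⟨M ++ [i], ?_, fun r hr => ?_⟩
    · intro x hx
      rcases List.mem_append.1 hx with hx | hx
      · exact hM1 x hx
      · rw [List.mem_singleton.1 hx]; exact (hJ i hiJ).resolve_left hij
    · rw [sigs_append, show sigs D T [i] r = sig D T i r from rfl, hM2 _ (sig_lt hc i hr), ← hs _ (sig_lt hc i hr),
        sigs_append, show sigs D T [i] (sig D T i r) = sig D T i (sig D T i r) from rfl, sig_sig hc i hr]

/-- representatives of the cosets, from the levels of the orbit -/
theorem level_spec (C : List (List ℤ)) (hC : ∀ i k : Fin D.rank, gz (C.getD i.val []) k.val = cm D i k)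
    {J J' : List (Fin D.rank)} {j : Fin D.rank} (hjJ' : j ∉ J') :
    ∀ k v, v ∈ level C D.rank (J.map Fin.val) j.val k → ∃ L : List (Fin D.rank), (∀ i ∈ L, i ∈ J) ∧
      List.ofFn (coord D j L) = v ∧ (invSet D (wfun D T L)).card = k ∧
      ∀ i ∈ J', D.nroots / 2 ≤ sigs D T L (D.simple i.val) := by
  intro k
  induction k with
  | zero =>
      intro v hv
      rw [level, List.mem_singleton] at hv
      refine ⟨[], by simp, ?_, ?_, fun i _ => half_le_simple hc i.2⟩
      · subst hv
        apply List.ext_getElem (by simp)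
        intro a h1 h2
        simp [coord, refls, Pi.single_apply, Fin.ext_iff, eq_comm]
      · rw [Finset.card_eq_zero, invSet_nil]
  | succ k ih =>
      intro v hv
      rw [level, upLevel, foldr_addNew_mem, List.mem_flatMap] at hv
      obtain ⟨u, hu, hv⟩ := hv
      obtain ⟨i0, hi0, rfl⟩ := List.mem_map.1 hv
      rw [List.mem_filter, decide_eq_true_eq] at hi0
      obtain ⟨i, hiJ, rfl⟩ := List.mem_map.1 hi0.1
      obtain ⟨L, hL, hLu, hcard, hmin⟩ := ih u hu
      have hgz : ∀ a : Fin D.rank, gz u a.val = coord D j L a := by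
        intro a
        rw [← hLu, gz, List.getD_eq_getElem?_getD]
        simp
      refine ⟨i :: L, ?_, ?_, ?_, ?_⟩
      · intro x hx
        rcases List.mem_cons.1 hx with rfl | hx
        exacts [hiJ, hL x hx]
      · apply List.ext_getElem (by simp [actv])
        intro a h1 h2
        have ha : a < D.rank := by simpa using h1
        simp only [actv, List.getElem_ofFn, List.getElem_map, List.getElem_range]
        rw [coord_cons, ← hgz, ← hgz, hC i ⟨a, ha⟩ |>.symm]
      all_goals
        have hp := simple_lt hc i.2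
        obtain ⟨r0, hr0def⟩ : ∃ r, r = sigs D T L.reverse (D.simple i.val) := ⟨_, rfl⟩
        have hr0 : r0 < D.nroots := hr0def ▸ sigs_lt hc L.reverse hp
        have hLr0 : sigs D T L r0 = D.simple i.val := by
          rw [hr0def]
          have := sigs_reverse hc L.reverse hp
          rwa [List.reverse_reverse] at this
        have hcpos : 0 < rv D T r0 j := by
          have := hi0.2
          rw [hgz, coord, ← rv_sigs_simple hc, ← hr0def] at this
          exact this
        have hr0pos : D.nroots / 2 ≤ r0 := by
          by_contra hh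
          have := nonpos_of_neg hc hr0 (by omega) j
          omega
      · have e : invSet D (wfun D T (i :: L)) = insert (⟨r0, hr0⟩ : Fin D.nroots) (invSet D (wfun D T L)) := by
          ext s
          simp only [Finset.mem_insert, mem_invSet, sigs_cons]
          have hs := sigs_lt hc L s.2
          constructor
          · rintro ⟨h1, h2⟩
            by_cases e : sigs D T L s = D.simple i.val
            · exact Or.inl (Fin.ext (sigs_injOn hc L s.2 hr0 (e.trans hLr0.symm)))
            · refine Or.inr ⟨h1, ?_⟩
              by_contra hh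
              have := (sig_pos hc i hs (by omega) e).1
              omega
          · rintro (rfl | ⟨h1, h2⟩)
            · refine ⟨hr0pos, ?_⟩
              simp only
              rw [hLr0, sig_simple hc, neg_eq hc hp]
              have := half_le_simple hc i.2; have := nroots_eq_two_mul hc; omega
            · refine ⟨h1, sig_neg_of_neg hc i hs h2 fun e => ?_⟩
              rw [← hLr0, ← sigs_neg hc L hr0] at e
              have e' := sigs_injOn hc L s.2 (neg_lt hc hr0) e
              rw [neg_eq hc hr0] at e'
              have := nroots_eq_two_mul hc; omega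
        rw [e, Finset.card_insert_of_notMem, hcard]
        simp only [mem_invSet, hLr0]
        have := half_le_simple hc i.2; omega
      · intro a ha
        rw [sigs_cons]
        refine (sig_pos hc i (sigs_lt hc L (simple_lt hc a.2)) (hmin a ha) fun e => ?_).1
        rw [← hLr0] at e
        have e' := sigs_injOn hc L (simple_lt hc a.2) hr0 e
        rw [← e', rv_simple hc, Pi.single_eq_of_ne (fun h : j = a => hjJ' (h ▸ ha))] at hcpos
        exact lt_irrefl _ hcpos

theorem support_of_inv {J' M : List (Fin D.rank)} (hM : ∀ i ∈ M, i ∈ J') {r : ℕ} (hr : r < D.nroots)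
    (hp : D.nroots / 2 ≤ r) (hn : sigs D T M r < D.nroots / 2) :
    (∀ k, k ∉ J' → rv D T r k = 0) ∧ ∀ k, k ∉ J' → rv D T (sigs D T M r) k = 0 := by
  have key : ∀ k, k ∉ J' → rv D T (sigs D T M r) k = rv D T r k := fun k hk => by
    rw [rv_sigs hc M hr, refls_off hM hk]
  refine ⟨fun k hk => ?_, fun k hk => ?_⟩ <;>
  · have := nonneg_of_pos hc hr hp k
    have := nonpos_of_neg hc (sigs_lt hc M hr) hn k
    have := key k hk
    omega

/-- a minimal representative preserves the signs of the roots supported in `J'` -/
theorem pos_of_support {J' L : List (Fin D.rank)} (hmin : ∀ i ∈ J', D.nroots / 2 ≤ sigs D T L (D.simple i.val))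
    {s : ℕ} (hs : s < D.nroots) (hp : D.nroots / 2 ≤ s) (hsupp : ∀ k, k ∉ J' → rv D T s k = 0) :
    D.nroots / 2 ≤ sigs D T L s := by
  have h0 : 0 ≤ keyLin D (rv D T (sigs D T L s)) := by
    rw [rv_sigs hc L hs, refls_sum]
    have : keyLin D (∑ k, rv D T s k • refls D L (Pi.single k 1)) =
        ∑ k, rv D T s k * keyLin D (refls D L (Pi.single k 1)) := by
      simp only [keyLin, Finset.sum_apply, Pi.smul_apply, smul_eq_mul, Finset.sum_mul, Finset.mul_sum]
      rw [Finset.sum_comm]
      exact Finset.sum_congr rfl fun k _ => Finset.sum_congr rfl fun a _ => by ring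
    rw [this]
    refine Finset.sum_nonneg fun k _ => ?_
    by_cases hk : k ∈ J'
    · refine mul_nonneg (nonneg_of_pos hc hs hp k) ?_
      rw [← rv_sigs_simple hc]
      exact ((key_pos_iff hc (sigs_lt hc L (simple_lt hc k.2))).2 (hmin k hk)).le
    · rw [hsupp k hk, zero_mul]
  by_contra hh
  have := (key_neg_iff hc (sigs_lt hc L hs)).2 (by omega)
  omega

theorem inv_add {J' L M : List (Fin D.rank)} (hM : ∀ i ∈ M, i ∈ J')
    (hmin : ∀ i ∈ J', D.nroots / 2 ≤ sigs D T L (D.simple i.val)) :
    (invSet D (wfun D T (L ++ M))).card = (invSet D (wfun D T L)).card + (invSet D (wfun D T M)).card := by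
  classical
  have h2 := nroots_eq_two_mul hc
  -- the part coming from L
  set A := (invSet D (wfun D T L)).image fun s : Fin D.nroots =>
    (⟨sigs D T M.reverse s, sigs_lt hc _ s.2⟩ : Fin D.nroots)
  have hA : A.card = (invSet D (wfun D T L)).card :=
    Finset.card_image_of_injective _ fun a b e => Fin.ext (sigs_injOn hc _ a.2 b.2 (congrArg Fin.val e))
  have hMM : ∀ {s}, s < D.nroots → sigs D T M (sigs D T M.reverse s) = s := fun hs => by
    have := sigs_reverse hc M.reverse hs
    rwa [List.reverse_reverse] at this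
  have hmem : ∀ r : Fin D.nroots, r ∈ A ↔ D.nroots / 2 ≤ sigs D T M r ∧ sigs D T L (sigs D T M r) < D.nroots / 2 := by
    intro r
    simp only [A, Finset.mem_image, mem_invSet]
    constructor
    · rintro ⟨s, hs, rfl⟩; simp only; rw [hMM s.2]; exact hs
    · intro h
      exact ⟨⟨_, sigs_lt hc M r.2⟩, h, Fin.ext (sigs_reverse hc M r.2)⟩
  have hpos : ∀ r : Fin D.nroots, r ∈ A → D.nroots / 2 ≤ r.val := by
    intro r hr
    rw [hmem] at hr
    by_contra hh
    have hn := neg_lt hc r.2
    have hnp : D.nroots / 2 ≤ D.neg r := by rw [neg_eq hc r.2]; omega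
    have hs := sigs_lt hc M r.2 (T := T)
    have hsn : sigs D T M (D.neg r) < D.nroots / 2 := by rw [sigs_neg hc M r.2, neg_eq hc hs]; omega
    have hsupp := (support_of_inv hc hM hn hnp hsn).2
    have := pos_of_support hc hmin hs hr.1 fun k hk => by
      have := hsupp k hk
      rw [sigs_neg hc M r.2, rv_neg hc hs, Pi.neg_apply, neg_eq_zero] at this
      exact this
    omega
  have e : invSet D (wfun D T (L ++ M)) = A ∪ invSet D (wfun D T M) := by
    ext r
    simp only [Finset.mem_union, mem_invSet, sigs_append, hmem]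
    constructor
    · rintro ⟨h1, h3⟩
      rcases Nat.lt_or_ge (sigs D T M r) (D.nroots / 2) with g | g
      · exact Or.inr ⟨h1, g⟩
      · exact Or.inl ⟨g, h3⟩
    · rintro (h | ⟨h1, h3⟩)
      · exact ⟨hpos r ((hmem r).2 h), h.2⟩
      · refine ⟨h1, ?_⟩
        have hs := sigs_lt hc M r.2 (T := T)
        have hns := neg_lt hc hs
        have hsupp := (support_of_inv hc hM r.2 h1 h3).2
        have := pos_of_support hc hmin hns (by rw [neg_eq hc hs]; omega) fun k hk => by
          rw [rv_neg hc hs, Pi.neg_apply, hsupp k hk, neg_zero]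
        rw [sigs_neg hc L hs, neg_eq hc (sigs_lt hc L hs)] at this
        omega
  rw [e, Finset.card_union_of_disjoint, hA]
  rw [Finset.disjoint_left]
  intro r hr hr'
  rw [hmem] at hr
  rw [mem_invSet] at hr'
  omega

/-- one step down the parabolic chain -/
theorem wsum_step (C : List (List ℤ)) (hC : ∀ i k : Fin D.rank, gz (C.getD i.val []) k.val = cm D i k)
    {J J' : List (Fin D.rank)} {j : Fin D.rank} (hJ : J = J' ++ [j]) (hjJ' : j ∉ J') {m : ℕ} (hm : 0 < m)
    (hcheck : orbitCheck C D.rank (J.map Fin.val) j.val m = true) (x : ℕ) :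
    wsum hc J x =
      (∑ k ∈ Finset.range m, (level C D.rank (J.map Fin.val) j.val k).toFinset.card * x ^ k) * wsum hc J' x := by
  classical
  set Jn := J.map Fin.val
  have hJ1 : ∀ i, i ∈ J → i = j ∨ i ∈ J' := fun i hi => by
    rw [hJ, List.mem_append, List.mem_singleton] at hi; tauto
  have hJ2 : ∀ i, i ∈ J' → i ∈ J := fun i hi => by rw [hJ]; exact List.mem_append_left _ hi
  rw [orbitCheck, Bool.and_eq_true, decide_eq_true_eq] at hcheck
  have hall : (levelList C D.rank Jn m [(List.range D.rank).map fun k => if k = j.val then (1 : ℤ) else 0]).flatten =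
      ((List.range m).map (level C D.rank Jn j.val)).flatten := by
    rw [List.range_eq_range' (n := m), ← levelList_eq C D.rank Jn j.val m 0]; rfl
  simp only [hall] at hcheck
  set all := ((List.range m).map (level C D.rank Jn j.val)).flatten
  obtain ⟨hnd, hcl⟩ := hcheck
  simp only [List.all_eq_true, List.contains_iff_mem] at hcl
  have hmemall : ∀ v, v ∈ all ↔ ∃ k < m, v ∈ level C D.rank Jn j.val k := by
    intro v; simp [all, List.mem_flatten]
  have hdisj : ∀ k < m, ∀ k' < m, ∀ v, v ∈ level C D.rank Jn j.val k → v ∈ level C D.rank Jn j.val k' → k = k' := by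
    intro k hk k' hk' v h h'
    by_contra hne
    have hp := (List.nodup_flatten.1 hnd).2
    rw [List.pairwise_map] at hp
    have hp' := List.pairwise_iff_getElem.1 hp
    rcases Nat.lt_or_gt_of_ne hne with g | g
    · have := hp' k k' (by simpa using hk) (by simpa using hk') g
      simp only [List.getElem_range] at this
      exact this h h'
    · have := hp' k' k (by simpa using hk') (by simpa using hk) g
      simp only [List.getElem_range] at this
      exact this h' h
  -- every word has its coordinates in the orbit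
  have hcover : ∀ L : List (Fin D.rank), (∀ i ∈ L, i ∈ J) → List.ofFn (coord D j L) ∈ all := by
    intro L
    induction L with
    | nil =>
        intro _
        rw [hmemall]
        refine ⟨0, ?_, ?_⟩
        · exact hm
        · rw [level, List.mem_singleton]
          apply List.ext_getElem (by simp)
          intro a h1 h2
          simp [coord, refls, Pi.single_apply, Fin.ext_iff, eq_comm]
    | cons i L ih =>
        intro h
        have h' := hcl _ (ih fun y hy => h y (List.mem_cons_of_mem _ hy)) i.val
          (List.mem_map_of_mem (h i List.mem_cons_self))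
        convert h' using 1
        apply List.ext_getElem (by simp [actv])
        intro a h1 h2
        have ha : a < D.rank := by simpa using h1
        simp only [actv, List.getElem_ofFn, List.getElem_map, List.getElem_range]
        rw [coord_cons, hC i ⟨a, ha⟩, gz, gz, List.getD_eq_getElem?_getD, List.getD_eq_getElem?_getD]
        simp [ha]
  choose rep hrep using fun (k : ℕ) (v : {v // v ∈ level C D.rank Jn j.val k}) =>
    level_spec hc C hC (J := J) hjJ' k v.1 v.2
  set S := (Finset.range m).sigma fun k => (level C D.rank Jn j.val k).toFinset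
  let g : (Σ _ : ℕ, List ℤ) × (Fin D.nroots → ℕ) → (Fin D.nroots → ℕ) := fun a r =>
    if h : a.1.2 ∈ level C D.rank Jn j.val a.1.1 then sigs D T (rep a.1.1 ⟨a.1.2, h⟩) (a.2 r) else 0
  have hg : ∀ k v (h : v ∈ level C D.rank Jn j.val k) (M : List (Fin D.rank)),
      g (⟨k, v⟩, wfun D T M) = wfun D T (rep k ⟨v, h⟩ ++ M) := fun k v h M => by
    funext r
    simp only [g, dif_pos h, wfun, sigs_append]
  have hSmem : ∀ k v, (⟨k, v⟩ : Σ _ : ℕ, List ℤ) ∈ S ↔ k < m ∧ v ∈ level C D.rank Jn j.val k := by
    intro k v; simp [S]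
  have hfin : ∀ J f, f ∈ (wset_finite hc J).toFinset ↔ f ∈ WSet D T J := fun J f => Set.Finite.mem_toFinset _
  rw [wsum, show (∑ k ∈ Finset.range m, (level C D.rank Jn j.val k).toFinset.card * x ^ k) =
    ∑ a ∈ S, x ^ a.1 by rw [Finset.sum_sigma]; simp, wsum, Finset.sum_mul_sum, ← Finset.sum_product']
  symm
  refine Finset.sum_bij (fun a _ => g a) ?_ ?_ ?_ ?_
  · rintro ⟨⟨k, v⟩, f⟩ ha
    rw [Finset.mem_product, hSmem, hfin] at ha
    obtain ⟨⟨hk, hv⟩, M, hM, rfl⟩ := ha
    rw [hfin, hg k v hv]
    refine ⟨_, fun i hi => ?_, rfl⟩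
    rcases List.mem_append.1 hi with hi | hi
    · exact (hrep k ⟨v, hv⟩).1 i hi
    · exact hJ2 i (hM i hi)
  · rintro ⟨⟨k, v⟩, f⟩ ha ⟨⟨k', v'⟩, f'⟩ hb e
    rw [Finset.mem_product, hSmem, hfin] at ha hb
    obtain ⟨⟨hk, hv⟩, M, hM, rfl⟩ := ha
    obtain ⟨⟨hk', hv'⟩, M', hM', rfl⟩ := hb
    rw [hg k v hv, hg k' v' hv'] at e
    have hco : ∀ (L M : List (Fin D.rank)), (∀ i ∈ M, i ∈ J') →
        ∀ a, coord D j (L ++ M) a = coord D j L a := fun L M hM a => by
      rw [coord, coord, List.reverse_append, refls_append, refls_off (fun i hi => hM i (List.mem_reverse.1 hi)) hjJ']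
    have hcoord : ∀ L L' : List (Fin D.rank), (∀ r, r < D.nroots → sigs D T L r = sigs D T L' r) →
        coord D j L = coord D j L' := by
      intro L L' h
      funext a
      rw [coord, coord, ← rv_sigs_simple hc, ← rv_sigs_simple hc]
      refine congrFun (congrArg (rv D T) ?_) j
      refine sigs_injOn hc L (sigs_lt hc _ (simple_lt hc a.2)) (sigs_lt hc _ (simple_lt hc a.2)) ?_
      have h1 := sigs_reverse hc L.reverse (simple_lt hc a.2)
      have h2 := sigs_reverse hc L'.reverse (simple_lt hc a.2)
      rw [List.reverse_reverse] at h1 h2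
      rw [h1, h _ (sigs_lt hc _ (simple_lt hc a.2)), h2]
    have e' : ∀ r, r < D.nroots →
        sigs D T (rep k ⟨v, hv⟩ ++ M) r = sigs D T (rep k' ⟨v', hv'⟩ ++ M') r := fun r hr => congrFun e ⟨r, hr⟩
    have hvv : v = v' := by
      refine ((hrep k ⟨v, hv⟩).2.1).symm.trans (Eq.trans ?_ (hrep k' ⟨v', hv'⟩).2.1)
      rw [← funext (hco (rep k ⟨v, hv⟩) M hM),
        ← funext (hco (rep k' ⟨v', hv'⟩) M' hM'), hcoord _ _ e']
    subst hvv
    obtain rfl := hdisj k hk k' hk' v hv hv'
    refine Prod.ext rfl (funext fun r => ?_)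
    have h := e' r r.2
    rw [sigs_append, sigs_append] at h
    exact sigs_injOn hc _ (sigs_lt hc M r.2) (sigs_lt hc M' r.2) h
  · intro f hf
    rw [hfin] at hf
    obtain ⟨L, hL, rfl⟩ := hf
    obtain ⟨k, hk, hv⟩ := (hmemall _).1 (hcover L hL)
    set L0 := rep k ⟨_, hv⟩
    obtain ⟨hL0, hcoord, -, -⟩ := hrep k ⟨_, hv⟩
    have hfix : ∀ y, refls D (L0.reverse ++ L) y j = y j := by
      intro y
      have h1 : ∀ a, coord D j L0 a = coord D j L a := fun a => congrFun (List.ofFn_injective hcoord) a
      rw [refls_append, refls_sum, Finset.sum_apply]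
      conv_rhs => rw [← refls_reverse hc L y]
      rw [refls_sum L.reverse, Finset.sum_apply]
      exact Finset.sum_congr rfl fun a _ => by
        simp only [Pi.smul_apply]
        congr 1
        exact h1 a
    obtain ⟨M, hM, hMs⟩ := word_of_fix hc hJ1 _ (L0.reverse ++ L) rfl (fun i hi => by
      rcases List.mem_append.1 hi with hi | hi
      exacts [hL0 i (List.mem_reverse.1 hi), hL i hi]) hfix
    refine ⟨(⟨k, _⟩, wfun D T M), Finset.mem_product.2 ⟨(hSmem _ _).2 ⟨hk, hv⟩, (hfin _ _).2 ⟨M, hM, rfl⟩⟩, ?_⟩
    rw [hg k _ hv]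
    funext r
    simp only [wfun, sigs_append, hMs _ r.2]
    have := sigs_reverse hc L0.reverse (sigs_lt hc L r.2)
    rwa [List.reverse_reverse] at this
  · rintro ⟨⟨k, v⟩, f⟩ ha
    rw [Finset.mem_product, hSmem, hfin] at ha
    obtain ⟨⟨hk, hv⟩, M, hM, rfl⟩ := ha
    rw [hg k v hv, inv_add hc hM (hrep k ⟨v, hv⟩).2.2.2, (hrep k ⟨v, hv⟩).2.2.1, pow_add]

end

end CfsgLib.Chev
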